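import Cfsg.Agent.WreathP.Block
import Cfsg.Agent.WreathS.CaseB

/-!
Two slots of dimension at least four in odd characteristic: every radical shape occurs (helper56).
-/

set_option autoImplicit false
set_option linter.unusedSectionVars false

namespace Cfsg.Agent.WreathP

open Matrix Cfsg.Agent.MaxSub Cfsg.Agent.MaxSub.Asch Cfsg.Agent.FG75.SpinTensor Cfsg.Agent.WreathMax Cfsg.Agent.WreathS

variable {F : Type*} [Field F] [Finite F] {k t : ℕ} {π : Sgn F (Fin k)}
  {H : Subgroup (GL (Fin (t + 1) → Fin k) F)}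

theorem cj_one {H : Subgroup (GL (Fin t → Fin k) F)} : cj 1 H = H := by
  ext g
  simp [mem_cj, factorPerm_one]

theorem blk_adjoint {X : Matrix (Fin t → Fin k) (Fin t → Fin k) F} (hX : Blk π H X) :
    Blk π H (adj (powS π t) X) := by
  intro e d he hed hind
  have hd : d ≠ 0 := fun h => hind 0 (by rw [h, zero_smul])
  obtain ⟨g, hg, eg⟩ := hX d e hd (bf_eq_zero_comm π hed) fun c hc => by
    rcases eq_or_ne c 0 with rfl | hc0
    · exact he (by rw [hc, zero_smul])
    · exact hind c⁻¹ (by rw [hc, smul_smul, inv_mul_cancel₀ hc0, one_smul])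
  refine ⟨g, hg, ?_⟩
  rw [eg, yel, yel, adj_adj, add_comm (kz (rk π d e) X)]

theorem blk_neg {X : Matrix (Fin t → Fin k) (Fin t → Fin k) F} (hX : Blk π H X) : Blk π H (-X) :=
  neg_one_smul F X ▸ blk_smul hX (-1)

theorem blk_sub (hπ : Alt0 π) {X Y : Matrix (Fin t → Fin k) (Fin t → Fin k) F} (hX : Blk π H X) (hY : Blk π H Y) :
    Blk π H (X - Y) := sub_eq_add_neg X Y ▸ blk_add hπ hX (blk_neg hY)

/-- The blocks as a submodule. -/
def blkSub (hπ : Alt0 π) : Submodule F (Matrix (Fin t → Fin k) (Fin t → Fin k) F) where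
  carrier := {X | Blk π H X}
  zero_mem' := blk_zero
  add_mem' := blk_add hπ
  smul_mem' c _ hX := blk_smul hX c

theorem blkSub_inv (hπ : Alt0 π) (hM : HasRoots π H) : RootInv π (blkSub (H := H) hπ) :=
  fun i x c _ hZ => blk_conj_root hπ hM hZ i x c

/-- The blocks move with the isometries of a slot. -/
theorem blk_slot_conj (hπ : Alt0 π) (hM : HasRoots π H) {g : GL (Fin k) F} (hg : g ∈ U π) {l : Fin t}
    {M : Matrix (Fin k) (Fin k) F} (h : Blk π H (slot l M)) :
    Blk π H (slot l ((g : Matrix (Fin k) (Fin k) F) * M * ((g⁻¹ : GL (Fin k) F) : Matrix (Fin k) (Fin k) F))) := by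
  have h1 : slot l M ∈ blkSub (H := H) hπ := h
  have h2 := (blkSub_inv hπ hM).conj_slotU hπ l hg h1
  rw [conjHom_apply, show (slotU (t := t) l g)⁻¹ = slotU l g⁻¹ from inv_eq_of_mul_eq_one_right (by
    rw [← slotU_mul, mul_inv_cancel]; exact Units.ext (by rw [slotU_coe, Units.val_one, slot_one', Units.val_one])),
    slotU_coe, slotU_coe, ← slot_mul', ← slot_mul'] at h2
  exact h2

/-- A torus element removes the top. -/
theorem blk_of_top (halt : π.Alt) (hM : HasRoots π H) {u q : Fin k → F} (hu : u ≠ 0) (huq : bf π u q = 0)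
    (hind : ∀ c : F, q ≠ c • u) {g : GL (Fin (t + 1) → Fin k) F} (hg : g ∈ H)
    {X Z : Matrix (Fin t → Fin k) (Fin t → Fin k) F}
    (eg : g.val = 1 + yel π u q X + kz (rk π u u) Z) : Blk π H X := by
  have hπ := Alt0.of_alt halt
  have hqu : bf π q u = 0 := bf_eq_zero_comm π huq
  have hi : ∀ c : F, u ≠ c • q := fun c hc => by
    rcases eq_or_ne c 0 with rfl | hc0
    · exact hu (by rw [hc, zero_smul])
    · exact hind c⁻¹ (by rw [hc, smul_smul, inv_mul_cancel₀ hc0, one_smul])
  obtain ⟨r, hr, hrq, hru⟩ := exists_move hπ (e := q) (v := u) (w := -u) (by rw [bf_neg_right, hqu, neg_zero]) hi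
    (fun c hc => hi (-c) (by rw [neg_smul, ← hc, neg_neg]))
  set Y := yel π u q X with hY
  set E := kz (rk π u u) Z with hE
  have hYY : Y * Y = 0 := yel_sq hπ huq _ _
  have hk1 : E * Y = 0 ∧ Y * E = 0 ∧ E * E = 0 := by
    simp only [hY, hE, yel, mul_add, add_mul, kz_mul, rk_mul, hπ.self, huq, hqu, zero_smul, kz_zero_left, add_zero,
      and_self]
  obtain ⟨hEY, hYE, hEE⟩ := hk1
  set h := kzU r 1 * g * (kzU r (1 : GL (Fin t → Fin k) F))⁻¹ with hh
  have hhH : h ∈ H := mul_mem (mul_mem (kzU_one_mem hπ hM hr) hg) (inv_mem (kzU_one_mem hπ hM hr))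
  have eh : h.val = 1 - Y + E := by
    rw [hh, Units.val_mul, Units.val_mul, eg, add_assoc, conj_one_add, sub_eq_add_neg, add_assoc]
    congr 1
    rw [show (kzU r (1 : GL (Fin t → Fin k) F))⁻¹ = kzU r⁻¹ 1 from inv_eq_of_mul_eq_one_right (by
      rw [kzU_mul, mul_inv_cancel, one_mul]; exact Units.ext (by rw [kzU_coe, Units.val_one, Units.val_one, kz_one, Units.val_one])),
      kzU_coe, kzU_coe, hY, hE, yel]
    have n1 : ∀ z, rk π (-u) z = -rk π u z := fun z => by rw [← neg_one_smul F u, rk_smul_left, neg_one_smul]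
    have n2 : ∀ z, rk π z (-u) = -rk π z u := fun z => by rw [← neg_one_smul F u, rk_smul_right, neg_one_smul]
    simp only [mul_add, add_mul, kz_mul, conj_rk π hr, hru, hrq, Units.val_one, one_mul, mul_one, n1, n2, neg_neg,
      kz_neg_left, neg_add]
  have hhi : (h⁻¹).val = 1 + Y - E := left_inv_eq_right_inv (Units.inv_mul h) (by
    rw [eh]
    simp only [mul_sub, sub_mul, mul_add, add_mul, mul_one, one_mul, hYY, hEY, hYE, hEE]
    abel)
  have h2 : Blk π H (X + X) := by
    refine blk_of_pair hπ hM hu huq hind ⟨g * h⁻¹, mul_mem hg (inv_mem hhH), ?_⟩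
    rw [Units.val_mul, eg, hhi, yel_add, ← hY]
    simp only [mul_sub, add_mul, mul_add, mul_one, one_mul, hYY, hEY, hYE, hEE]
    abel
  have h3 := blk_smul h2 (2⁻¹ : F)
  rwa [← two_smul F X, smul_smul, inv_mul_cancel₀ halt.two, one_smul] at h3

/-- The top shapes with the symmetric block `σ` lie in `H`. -/
def Cin (π : Sgn F (Fin k)) (H : Subgroup (GL (Fin (t + 1) → Fin k) F))
    (σ : Matrix (Fin t → Fin k) (Fin t → Fin k) F) : Prop :=
  ∀ u : Fin k → F, u ≠ 0 → ∃ g ∈ H, g.val = 1 + kz (rk π u u) σ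

/-- Commutators with the top shapes multiply the blocks on the left. -/
theorem blk_lmul (halt : π.Alt) (hk : 3 ≤ k) (hM : HasRoots π H) {σ α : Matrix (Fin t → Fin k) (Fin t → Fin k) F}
    (hσ : adj (powS π t) σ = σ) (hC : Cin π H σ) (hα : Blk π H α) : Blk π H (σ * α) := by
  have hπ := Alt0.of_alt halt
  obtain ⟨u, q, hu, huq, hind⟩ := exists_orth (k := k) hπ hk
  have hq : q ≠ 0 := fun e => hind 0 (by rw [e, zero_smul])
  have hi : ∀ c : F, u ≠ c • q := fun c hc => by
    rcases eq_or_ne c 0 with rfl | hc0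
    · exact hu (by rw [hc, zero_smul])
    · exact hind c⁻¹ (by rw [hc, smul_smul, inv_mul_cancel₀ hc0, one_smul])
  obtain ⟨w, huw, hqw⟩ := exists_dual hπ hq hi
  set p := -w
  have hup : bf π u p = -1 := by rw [bf_neg_right, huw]
  have hpu : bf π p u = 1 := by rw [hπ.skew, hup, neg_neg]
  have hpq : bf π p q = 0 := by rw [bf_neg_left, bf_eq_zero_comm π hqw, neg_zero]
  have hqu : bf π q u = 0 := bf_eq_zero_comm π huq
  obtain ⟨h, hh, eh⟩ := hα p q (fun e => by rw [e, bf_zero_left] at hpu; exact zero_ne_one hpu) hpq fun c e => by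
    have h1 := hqu
    rw [e, bf_smul_left, hpu, mul_one] at h1
    exact hq (by rw [e, h1, zero_smul])
  obtain ⟨g, hg, eg⟩ := hC u hu
  set A := kz (rk π u u) σ with hA
  set B := yel π p q α with hB
  have hAA : A * A = 0 := by rw [hA, kz_mul, hπ.rk_sq, kz_zero_left]
  have hBB : B * B = 0 := yel_sq hπ hpq _ _
  have hgi : (g⁻¹).val = 1 - A := left_inv_eq_right_inv (Units.inv_mul g) (by
    rw [eg, mul_sub, mul_one, add_mul, one_mul, hAA, add_zero, add_sub_cancel_right])
  have hhi : (h⁻¹).val = 1 - B := left_inv_eq_right_inv (Units.inv_mul h) (by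
    rw [eh, mul_sub, mul_one, add_mul, one_mul, hBB, add_zero, add_sub_cancel_right])
  have hABA : A * B * A = 0 := by
    simp only [hA, hB, yel, mul_add, add_mul, kz_mul, rk_mul, smul_mul_assoc, hpu, huq, hqu, zero_smul, one_smul,
      smul_zero, kz_zero_left, zero_mul, add_zero]
  have hBAB : B * A * B = kz (rk π q q) (-(adj (powS π t) α * σ * α)) := by
    simp only [hA, hB, yel, mul_add, add_mul, kz_mul, rk_mul, smul_mul_assoc, hpu, hup, huq, hqu, zero_smul,
      one_smul, smul_zero, kz_zero_left, zero_mul, add_zero, zero_add, neg_smul, kz_neg_left, kz_neg_right, neg_mul,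
      neg_zero]
  have hAB : A * B - B * A = yel π u q (σ * α) := by
    simp only [hA, hB, yel, mul_add, add_mul, kz_mul, rk_mul, hpu, hup, huq, hqu, zero_smul, one_smul, neg_smul,
      kz_zero_left, kz_neg_left, add_zero, zero_add, adj_mul, hσ, sub_neg_eq_add]
  have hswap : yel π q u (adj (powS π t) (σ * α)) = yel π u q (σ * α) := by
    rw [yel, yel, adj_adj]
    exact add_comm _ _
  have h1 : Blk π H (adj (powS π t) (σ * α)) := by
    refine blk_of_top halt hM hq hqu hi (g := g * h * g⁻¹ * h⁻¹)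
      (mul_mem (mul_mem (mul_mem hg hh) (inv_mem hg)) (inv_mem hh)) (Z := -(adj (powS π t) α * σ * α)) ?_
    rw [hswap, ← hAB, ← hBAB, Units.val_mul, Units.val_mul, Units.val_mul, eg, eh, hgi, hhi]
    simp only [mul_add, add_mul, mul_sub, sub_mul, one_mul, mul_one, hAA, hBB, hABA, mul_assoc A B B,
      mul_zero, zero_mul]
    abel
  have h2 := blk_adjoint h1
  rwa [adj_adj] at h2

section Two

variable {K : Subgroup (GL (Fin (1 + 1) → Fin k) F)}

/-- The swap of the two slots. -/
abbrev sw : Equiv.Perm (Fin (1 + 1)) := Equiv.swap 0 1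

theorem cj_sw_sw : cj sw (cj sw K) = K := by
  rw [cj_cj, Equiv.swap_mul_self, cj_one]

/-- The symmetric blocks. -/
def SymIn (π : Sgn F (Fin k)) (K : Subgroup (GL (Fin (1 + 1) → Fin k) F)) : Prop :=
  ∀ x : Fin k → F, Blk π K (slot (0 : Fin 1) (rk π x x))

/-- The skew rank two block of an orthogonal pair. -/
abbrev sig (π : Sgn F (Fin k)) (e d : Fin k → F) : Matrix (Fin 1 → Fin k) (Fin 1 → Fin k) F :=
  slot (0 : Fin 1) (rk π e d - rk π d e)

/-- The top shapes with skew blocks. -/
def CAlt (π : Sgn F (Fin k)) (K : Subgroup (GL (Fin (1 + 1) → Fin k) F)) : Prop :=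
  ∀ e d : Fin k → F, e ≠ 0 → bf π e d = 0 → (∀ c : F, d ≠ c • e) → Cin π K (sig π e d)

/-- The skew blocks. -/
def AltIn (π : Sgn F (Fin k)) (K : Subgroup (GL (Fin (1 + 1) → Fin k) F)) : Prop :=
  ∀ e d : Fin k → F, e ≠ 0 → bf π e d = 0 → (∀ c : F, d ≠ c • e) → Blk π K (sig π e d)

theorem adj_sig (hπ : Alt0 π) (e d : Fin k → F) : adj (powS π 1) (sig π e d) = sig π e d := by
  rw [sig, adj_slot, adj_sub, hπ.adj_rk', hπ.adj_rk', neg_sub_neg]

theorem calt_of_sym (hπ : Alt0 π) (h : SymIn π (cj sw K)) : CAlt π K := by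
  intro e d he hed hind u _
  obtain ⟨g, hg, eg⟩ := InR.spread (σ := sw) (l := (0 : Fin 1)) hπ (by simp) (by simp) (h u e d he hed hind)
  rw [cj_sw_sw] at hg
  refine ⟨g, hg, ?_⟩
  rw [eg, yel, adj_slot, hπ.adj_rk', ← kz_add_right, ← slot_add', sig, sub_eq_add_neg]

theorem alt_of_calt (halt : π.Alt) (hk : 3 ≤ k) (hM : HasRoots π K) (h : CAlt π K) : AltIn π K :=
  fun e d he hed hind => by
    simpa using blk_lmul halt hk hM (adj_sig (Alt0.of_alt halt) e d) (h e d he hed hind)
      (blk_one (Alt0.of_alt halt) hM)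

theorem sym_of_alt (halt : π.Alt) (hk : 3 ≤ k) (hM : HasRoots π K) (h : AltIn π (cj sw K)) : SymIn π K := by
  have hπ := Alt0.of_alt halt
  have hQ : ∀ e d : Fin k → F, e ≠ 0 → bf π e d = 0 → (∀ c : F, d ≠ c • e) →
      Blk π K (slot (0 : Fin 1) (rk π e d + rk π d e)) := by
    intro e d he hed hind
    obtain ⟨a, b, ha, hab, habi⟩ := exists_orth (k := k) hπ hk
    obtain ⟨g, hg, eg⟩ := h a b ha hab habi e d he hed hind
    refine blk_of_pair hπ hM ha hab habi ⟨factorPerm sw * g * (factorPerm sw)⁻¹, ?_, ?_⟩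
    · have := conj_mem_cj (σ := sw) hg
      rwa [cj_sw_sw] at this
    rw [Units.val_mul, Units.val_mul, eg, conj_one_add, ← conjHom_apply]
    congr 1
    have hs0 : sw (0 : Fin (1 + 1)) = 1 := Equiv.swap_apply_left _ _
    have hs1 : sw ((0 : Fin 1).succ : Fin (1 + 1)) = 0 := Equiv.swap_apply_right _ _
    simp only [yel, adj_slot, adj_sub, adj_add, hπ.adj_rk', map_add, kz_slot, map_mul, conj_factorPerm_slot, hs0, hs1]
    simp only [slot_add', slot_sub', ← neg_one_smul F (rk π _ _), slot_smul', mul_add, add_mul, mul_sub, sub_mul,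
      smul_mul_assoc, mul_smul_comm]
    rw [show ((0 : Fin 1).succ : Fin (1 + 1)) = 1 from rfl]
    simp only [slot_comm (show (1 : Fin (1 + 1)) ≠ 0 by decide)]
    simp only [neg_one_smul]
    abel
  intro x
  by_cases hx : x = 0
  · rw [hx, rk_zero_left, slot_zero']; exact blk_zero
  obtain ⟨e, d, he, hed, hind⟩ := exists_orth (k := k) hπ hk
  obtain ⟨g, hg, hge⟩ := exists_map hπ he hx
  have h2 := blk_sub hπ (hQ e (d + e) he (by rw [bf_add_right, hed, hπ.self, add_zero])
    (fun c hc => hind (c - 1) (by rw [sub_smul, one_smul, ← hc, add_sub_cancel_right]))) (hQ e d he hed hind)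
  have h3 : Blk π K (slot (0 : Fin 1) (rk π e e)) := by
    have h4 := blk_smul h2 (2⁻¹ : F)
    rwa [← slot_sub', rk_add_left, rk_add_right,
      show rk π e d + rk π e e + (rk π d e + rk π e e) - (rk π e d + rk π d e) = (2 : F) • rk π e e by
        rw [two_smul]; abel,
      slot_smul', smul_smul, inv_mul_cancel₀ halt.two, one_smul] at h4
  have h5 := blk_slot_conj hπ hM hg h3
  rwa [conj_rk π hg, hge] at h5

theorem sym_of_calt (halt : π.Alt) (hk : 3 ≤ k) (hM : HasRoots π K) (h : CAlt π K) : SymIn π K := by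
  have hπ := Alt0.of_alt halt
  have hA := alt_of_calt halt hk hM h
  obtain ⟨a, b, ha, hab, hind⟩ := exists_orth (k := k) hπ hk
  obtain ⟨d', hbd, had⟩ := exists_dual hπ ha hind
  set d := -d'
  have hdb : bf π d b = 1 := by rw [bf_neg_left, hπ.skew, hbd, neg_neg]
  have had' : bf π a d = 0 := by rw [bf_neg_right, had, neg_zero]
  have hd0 : d ≠ 0 := fun e => by rw [e, bf_zero_left] at hdb; exact zero_ne_one hdb
  have hb0 : b ≠ 0 := fun e => hind 0 (by rw [e, zero_smul])
  obtain ⟨x', hax, hdx⟩ := exists_dual hπ hd0 (b := a) fun c e => by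
    have h1 : bf π a b = c := by rw [e, bf_smul_left, hdb, mul_one]
    exact ha (by rw [e, ← h1, hab, zero_smul])
  -- make the partner orthogonal to `b`
  set x := x' + bf π x' b • -d with hx
  have hax' : bf π a x = 1 := by rw [hx, bf_add_right, bf_smul_right, bf_neg_right, had', hax]; ring
  have hdx' : bf π d x = 0 := by rw [hx, bf_add_right, bf_smul_right, bf_neg_right, hπ.self, hdx]; ring
  have hxb : bf π x b = 0 := by rw [hx, bf_add_left, bf_smul_left, bf_neg_left, hdb]; ring
  have hxa : bf π x a = -1 := by rw [hπ.skew, hax']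
  have key : ∀ z, bf π z b = 1 → bf π a z = 0 → bf π z x = 0 →
      Blk π K (slot (0 : Fin 1) (rk π a x - rk π b z)) := by
    intro z hzb haz hzx
    have hz : z ≠ 0 := fun e => by rw [e, bf_zero_left] at hzb; exact zero_ne_one hzb
    have h2 : Blk π K (sig π a b * sig π z x) := blk_lmul halt hk hM (adj_sig hπ a b) (h a b ha hab hind)
      (hA z x hz hzx fun c e => by rw [e, bf_smul_left, hzb, mul_one] at hxb
                                   rw [hxb, zero_smul] at e
                                   rw [e, bf_zero_right] at hax'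
                                   exact zero_ne_one hax')
    rwa [sig, sig, ← slot_mul', sub_mul, mul_sub, mul_sub, rk_mul, rk_mul, rk_mul, rk_mul, hzb, hxb, hxa,
      bf_eq_zero_comm π haz, zero_smul, zero_smul, one_smul, sub_zero, zero_sub, sub_neg_eq_add, neg_smul, one_smul,
      ← sub_eq_add_neg] at h2
  have h1 := blk_sub hπ (key d hdb had' hdx') (key (d + b) (by rw [bf_add_left, hdb, hπ.self, add_zero])
    (by rw [bf_add_right, had', hab, add_zero]) (by rw [bf_add_left, hdx', bf_eq_zero_comm π hxb, add_zero]))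
  have h3 : Blk π K (slot (0 : Fin 1) (rk π b b)) := by
    rwa [← slot_sub', sub_sub_sub_cancel_left, rk_add_right, add_sub_cancel_left] at h1
  intro z
  by_cases hz : z = 0
  · rw [hz, rk_zero_left, slot_zero']; exact blk_zero
  obtain ⟨g, hg, hgb⟩ := exists_map hπ hb0 hz
  have h5 := blk_slot_conj hπ hM hg h3
  rwa [conj_rk π hg, hgb] at h5

theorem blk_full (halt : π.Alt) (hk : 3 ≤ k) (hM : HasRoots π K) (hS : SymIn π K) (hC : CAlt π K)
    (X : Matrix (Fin 1 → Fin k) (Fin 1 → Fin k) F) : Blk π K X := by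
  have hπ := Alt0.of_alt halt
  have horth : ∀ d x : Fin k → F, d ≠ 0 → bf π d x = 0 → (∀ c : F, x ≠ c • d) →
      Blk π K (slot (0 : Fin 1) (rk π d x)) := by
    intro d x hd hdx hind
    obtain ⟨e, hxe, hde⟩ := exists_dual hπ hd hind
    have hed : bf π e d = 0 := bf_eq_zero_comm π hde
    have he : e ≠ 0 := fun h => by rw [h, bf_zero_right] at hxe; exact zero_ne_one hxe
    have h1 := blk_lmul halt hk hM (adj_sig hπ e d) (hC e d he hed fun c hc => by
      rw [hc, bf_smul_right] at hed
      have h2 := bf_eq_zero_comm π hdx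
      rw [hc, bf_smul_right, hxe, mul_one] at h2
      rw [h2, zero_smul] at hc
      exact hd hc) (hS x)
    rw [sig, ← slot_mul', sub_mul, rk_mul, rk_mul, hxe, bf_eq_zero_comm π hdx, zero_smul, zero_sub, one_smul,
      ← neg_one_smul F (rk π d x), slot_smul', neg_one_smul] at h1
    simpa using blk_neg h1
  obtain ⟨a, b, ha, hab, hind⟩ := exists_orth (k := k) hπ hk
  obtain ⟨d, hbd, had⟩ := exists_dual hπ ha hind
  have hd0 : d ≠ 0 := fun e => by rw [e, bf_zero_right] at hbd; exact zero_ne_one hbd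
  obtain ⟨x, hax, hdx⟩ := exists_dual hπ hd0 (b := a) fun c e => by
    have h1 := bf_eq_zero_comm π hab
    rw [e, bf_smul_right, hbd, mul_one] at h1
    exact ha (by rw [e, h1, zero_smul])
  have hdxi : ∀ c : F, x ≠ c • d := fun c e => by
    rw [e, bf_smul_right, had, mul_zero] at hax
    exact zero_ne_one hax
  have hidem : Blk π K (slot (0 : Fin 1) (rk π a x)) := by
    have h1 := blk_lmul halt hk hM (adj_sig hπ a b) (hC a b ha hab hind) (horth d x hd0 hdx hdxi)
    rw [sig, ← slot_mul', sub_mul, rk_mul, rk_mul, hπ.skew d b, hbd, bf_eq_zero_comm π had, zero_smul, sub_zero,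
      slot_smul'] at h1
    have h2 := blk_neg h1
    rwa [neg_smul, one_smul, neg_neg] at h2
  let S : Submodule F (Matrix (Fin k) (Fin k) F) :=
    { carrier := {M | Blk π K (slot (0 : Fin 1) M)}
      zero_mem' := by show Blk π K (slot 0 0); rw [slot_zero']; exact blk_zero
      add_mem' := fun {M M'} hM hM' => by show Blk π K (slot 0 (M + M')); rw [slot_add']; exact blk_add hπ hM hM'
      smul_mem' := fun c M hM => by show Blk π K (slot 0 (c • M)); rw [slot_smul']; exact blk_smul hM c }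
  have hall : ∀ M, Blk π K (slot (0 : Fin 1) M) :=
    all_of_idem hπ (S := S) (fun g hg M h => blk_slot_conj hπ hM hg h) hax hidem
  show X ∈ blkSub (H := K) hπ
  rw [Matrix.matrix_eq_sum_single X]
  refine Submodule.sum_mem _ fun u _ => Submodule.sum_mem _ fun v _ => ?_
  rw [show Matrix.single u v (X u v) = X u v • Matrix.single u v (1 : F) by simp [Matrix.smul_single], single_eq_tens]
  refine Submodule.smul_mem _ _ ?_
  show Blk π K _
  convert hall (Matrix.single (u 0) (v 0) 1) using 1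
  refine congrArg tens (funext fun i => ?_)
  rw [Subsingleton.elim i 0, Function.update_self]

/-- An overgroup of two slots outside the stabiliser contains every radical shape. -/
theorem blk_all_two (halt : π.Alt) (hk : 4 ≤ k) (hH : K ≤ U (powS π (1 + 1))) (hM : HasRoots π K)
    (hne : ¬ K ≤ Geo.tensorWreathStandard k (1 + 1) F) (X : Matrix (Fin 1 → Fin k) (Fin 1 → Fin k) F) :
    Blk π K X := by
  classical
  letI := Fintype.ofFinite F
  have hπ := Alt0.of_alt halt
  obtain ⟨p, hw⟩ : ∃ p, Wit π (cj p K) := by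
    have hmoves : ¬ WreathS.Moves π K := fun h =>
      hne (WreathS.le_wreath_of_moves halt (by omega) (fun h' => by omega) (by omega) hM h)
    simp only [WreathS.Moves, not_forall, not_not] at hmoves
    obtain ⟨g, hg, hgW, i, x, c, hx, hc, hmem⟩ := hmoves
    obtain ⟨j, y, d, hy, hd, e⟩ := WreathP.root_image hπ (by omega) (Nat.succ_pos _) (g := g⁻¹) hx hc
      (by rwa [inv_inv]) (by rw [inv_inv]; exact hH (mul_mem (mul_mem (inv_mem hg) (hM i x c)) hg))
    rw [inv_inv] at e
    set p := Equiv.swap (0 : Fin (1 + 1)) i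
    set g1 := factorPerm p * g * (factorPerm p)⁻¹ with hg1
    have hg1W : g1 ∉ Geo.tensorWreathStandard k (1 + 1) F := fun h => hgW (by
      have := mul_mem (mul_mem (inv_mem (factorPerm_mem (F := F) (m := k) p)) h) (factorPerm_mem (F := F) (m := k) p)
      simpa [g1, mul_assoc] using this)
    have e1 : g1 * sRoot π (p j) y d * g1⁻¹ = sRoot π 0 x c := by
      have h1 : sRoot π i x c = g * sRoot π j y d * g⁻¹ := by rw [← e]; group
      rw [show sRoot π 0 x c = factorPerm p * sRoot π i x c * (factorPerm p)⁻¹ by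
          rw [conj_factorPerm_sRoot hπ, Equiv.swap_apply_right],
        show sRoot π (p j) y d = factorPerm p * sRoot π j y d * (factorPerm p)⁻¹ by
          rw [conj_factorPerm_sRoot hπ], h1, hg1]
      group
    rcases wit_or_rest hπ hk (cj_le_U (σ := p) hH) (cj_hasRoots hπ (σ := p) hM) (conj_mem_cj hg) hg1W hx hy hd e1
      with h | ⟨a, -, -, ha⟩
    · exact ⟨p, h⟩
    · exact absurd (mem_wreath_one a) ha
  obtain ⟨o, v, h, Z, ho, hvo, hind, hh, hZ, hN⟩ := hw
  have hM' : HasRoots π (cj p K) := cj_hasRoots hπ hM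
  have hM'' : HasRoots π (cj sw (cj p K)) := cj_hasRoots hπ hM'
  obtain ⟨g, hg, eg⟩ := exists_com hπ (by omega) (cj_le_U hH) hM' hvo (fun e => hind 0 (by rw [e, zero_smul])) hh hN
  have hb : Blk π (cj p K) Z := blk_of_top halt hM' ho (bf_eq_zero_comm π hvo) hind hg eg
  obtain ⟨P, hP, ⟨l, hl⟩, hPS⟩ := exists_pure' hπ (by omega) (blkSub_inv hπ hM') (Z := Z) hb hZ
  have eP : tens P = slot (0 : Fin 1) (P 0) := congrArg tens (funext fun i => by
    rw [Subsingleton.elim i 0, Function.update_self])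
  rw [Subsingleton.elim l 0] at hl
  have hPb : Blk π (cj p K) (slot (0 : Fin 1) (P 0)) := eP ▸ hPS
  have hboth : SymIn π (cj p K) ∧ SymIn π (cj sw (cj p K)) := by
    rcases hl with ⟨x, hx, hxe⟩ | ⟨a, b, ha, habi, hab, habe⟩
    · have hS : SymIn π (cj p K) := fun z => by
        by_cases hz : z = 0
        · rw [hz, rk_zero_left, slot_zero']; exact blk_zero
        obtain ⟨g, hg, hgx⟩ := exists_map hπ hx hz
        have h5 := blk_slot_conj hπ hM' hg (hxe ▸ hPb)
        rwa [conj_rk π hg, hgx] at h5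
      exact ⟨hS, sym_of_calt halt (by omega) hM'' (calt_of_sym hπ (by rwa [cj_sw_sw]))⟩
    · have hA : AltIn π (cj p K) := fun e d he hed hi => by
        obtain ⟨g, hg, hge⟩ := exists_map hπ ha he
        have h1 : bf π e ((g : Matrix (Fin k) (Fin k) F) *ᵥ b) = bf π e d := by
          rw [← hge, mem_isom.mp hg, hab, hge, hed]
        have hi1 : ∀ c : F, (g : Matrix (Fin k) (Fin k) F) *ᵥ b ≠ c • e := fun c hc => habi c (by
          have h2 := congrArg (fun v => ((g⁻¹ : GL (Fin k) F) : Matrix (Fin k) (Fin k) F) *ᵥ v) hc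
          simpa [← hge, mulVec_mulVec, mulVec_smul] using h2)
        obtain ⟨g', hg', hg'e, hg'd⟩ := exists_move hπ h1 hi1 hi
        have h5 := blk_slot_conj hπ hM' hg' (blk_slot_conj hπ hM' hg (habe ▸ hPb))
        rw [mul_sub, sub_mul, conj_rk π hg, conj_rk π hg, mul_sub, sub_mul, conj_rk π hg', conj_rk π hg',
          hge, hg'e, hg'd] at h5
        have h6 := blk_neg h5
        rwa [← neg_one_smul F (slot (0 : Fin 1) _), ← slot_smul', neg_one_smul, neg_sub] at h6
      have hS2 : SymIn π (cj sw (cj p K)) := sym_of_alt halt (by omega) hM'' (by rwa [cj_sw_sw])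
      exact ⟨sym_of_calt halt (by omega) hM' (calt_of_sym hπ hS2), hS2⟩
  have hp : ∀ p : Equiv.Perm (Fin (1 + 1)), p = 1 ∨ p = sw := by decide
  rcases hp p with rfl | rfl
  · rw [cj_one] at hboth
    exact blk_full halt (by omega) hM hboth.1 (calt_of_sym hπ hboth.2) X
  · rw [cj_sw_sw] at hboth
    exact blk_full halt (by omega) hM hboth.2 (calt_of_sym hπ hboth.1) X

end Two

end Cfsg.Agent.WreathP
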