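import Cfsg.Agent.WreathP.Model
import Cfsg.Agent.WreathS.Transfer
import Cfsg.Agent.TensorSp.Finish

/-!
The model of the orthogonal tensor power of an alternating form: members of `Ω`, the bridge to two factors, an
element outside the stabiliser, generation by radical elements, and the transfer (helper17, for helper56).
-/

set_option autoImplicit false
set_option linter.unusedSectionVars false
set_option linter.unusedSimpArgs false

namespace Cfsg.Agent.WreathP

open Matrix Cfsg.Agent.MaxSub Cfsg.Agent.MaxSub.Asch Cfsg.Agent.FG75.SpinTensor Cfsg.Agent.WreathMax Cfsg.Agent.WreathS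
open Cfsg.Agent.UnitaryOrthogonal (eich eich_apply eichGroup eich_mem_eichGroup PolarND orth orth_ext
  isometryGroupEquiv)

variable {F : Type*} [Field F] {k t : ℕ} {π : Sgn F (Fin k)}

theorem omega_eq {ι : Type} [Fintype ι] [DecidableEq ι] (Q : (ι → F) → F) :
    Geo.omegaGL Q = ⁅isometryGroup F Q, isometryGroup F Q⁆ :=
  Subgroup.map_subtype_commutator _

theorem pv_single (a : Fin t → Fin k) :
    (pv fun i => Pi.single (a i) (1 : F)) = Pi.single a 1 := by
  funext z
  by_cases h : z = a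
  · subst h; simp [pv]
  · obtain ⟨i, hi⟩ := Function.ne_iff.mp h
    rw [Pi.single_eq_of_ne h]
    exact Finset.prod_eq_zero (Finset.mem_univ i) (by simp [hi])

theorem tens_factor_pv (gs : Fin t → GL (Fin k) F) (σ : Equiv.Perm (Fin t)) (x : Fin t → Fin k → F) :
    (tensGL gs * factorPerm σ : GL (Fin t → Fin k) F).val *ᵥ pv x =
      pv fun i => (gs i).val *ᵥ x (σ.symm i) := by
  rw [Units.val_mul, ← mulVec_mulVec]
  have h : (factorPerm σ : GL (Fin t → Fin k) F).val *ᵥ pv x = pv fun i => x (σ.symm i) := by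
    rw [factorPerm_mulVec]
    funext a
    simp only [pv, Function.comp_apply]
    exact Fintype.prod_equiv σ _ _ fun i => by simp
  rw [h]
  exact tens_mulVec_pv _ _

namespace Qf

variable (S : Qf π t)

theorem polarND : PolarND S.Q := fun u hu => by
  by_contra h
  obtain ⟨x, hx⟩ := exists_left_ne (powS π t) h
  refine hx ?_
  rw [← S.pol, QuadraticMap.polar_comm]
  exact hu x

theorem bf_symm (S : Qf π t) (x y : (Fin t → Fin k) → F) : bf (powS π t) x y = bf (powS π t) y x := by
  rw [← S.pol, ← S.pol, QuadraticMap.polar_comm]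

theorem omega_le_U : S.omega ≤ U (powS π t) := by
  rintro _ ⟨g, -, rfl⟩
  rw [mem_isom]
  intro u v
  have hg : ∀ z, S.Q (g.1.val *ᵥ z) = S.Q z := fun z => g.2 z 0
  rw [← S.pol, ← S.pol]
  simp only [QuadraticMap.polar, Subgroup.coe_subtype, ← Matrix.mulVec_add, hg]

/-- An isometry of the polar form sending pure tensors to singular vectors is an isometry. -/
theorem mem_isometry_of_pure {g : GL (Fin t → Fin k) F} (hg : g ∈ U (powS π t))
    (hp : ∀ x, S.Q (g.val *ᵥ pv x) = 0) : g ∈ isometryGroup F ⇑S.Q := by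
  intro u _
  show S.Q (g.val *ᵥ u) = S.Q u
  classical
  have hadd : ∀ x y, S.Q (g.val *ᵥ (x + y)) - S.Q (x + y) =
      (S.Q (g.val *ᵥ x) - S.Q x) + (S.Q (g.val *ᵥ y) - S.Q y) := fun x y => by
    have h1 : QuadraticMap.polar S.Q (g.val *ᵥ x) (g.val *ᵥ y) = QuadraticMap.polar S.Q x y := by
      rw [S.pol, S.pol]; exact mem_isom.mp hg x y
    simp only [QuadraticMap.polar, ← mulVec_add] at h1
    linear_combination h1
  rw [← sub_eq_zero, pi_eq_sum_univ' u]
  generalize (Finset.univ : Finset (Fin t → Fin k)) = s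
  induction s using Finset.induction_on with
  | empty => simp
  | insert a s ha ih =>
    rw [Finset.sum_insert ha, hadd, ih, add_zero, mulVec_smul, QuadraticMap.map_smul, QuadraticMap.map_smul,
      ← pv_single, hp, S.pure, smul_zero, sub_zero]

/-- In odd characteristic the isometries are those of the polar form. -/
theorem mem_isometry_of_two (two : (2 : F) ≠ 0) {g : GL (Fin t → Fin k) F} (hg : g ∈ U (powS π t)) :
    g ∈ isometryGroup F ⇑S.Q := by
  refine S.mem_isometry_of_pure hg fun x => ?_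
  have h : QuadraticMap.polar S.Q (g.val *ᵥ pv x) (g.val *ᵥ pv x) = QuadraticMap.polar S.Q (pv x) (pv x) := by
    rw [S.pol, S.pol]; exact mem_isom.mp hg _ _
  rw [QuadraticMap.polar_self, QuadraticMap.polar_self, S.pure, smul_zero, nsmul_eq_mul] at h
  exact (mul_eq_zero.mp h).resolve_left (by exact_mod_cast two)

theorem tensGL_mem_isometry {gs : Fin t → GL (Fin k) F} (h : ∀ i, gs i ∈ U π) :
    tensGL gs ∈ isometryGroup F ⇑S.Q := by
  refine S.mem_isometry_of_pure (tensGL_mem_U π h) fun x => ?_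
  rw [show tensGL gs = tensGL gs * factorPerm 1 by rw [factorPerm_one, mul_one], tens_factor_pv]
  exact S.pure _

theorem factorPerm_mem_isometry (σ : Equiv.Perm (Fin t)) :
    (factorPerm σ : GL (Fin t → Fin k) F) ∈ isometryGroup F ⇑S.Q := by
  refine S.mem_isometry_of_pure (factorPerm_mem_U π σ) fun x => ?_
  rw [show (factorPerm σ : GL (Fin t → Fin k) F) = tensGL 1 * factorPerm σ by rw [tensGL_one, one_mul],
    tens_factor_pv]
  exact S.pure _

theorem conj_mem_omega {g h : GL (Fin t → Fin k) F} (hg : g ∈ isometryGroup F ⇑S.Q) (hh : h ∈ S.omega) :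
    g * h * g⁻¹ ∈ S.omega := by
  obtain ⟨h₀, hh₀, rfl⟩ := hh
  exact ⟨⟨g, hg⟩ * h₀ * ⟨g, hg⟩⁻¹, Subgroup.Normal.conj_mem inferInstance h₀ hh₀ _, rfl⟩

theorem comm_mem_omega {g h : GL (Fin t → Fin k) F} (hg : g ∈ isometryGroup F ⇑S.Q)
    (hh : h ∈ isometryGroup F ⇑S.Q) : g * h * g⁻¹ * h⁻¹ ∈ S.omega := by
  rw [show S.omega = _ from omega_eq ⇑S.Q]
  exact Subgroup.commutator_mem_commutator hg hh

/-- Two transpositions of the slots. -/
theorem swap_swap_mem {a b c d : Fin t} (hab : a ≠ b) (hcd : c ≠ d) :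
    (factorPerm (Equiv.swap a b * Equiv.swap c d) : GL (Fin t → Fin k) F) ∈ S.omega := by
  obtain ⟨g, hg⟩ := isConj_iff.mp (Equiv.Perm.isConj_swap hab hcd)
  have e : Equiv.swap a b * Equiv.swap c d = Equiv.swap a b * g * (Equiv.swap a b)⁻¹ * g⁻¹ := by
    rw [← hg, Equiv.swap_inv]; group
  let φ : Equiv.Perm (Fin t) →* GL (Fin t → Fin k) F :=
    { toFun := fun σ => factorPerm σ
      map_one' := factorPerm_one
      map_mul' := fun σ τ => (factorPerm_mul σ τ).symm }
  show φ _ ∈ _
  rw [e, map_mul, map_mul, map_mul, map_inv, map_inv]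
  exact S.comm_mem_omega (S.factorPerm_mem_isometry _) (S.factorPerm_mem_isometry _)

/-- Even permutations of the slots. -/
theorem factorPerm_mem_omega (σ : Equiv.Perm (Fin t)) :
    (Equiv.Perm.sign σ = 1 → (factorPerm σ : GL (Fin t → Fin k) F) ∈ S.omega) ∧
    (∀ a b, a ≠ b → Equiv.Perm.sign σ = -1 →
      (factorPerm (Equiv.swap a b * σ) : GL (Fin t → Fin k) F) ∈ S.omega) := by
  induction σ using Equiv.Perm.swap_induction_on with
  | one => exact ⟨fun _ => by rw [factorPerm_one]; exact one_mem _, fun a b _ h => by simp at h⟩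
  | swap_mul σ x y hxy ih =>
    refine ⟨fun h => ih.2 x y hxy ?_, fun a b hab h => ?_⟩
    · rw [map_mul, Equiv.Perm.sign_swap hxy, neg_one_mul] at h
      exact neg_eq_iff_eq_neg.mp h
    · rw [map_mul, Equiv.Perm.sign_swap hxy, neg_one_mul, neg_inj] at h
      rw [← mul_assoc, ← factorPerm_mul]
      exact mul_mem (S.swap_swap_mem hab hxy) (ih.1 h)

/-- All permutations of the slots, once one transposition is there. -/
theorem factorPerm_mem_omega_of_swap {a b : Fin t} (hab : a ≠ b)
    (h : (factorPerm (Equiv.swap a b) : GL (Fin t → Fin k) F) ∈ S.omega) (σ : Equiv.Perm (Fin t)) :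
    (factorPerm σ : GL (Fin t → Fin k) F) ∈ S.omega := by
  rcases Int.units_eq_one_or (Equiv.Perm.sign σ) with hs | hs
  · exact (S.factorPerm_mem_omega σ).1 hs
  · have h1 := mul_mem h ((S.factorPerm_mem_omega σ).2 a b hab hs)
    rwa [factorPerm_mul, ← mul_assoc, Equiv.swap_mul_self, one_mul] at h1

end Qf

/-! ### Two factors -/

section Bridge

variable {s : ℕ}

/-- The first slot against the others, as two indices. -/
def ix (k s : ℕ) : (Fin (s + 1) → Fin k) ≃ Fin (k ^ s) × Fin k :=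
  (Fin.consEquiv fun _ : Fin (s + 1) => Fin k).symm.trans ((Equiv.prodComm _ _).trans
    (Equiv.prodCongr finFunctionFinEquiv (Equiv.refl _)))

theorem ix_apply (z : Fin (s + 1) → Fin k) : ix k s z = (finFunctionFinEquiv (Fin.tail z), z 0) := rfl

theorem emb_ix (d : Fin k → F) (x : Fin (k ^ s) → F) :
    TensorMax.emb d x ∘ ix k s = cz d (x ∘ finFunctionFinEquiv) := by
  funext z
  exact mul_comm _ _

theorem tau_tail (S : Qf π (s + 1)) (hπ : Alt0 π) (hk : 0 < k) : (powS π s).τ = -1 := by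
  haveI : Nonempty (Fin k) := ⟨⟨0, hk⟩⟩
  let a : Fin (s + 1) → Fin k := fun _ => ⟨0, hk⟩
  obtain ⟨y, hy⟩ := exists_right_eq_one (powS π (s + 1)) (x := Pi.single a (1 : F))
    (fun h => by simpa using congrFun h a)
  have h1 : π.τ ^ (s + 1) = 1 := by
    have := bf_flip (powS π (s + 1)) (Pi.single a 1) y
    rw [← S.bf_symm, hy, mul_one] at this
    exact this.symm
  show π.τ ^ s = -1
  rw [hπ.tau] at h1 ⊢
  rw [pow_succ] at h1
  linear_combination -h1

theorem alt0_tail (S : Qf π (s + 1)) (hπ : Alt0 π) (hk : 0 < k) (hs : 1 ≤ s) : Alt0 (powS π s) where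
  tau := tau_tail S hπ hk
  fix a e := hπ.fix (a ⟨0, hs⟩) (congrFun e ⟨0, hs⟩)

theorem rk_cz (e d : Fin k → F) (x y : (Fin s → Fin k) → F) :
    rk (powS π (s + 1)) (cz e x) (cz d y) = kz (rk π e d) (rk (powS π s) x y) := by
  ext a b
  simp only [rk, cv, cz, kz_apply, vecMulVec_apply, powS, Fin.prod_univ_succ]
  rw [show Fin.tail ((Equiv.piCongrRight fun _ : Fin (s + 1) => π.J) b) =
      (Equiv.piCongrRight fun _ : Fin s => π.J) (Fin.tail b) from rfl]
  simp only [Equiv.piCongrRight_apply, Pi.map_apply, Fin.tail]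
  ring

/-- The two-factor model with the first slot on the right. -/
noncomputable def toTS (S : Qf π (s + 1)) (hπ : Alt0 π) (hk : 0 < k) (hs : 1 ≤ s) :
    TensorSp.TS F (k ^ s) k where
  Q := S.Q.comp (LinearMap.funLeft F F (ix k s))
  g₁ :=
    { form := LinearMap.mk₂ F (fun x y => bf (powS π s) (x ∘ finFunctionFinEquiv) (y ∘ finFunctionFinEquiv))
        (fun x x' y => bf_add_left (powS π s) _ _ _) (fun c x y => bf_smul_left (powS π s) _ _ _)
        (fun x y y' => bf_add_right (powS π s) _ _ _) (fun c x y => bf_smul_right (powS π s) _ _ _)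
      alt := fun v => (alt0_tail S hπ hk hs).self _
      nd := fun v hv => by
        by_contra h
        obtain ⟨y, hy⟩ := exists_right_eq_one (powS π s) (x := v ∘ finFunctionFinEquiv) (fun h0 => h (funext fun i => by
          simpa using congrFun h0 (finFunctionFinEquiv.symm i)))
        refine one_ne_zero (α := F) (hy.symm.trans ?_)
        have := hv (y ∘ finFunctionFinEquiv.symm)
        simpa [Function.comp_assoc] using this }
  g₂ :=
    { form := LinearMap.mk₂ F (bf π) (bf_add_left π) (fun c x y => bf_smul_left π c x y) (bf_add_right π)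
        (fun c x y => bf_smul_right π c x y)
      alt := hπ.self
      nd := fun v hv => by
        by_contra h
        obtain ⟨y, hy⟩ := exists_right_eq_one π h
        exact one_ne_zero (α := F) (hy.symm.trans (hv y)) }
  pure e x := by
    show S.Q (TensorMax.emb e x ∘ ix k s) = 0
    rw [emb_ix]
    classical
    -- a vector of the other slots is a sum of pure tensors
    have key : ∀ y : (Fin s → Fin k) → F, S.Q (cz e y) = 0 := by
      intro y
      rw [pi_eq_sum_univ' y]
      suffices ∀ u : Finset (Fin s → Fin k), S.Q (cz e (∑ a ∈ u, y a • Pi.single a 1)) = 0 from this _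
      intro u
      induction u using Finset.induction_on with
      | empty =>
        rw [Finset.sum_empty, show cz e (0 : (Fin s → Fin k) → F) = 0 from funext fun a => mul_zero _]
        exact QuadraticMap.map_zero _
      | insert a u ha ih =>
        rw [Finset.sum_insert ha, show cz e (y a • Pi.single a 1 + ∑ b ∈ u, y b • Pi.single b 1) =
          cz e (y a • Pi.single a 1) + cz e (∑ b ∈ u, y b • Pi.single b 1) from funext fun z => mul_add _ _ _,
          QuadraticMap.map_add (⇑S.Q), ih, S.pol, bf_cz, hπ.self, zero_mul, add_zero, add_zero,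
          show cz e (y a • Pi.single a (1 : F)) = y a • cz e (Pi.single a 1) from
            funext fun z => by simp [cz, mul_left_comm],
          QuadraticMap.map_smul, ← pv_single, ← pv_cons, S.pure, smul_zero]
    exact key _
  pol e x d y := by
    show QuadraticMap.polar (S.Q ∘ fun z => z ∘ ix k s) _ _ = _
    have h0 : QuadraticMap.polar (S.Q ∘ fun z => z ∘ ix k s) (TensorMax.emb e x) (TensorMax.emb d y) =
        QuadraticMap.polar S.Q (TensorMax.emb e x ∘ ix k s) (TensorMax.emb d y ∘ ix k s) := rfl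
    rw [h0, emb_ix, emb_ix, S.pol, bf_cz, mul_comm]
    rfl
  nd u hu := by
    have h : u ∘ ix k s = 0 := S.polarND _ fun x => by
      have := hu (x ∘ (ix k s).symm)
      have h0 : QuadraticMap.polar (S.Q.comp (LinearMap.funLeft F F (ix k s))) u (x ∘ (ix k s).symm) =
          QuadraticMap.polar S.Q (u ∘ ix k s) ((x ∘ (ix k s).symm) ∘ ix k s) := rfl
      rw [h0, Function.comp_assoc, Equiv.symm_comp_self, Function.comp_id] at this
      exact this
    funext p
    simpa using congrFun h ((ix k s).symm p)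

theorem toTS_Q (S : Qf π (s + 1)) (hπ : Alt0 π) (hk : 0 < k) (hs : 1 ≤ s) (z : Fin (k ^ s) × Fin k → F) :
    (toTS S hπ hk hs).Q z = S.Q (z ∘ ix k s) := rfl

/-- The same model with the first slot on the left. -/
noncomputable def swapTS {a b : ℕ} (T : TensorSp.TS F a b) : TensorSp.TS F b a where
  Q := T.Q.comp (LinearMap.funLeft F F (Equiv.prodComm (Fin a) (Fin b)))
  g₁ := T.g₂
  g₂ := T.g₁
  pure e x := by
    show T.Q (TensorMax.emb e x ∘ Equiv.prodComm (Fin a) (Fin b)) = 0
    rw [show TensorMax.emb e x ∘ Equiv.prodComm (Fin a) (Fin b) = TensorMax.emb x e from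
      funext fun p => mul_comm _ _]
    exact T.pure _ _
  pol e x d y := by
    show QuadraticMap.polar T.Q (TensorMax.emb e x ∘ Equiv.prodComm (Fin a) (Fin b))
      (TensorMax.emb d y ∘ Equiv.prodComm (Fin a) (Fin b)) = _
    rw [show TensorMax.emb e x ∘ Equiv.prodComm (Fin a) (Fin b) = TensorMax.emb x e from
        funext fun p => mul_comm _ _,
      show TensorMax.emb d y ∘ Equiv.prodComm (Fin a) (Fin b) = TensorMax.emb y d from
        funext fun p => mul_comm _ _, T.pol, mul_comm]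
  nd u hu := by
    have h : u ∘ Equiv.prodComm (Fin a) (Fin b) = 0 := T.nd _ fun x => by
      have := hu (x ∘ Equiv.prodComm (Fin b) (Fin a))
      exact this
    funext p
    simpa using congrFun h (p.2, p.1)

/-- The isometries of a quadratic form after reindexing. -/
theorem isometryGroup_reindex {ι κ : Type} [Fintype ι] [DecidableEq ι] [Fintype κ] [DecidableEq κ] (e : ι ≃ κ)
    (Q : (ι → F) → F) :
    (isometryGroup F Q).map (Geo.glReindex e).toMonoidHom = isometryGroup F fun z => Q (z ∘ e) := by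
  have hmv : ∀ (g : GL ι F) (z : κ → F),
      (Geo.glReindex e g : GL κ F).val *ᵥ z = (g.val *ᵥ (z ∘ e)) ∘ e.symm := fun g z => by
    show (Matrix.reindex e e g.val) *ᵥ z = _
    rw [Matrix.reindex_apply, Matrix.submatrix_mulVec_equiv]
    rfl
  ext g
  constructor
  · rintro ⟨h, hh, rfl⟩ u _
    show Q (((Geo.glReindex e h : GL κ F).val *ᵥ u) ∘ e) = Q (u ∘ e)
    rw [hmv, Function.comp_assoc, Equiv.symm_comp_self, Function.comp_id]
    exact hh _ 0
  · intro hg
    refine ⟨(Geo.glReindex e).symm g, fun u _ => ?_, (Geo.glReindex e).apply_symm_apply g⟩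
    show Q (((Geo.glReindex e).symm g).val *ᵥ u) = Q u
    have h1 := hmv ((Geo.glReindex e).symm g) (u ∘ e.symm)
    rw [MulEquiv.apply_symm_apply, Function.comp_assoc, Equiv.symm_comp_self, Function.comp_id] at h1
    have h2 : Q ((g.val *ᵥ (u ∘ e.symm)) ∘ e) = Q ((u ∘ e.symm) ∘ e) := hg _ 0
    rwa [h1, Function.comp_assoc, Function.comp_assoc, Equiv.symm_comp_self, Function.comp_id,
      Function.comp_id] at h2

theorem omega_toTS (S : Qf π (s + 1)) (hπ : Alt0 π) (hk : 0 < k) (hs : 1 ≤ s) :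
    S.omega.map (Geo.glReindex (ix k s)).toMonoidHom = Geo.omegaGL ⇑(toTS S hπ hk hs).Q := by
  rw [show S.omega = _ from omega_eq ⇑S.Q, omega_eq, Subgroup.map_commutator, isometryGroup_reindex]
  rfl

theorem glReindex_ix_mulVec (g : GL (Fin (s + 1) → Fin k) F) (z : Fin (k ^ s) × Fin k → F) :
    ((Geo.glReindex (ix k s) g : GL (Fin (k ^ s) × Fin k) F).val *ᵥ z) ∘ ix k s = g.val *ᵥ (z ∘ ix k s) := by
  show ((Matrix.reindex (ix k s) (ix k s) g.val) *ᵥ z) ∘ ix k s = _
  rw [Matrix.reindex_apply, Matrix.submatrix_mulVec_equiv]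
  simp [Function.comp_assoc]

theorem five_le (hk : 2 ≤ k) (h5 : 5 ≤ k ^ (s + 1)) :
    5 ≤ Module.finrank F (Fin (k ^ s) × Fin k → F) := by
  rwa [Module.finrank_fintype_fun_eq_card, Fintype.card_prod, Fintype.card_fin, Fintype.card_fin, ← pow_succ]

end Bridge

/-! ### Members -/

section Members

variable [Finite F] {s : ℕ}

theorem sRoot_zero_mem (S : Qf π (s + 1)) (hπ : Alt0 π) (hk : 2 ≤ k) (hs : 1 ≤ s) (h5 : 5 ≤ k ^ (s + 1))
    (x : Fin k → F) (c : F) : sRoot π (0 : Fin (s + 1)) x c ∈ S.omega := by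
  set T := toTS S hπ (by omega) hs with hT
  obtain ⟨g, hg, hgx⟩ := T.inE_left x (-c)
  obtain ⟨g₀, hg₀, hgg⟩ := OrthStab.exists_lift T.nd (five_le hk h5) hg
  have hg₀' : g₀.1 ∈ S.omega.map (Geo.glReindex (ix k s)).toMonoidHom := by
    rw [omega_toTS S hπ (by omega) hs]; exact hg₀
  obtain ⟨r, hr, hre⟩ := hg₀'
  suffices sRoot π (0 : Fin (s + 1)) x c = r from this ▸ hr
  refine (Geo.glReindex (ix k s)).injective ?_
  rw [show Geo.glReindex (ix k s) r = g₀.1 from hre]
  refine gl_ext fun z => ?_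
  rw [TensorSp.TS.eq_sum_emb z, mulVec_sum, mulVec_sum]
  refine Finset.sum_congr rfl fun j _ => ?_
  generalize (Pi.single j 1 : Fin k → F) = d
  generalize TensorSp.TS.col z j = y
  rw [show g₀.1.val *ᵥ TensorMax.emb d y = g.1 (TensorMax.emb d y) by rw [← hgg]; rfl, hgx]
  apply (ix k s).surjective.injective_comp_right
  show ((Geo.glReindex (ix k s) (sRoot π (0 : Fin (s + 1)) x c)).val *ᵥ TensorMax.emb d y) ∘ ix k s = _
  rw [glReindex_ix_mulVec, emb_ix, sRoot_coe hπ, slot_zero_eq_kz, add_mulVec, one_mulVec, smul_mulVec,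
    kz_mulVec_cz, rk_mulVec, one_mulVec, LinearMap.smul_apply, LinearMap.comp_apply, T.pi_emb, map_smul,
    show T.g₂.form x d = bf π x d from rfl, hπ.skew x d, smul_smul, neg_mul_neg]
  show _ = (TensorMax.emb d y + (c * bf π d x) • TensorMax.emb x y) ∘ ix k s
  rw [Pi.add_comp, Pi.smul_comp, emb_ix, emb_ix]
  congr 1
  funext a
  simp [cz, mul_assoc]

/-- Slot transvections are in `Ω`. -/
theorem sRoot_mem_omega (S : Qf π t) (hπ : Alt0 π) (hk : 2 ≤ k) (ht : 2 ≤ t) (h5 : 5 ≤ k ^ t) (i : Fin t)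
    (x : Fin k → F) (c : F) : sRoot π i x c ∈ S.omega := by
  obtain ⟨s, rfl⟩ : ∃ s, t = s + 1 := ⟨t - 1, by omega⟩
  have h := S.conj_mem_omega (S.factorPerm_mem_isometry (Equiv.swap 0 i))
    (sRoot_zero_mem S hπ hk (by omega) h5 x c)
  suffices sRoot π i x c =
      factorPerm (Equiv.swap 0 i) * sRoot π (0 : Fin (s + 1)) x c * (factorPerm (Equiv.swap 0 i))⁻¹ by
    rwa [this]
  rw [eq_mul_inv_iff_mul_eq]
  refine Units.ext ?_
  rw [Units.val_mul, Units.val_mul, sRoot, sRoot, slotU_coe, slotU_coe, factorPerm_mul_slot,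
    Equiv.swap_apply_left]

/-- The isometries of a slot are in `Ω`. -/
theorem slotU_mem_omega (S : Qf π t) (hπ : Alt0 π) (hk : 2 ≤ k) (ht : 2 ≤ t) (h5 : 5 ≤ k ^ t) {A : GL (Fin k) F}
    (hA : A ∈ U π) (i : Fin t) : slotU i A ∈ S.omega := by
  let φ : GL (Fin k) F →* GL (Fin t → Fin k) F :=
    { toFun := slotU i
      map_one' := by
        rw [slotU, show Function.update (1 : Fin t → GL (Fin k) F) i 1 = 1 from Function.update_eq_self i 1,
          tensGL_one]
      map_mul' := fun A B => Units.ext (by rw [Units.val_mul, slotU_coe, slotU_coe, slotU_coe, Units.val_mul,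
        slot_mul']) }
  exact (isom_le_of_st_mem hπ.form (M := S.omega.comap φ)
    fun v c => sRoot_mem_omega S hπ hk ht h5 i v c) hA

/-- In odd characteristic a transposition of slots is in `Ω`, given two further slots. -/
theorem swap_mem_omega (S : Qf π t) (hπ : π.Alt) (hk : 2 ≤ k) (ht : 4 ≤ t) :
    (factorPerm (Equiv.swap (⟨0, by omega⟩ : Fin t) ⟨1, by omega⟩) : GL (Fin t → Fin k) F) ∈ S.omega := by
  classical
  set i0 : Fin t := ⟨0, by omega⟩
  set i1 : Fin t := ⟨1, by omega⟩
  set i2 : Fin t := ⟨2, by omega⟩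
  set i3 : Fin t := ⟨3, by omega⟩
  have n20 : i2 ≠ i0 := by simp [i0, i2, Fin.ext_iff]
  have n21 : i2 ≠ i1 := by simp [i1, i2, Fin.ext_iff]
  have n30 : i3 ≠ i0 := by simp [i0, i3, Fin.ext_iff]
  have n31 : i3 ≠ i1 := by simp [i1, i3, Fin.ext_iff]
  set σ := Equiv.swap i0 i1 with hσ
  -- one colour for each pair of the involution
  let p : Fin k → Prop := fun a => π.ε a = 1
  have hpJ : ∀ a, p (π.J a) ↔ ¬ p a := fun a => by
    simp only [p, π.ε_J, hπ.tau, neg_one_mul]
    rcases mul_self_eq_one_iff.mp (π.ε_sq a) with h | h <;> rw [h]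
    · exact ⟨fun e => absurd (show (2 : F) = 0 by linear_combination -e) hπ.two, fun e => absurd rfl e⟩
    · exact ⟨fun _ e => hπ.two (by linear_combination -e), fun _ => neg_neg 1⟩
  let C : (Fin t → Fin k) → Prop := fun z => p (z i2) ↔ p (z i3)
  have hCσ : ∀ z, C (z ∘ σ) ↔ C z := fun z => by
    simp only [C, Function.comp_apply, hσ, Equiv.swap_apply_of_ne_of_ne n20 n21,
      Equiv.swap_apply_of_ne_of_ne n30 n31]
  let f : (Fin t → Fin k) → (Fin t → Fin k) := fun z => if C z then z ∘ σ else z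
  have hf : ∀ z, f (f z) = z := fun z => by
    by_cases h : C z
    · simp only [f, if_pos h, if_pos ((hCσ z).mpr h)]
      funext i
      simp [hσ]
    · simp only [f, if_neg h]
  let af : Equiv.Perm (Fin t → Fin k) := ⟨f, f, hf, hf⟩
  let A : GL (Fin t → Fin k) F :=
    ⟨Matrix.of fun x y => if y = f x then 1 else 0, Matrix.of fun x y => if y = f x then 1 else 0,
      by
        ext x y
        rw [Matrix.mul_apply, Finset.sum_eq_single (f x)] <;> simp +contextual [hf, Matrix.one_apply, eq_comm],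
      by
        ext x y
        rw [Matrix.mul_apply, Finset.sum_eq_single (f x)] <;> simp +contextual [hf, Matrix.one_apply, eq_comm]⟩
  have hAv : ∀ v : (Fin t → Fin k) → F, A.val *ᵥ v = fun x => v (f x) := fun v => by
    funext x
    simp [A, Matrix.mulVec, dotProduct]
  have hJf : ∀ z, (powS π t).J (f z) = f ((powS π t).J z) := fun z => by
    have hC : C ((powS π t).J z) ↔ C z := by
      simp only [C, powS_apply, hpJ, not_iff_not]
    by_cases h : C z
    · simp only [f, if_pos h, if_pos (hC.mpr h)]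
      funext i
      simp [powS_apply]
    · simp only [f, if_neg h, if_neg (hC.not.mpr h)]
  have hεf : ∀ z, (powS π t).ε (f z) = (powS π t).ε z := fun z => by
    by_cases h : C z
    · simp only [f, if_pos h, powS, Function.comp_apply]
      exact Equiv.prod_comp σ fun i => π.ε (z i)
    · simp only [f, if_neg h]
  have hA : A ∈ U (powS π t) := by
    rw [mem_isom]
    intro u v
    rw [hAv, hAv]
    simp only [bf, cv, dotProduct]
    exact Fintype.sum_equiv af _ _ fun z => by
      show _ = (powS π t).ε (f z) * v ((powS π t).J (f z)) * u (f z)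
      rw [hεf, hJf]
  -- an isometry of the fourth slot exchanging the colours
  let M : Matrix (Fin k) (Fin k) F := Matrix.of fun a b => if b = π.J a then π.ε a else 0
  have hMv : ∀ v : Fin k → F, M *ᵥ v = fun a => π.ε a * v (π.J a) := fun v => by
    funext a
    simp [M, Matrix.mulVec, dotProduct]
  have hM2 : M * M = -1 := Matrix.ext_of_mulVec_single fun b => by
    rw [← mulVec_mulVec, hMv, hMv, neg_mulVec, one_mulVec]
    funext a
    simp only [π.inv, π.ε_J, hπ.tau, Pi.neg_apply]
    linear_combination -((Pi.single b 1 : Fin k → F) a) * π.ε_sq a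
  let G : GL (Fin k) F := ⟨M, -M, by rw [mul_neg, hM2, neg_neg], by rw [neg_mul, hM2, neg_neg]⟩
  have hG : G ∈ U π := by
    rw [mem_isom]
    intro u v
    show bf π (M *ᵥ u) (M *ᵥ v) = bf π u v
    rw [hMv, hMv]
    simp only [bf, cv, dotProduct]
    refine Fintype.sum_equiv π.J _ _ fun a => ?_
    rw [π.inv]
    have hJ : π.ε (π.J a) = -π.ε a := by rw [π.ε_J, hπ.tau, neg_one_mul]
    rw [hJ]
    linear_combination -(π.ε a * v a * u (π.J a)) * π.ε_sq a
  set h := slotU i3 G
  have hhv : ∀ (v : (Fin t → Fin k) → F) x, (h.val *ᵥ v) x =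
      π.ε (x i3) * v (Function.update x i3 (π.J (x i3))) := fun v x => by
    show (((slotU i3 G : GL (Fin t → Fin k) F)).val *ᵥ v) x = _
    rw [slotU_coe, Matrix.mulVec, dotProduct,
      Finset.sum_eq_single (Function.update x i3 (π.J (x i3))) (fun y _ hy => ?_) (by simp)]
    · rw [slot_entry_self _ (fun j hj => by rw [Function.update_of_ne hj]), Function.update_self]
      simp [G, M]
    · rw [mul_eq_zero]
      left
      by_cases hxy : ∀ j, j ≠ i3 → x j = y j
      · rw [slot_entry_self _ hxy]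
        simp only [G, M, Matrix.of_apply, ite_eq_right_iff]
        intro e
        refine absurd (funext fun j => ?_) hy
        rcases eq_or_ne j i3 with rfl | hj
        · rw [Function.update_self, e]
        · rw [Function.update_of_ne hj, hxy j hj]
      · push Not at hxy
        obtain ⟨j, hj, hne⟩ := hxy
        rw [slot, tens_apply]
        exact Finset.prod_eq_zero (Finset.mem_univ j) (by
          rw [Function.update_of_ne hj, Pi.one_apply, one_apply_ne hne])
  have e : (factorPerm σ : GL (Fin t → Fin k) F) = A * h * A⁻¹ * h⁻¹ := by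
    rw [eq_mul_inv_iff_mul_eq, eq_mul_inv_iff_mul_eq]
    refine gl_ext fun v => ?_
    simp only [Units.val_mul, ← mulVec_mulVec]
    rw [hAv v, hAv (h.val *ᵥ v), factorPerm_mulVec]
    funext x
    rw [hhv, hhv]
    have hu : Function.update (x ∘ σ) i3 (π.J (x i3)) = Function.update x i3 (π.J (x i3)) ∘ σ := by
      funext j
      simp only [Function.comp_apply, Function.update_apply, hσ, Equiv.swap_apply_of_ne_of_ne n30 n31]
      rcases eq_or_ne j i3 with rfl | hj
      · simp [Equiv.swap_apply_of_ne_of_ne n30 n31]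
      · have : Equiv.swap i0 i1 j ≠ i3 := fun e' => hj (by
          have := congrArg (Equiv.swap i0 i1) e'
          simpa [Equiv.swap_apply_of_ne_of_ne n30 n31] using this)
        simp [hj, this]
    have h3 : (x ∘ σ) i3 = x i3 := by simp [hσ, Equiv.swap_apply_of_ne_of_ne n30 n31]
    have hC : C (Function.update x i3 (π.J (x i3))) ↔ ¬ C x := by
      simp only [C, Function.update_self, Function.update_of_ne (show i2 ≠ i3 by simp [i2, i3, Fin.ext_iff]), hpJ]
      tauto
    rw [h3, hu]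
    by_cases hx : C x
    · have hc : ¬ C (Function.update x i3 (π.J (x i3)) ∘ σ) := fun hc => hC.mp ((hCσ _).mp hc) hx
      simp only [f, if_pos hx, if_neg hc, h3, hu]
    · have hc : C (Function.update x i3 (π.J (x i3)) ∘ σ) := (hCσ _).mpr (hC.mpr hx)
      simp only [f, if_neg hx, if_pos hc]
      congr 2
      funext j
      simp [hσ]
  rw [e]
  exact S.comm_mem_omega (S.mem_isometry_of_two hπ.two hA)
    (S.mem_isometry_of_two hπ.two (slotU_mem_U π hG i3))

/-- In odd characteristic with `4 ≤ t` the isometric slot stabiliser is in `Ω`. -/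
theorem Wiso_le_omega (S : Qf π t) (hπ : π.Alt) (hk : 2 ≤ k) (ht : 4 ≤ t) : Wiso π t ≤ S.omega := by
  refine (Subgroup.closure_le _).mpr fun g hg => ?_
  rcases hg with ⟨i, A, hA, rfl⟩ | ⟨σ, rfl⟩
  · refine slotU_mem_omega S (Alt0.of_alt hπ) hk (by omega) ?_ hA i
    calc 5 ≤ 2 ^ 4 := by norm_num
      _ ≤ k ^ 4 := Nat.pow_le_pow_left hk 4
      _ ≤ k ^ t := Nat.pow_le_pow_right (by omega) ht
  · exact S.factorPerm_mem_omega_of_swap (by simp [Fin.ext_iff]) (swap_mem_omega S hπ hk ht) σ

/-- A vector supported on two indices differing in two slots is not pure. -/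
theorem not_pure_pair {p q : Fin t → Fin k} {i j : Fin t} (hij : i ≠ j) (hi : p i ≠ q i) (hj : p j ≠ q j)
    (c : F) (hc : c ≠ 0) (r : Fin t → Fin k → F) :
    pv r ≠ (Pi.single p (1 : F) + c • Pi.single q 1 : (Fin t → Fin k) → F) := by
  classical
  intro h
  have hp : pv r p ≠ 0 := by
    rw [h]
    simp [show p ≠ q from fun e => hi (by rw [e])]
  have hq : pv r q ≠ 0 := by
    rw [h]
    simp [show q ≠ p from fun e => hi (by rw [e]), hc]
  simp only [pv, ne_eq, Finset.prod_eq_zero_iff, Finset.mem_univ, true_and, not_exists] at hp hq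
  have h0 := congrFun h (Function.update p i (q i))
  have e1 : Function.update p i (q i) ≠ p := fun e => hi (by simpa using (congrFun e i).symm)
  have e2 : Function.update p i (q i) ≠ q := fun e => hj (by
    simpa [Function.update_of_ne hij.symm] using congrFun e j)
  simp only [Pi.add_apply, Pi.smul_apply, Pi.single_eq_of_ne e1, Pi.single_eq_of_ne e2, smul_zero, add_zero] at h0
  refine Finset.prod_ne_zero_iff.mpr (fun l _ => ?_) h0
  rcases eq_or_ne l i with rfl | hl
  · rw [Function.update_self]; exact hq l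
  · rw [Function.update_of_ne hl]; exact hp l

/-- `Ω` is not inside the stabiliser. -/
theorem omega_not_le_wreath (S : Qf π t) (hπ : Alt0 π) (ht : 2 ≤ t) (h5 : 5 ≤ k ^ t) (hbig : 3 ≤ k ∨ 3 ≤ t) :
    ¬ S.omega ≤ Geo.tensorWreathStandard k t F := by
  classical
  have hk : 0 < k := Nat.pos_of_ne_zero fun h => by
    rw [h, zero_pow (by omega)] at h5
    omega
  have h5' : 5 ≤ Module.finrank F ((Fin t → Fin k) → F) := by
    rwa [Module.finrank_fintype_fun_eq_card, Fintype.card_fun, Fintype.card_fin, Fintype.card_fin]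
  let i0 : Fin t := ⟨0, by omega⟩
  let i1 : Fin t := ⟨1, by omega⟩
  have n01 : i1 ≠ i0 := by simp [i0, i1, Fin.ext_iff]
  let z : Fin k := ⟨0, hk⟩
  let a : Fin t → Fin k := fun _ => z
  obtain ⟨c, hcz, i, hi, hci⟩ : ∃ c : Fin k, c ≠ z ∧ ∃ i, i ≠ i1 ∧ Function.update a i0 c i ≠ π.J (a i) := by
    rcases hbig with h | h
    · obtain ⟨c, hc⟩ : ∃ c, c ∉ ({z, π.J z} : Finset (Fin k)) := by
        by_contra hc
        push Not at hc
        have := (Finset.card_le_card (s := Finset.univ) fun x _ => hc x).trans Finset.card_le_two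
        rw [Finset.card_univ, Fintype.card_fin] at this
        omega
      simp only [Finset.mem_insert, Finset.mem_singleton, not_or] at hc
      exact ⟨c, hc.1, i0, n01.symm, by simpa [a] using hc.2⟩
    · refine ⟨π.J z, hπ.fix z, ⟨2, by omega⟩, by simp [i1, Fin.ext_iff], ?_⟩
      rw [Function.update_of_ne (by simp [i0, Fin.ext_iff])]
      exact (hπ.fix z).symm
  set b := Function.update a i0 c with hb
  set a' := (powS π t).J a with ha'
  have hab : a ≠ b := fun e => hcz (by simpa [b, a] using (congrFun e i0).symm)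
  have hba' : b ≠ a' := fun e => by
    have := congrFun e i1
    rw [hb, Function.update_of_ne n01, ha', powS_apply] at this
    exact hπ.fix _ this.symm
  set u : (Fin t → Fin k) → F := Pi.single a 1
  set v : (Fin t → Fin k) → F := Pi.single b 1
  have hu : S.Q u = 0 := by rw [show u = pv _ from (pv_single a).symm, S.pure]
  have hv : S.Q v = 0 := by rw [show v = pv _ from (pv_single b).symm, S.pure]
  have huv : QuadraticMap.polar S.Q u v = 0 := by
    rw [S.pol, bf_single, show v ((powS π t).J a) = 0 from Pi.single_eq_of_ne (fun e => hba' e.symm) _, mul_zero]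
  obtain ⟨g, hg, hgg⟩ := OrthStab.exists_lift S.polarND h5' (eich_mem_eichGroup (Q := S.Q) u v)
  intro hle
  obtain ⟨gs, σ, hgσ⟩ := exists_wreath_elem (hle hg)
  have h1 : g.1.val *ᵥ Pi.single a' 1 = Pi.single a' 1 + (powS π t).ε a • Pi.single b 1 := by
    rw [show g.1.val *ᵥ Pi.single a' 1 = (eich S.Q u v).1 (Pi.single a' 1) by rw [← hgg]; rfl,
      eich_apply hu huv, hv, zero_mul, zero_smul, sub_zero, S.pol, S.pol, bf_single, bf_single, ← ha',
      Pi.single_eq_same, mul_one, Pi.single_eq_of_ne (fun e => hab ((powS π t).J.injective (by rw [e, ha']))),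
      mul_zero, zero_smul, sub_zero]
  refine not_pure_pair (p := a') (q := b) (i := i1) (j := i) hi.symm ?_ ?_ ((powS π t).ε a)
    (fun e => one_ne_zero (α := F) (by rw [← (powS π t).ε_sq a, e, mul_zero])) _
    ((tens_factor_pv gs σ fun l => Pi.single (a' l) (1 : F)).symm.trans ?_)
  · rw [hb, Function.update_of_ne n01, ha', powS_apply]
    exact hπ.fix _
  · rw [ha', powS_apply]
    exact hci.symm
  · rw [← hgσ, pv_single, h1]

/-- The radical elements of all rank one blocks give everything. -/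
theorem omega_le_of_InR (S : Qf π (s + 1)) (hπ : Alt0 π) (hk : 4 ≤ k) (hs : 1 ≤ s)
    {H : Subgroup (GL (Fin (s + 1) → Fin k) F)} (hH : H ≤ S.omega)
    (hR : ∀ e d : Fin k → F, bf π e d = 0 → e ≠ 0 → (∀ c : F, d ≠ c • e) →
      ∀ x y, InR π H e d (rk (powS π s) x y)) :
    S.omega ≤ H := by
  set T := toTS S hπ (by omega) hs with hT
  set φ := Geo.glReindex (F := F) (ix k s) with hφ
  have h5 : 5 ≤ Module.finrank F (Fin (k ^ s) × Fin k → F) := five_le (by omega) (by
    calc 5 ≤ 4 ^ 2 := by norm_num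
      _ ≤ k ^ 2 := Nat.pow_le_pow_left hk 2
      _ ≤ k ^ (s + 1) := Nat.pow_le_pow_right (by omega) (by omega))
  have hΩ : S.omega.map φ.toMonoidHom = Geo.omegaGL ⇑T.Q := omega_toTS S hπ (by omega) hs
  set M := H.map φ.toMonoidHom with hM
  have hMΩ : M ≤ Geo.omegaGL ⇑T.Q := hΩ ▸ Subgroup.map_mono hH
  let M' : Subgroup (orth T.Q) := (M.comap (isometryGroup F ⇑T.Q).subtype).map
    (isometryGroupEquiv T.Q (f := ⇑T.Q) (fun _ => rfl)).toMonoidHom
  have hM' : ∀ g ∈ M, ∃ g' ∈ M', ∀ z, g'.1 z = g.val *ᵥ z := fun g hg => by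
    obtain ⟨g₁, -, rfl⟩ := hMΩ hg
    exact ⟨OrthStab.toOrth g₁, ⟨g₁, hg, rfl⟩, fun z => rfl⟩
  have hG : ∀ x y, TensorSp.G T M (T.g₁.rankOne x y) := by
    intro x y e d hed he hd
    obtain ⟨g, hg, hgv⟩ := hR e d hed he (fun c e' => hd (Submodule.mem_span_singleton.mpr ⟨c, e'.symm⟩))
      (y ∘ finFunctionFinEquiv) (-(x ∘ finFunctionFinEquiv))
    refine ⟨φ g, ⟨g, hg, rfl⟩, fun z => ?_⟩
    apply (ix k s).surjective.injective_comp_right
    show ((φ g).val *ᵥ z) ∘ ix k s = _
    rw [hφ, glReindex_ix_mulVec, hgv, add_mulVec, one_mulVec, yel, adj_rk, tau_tail S hπ (by omega), kz_smul_right,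
      add_mulVec, smul_mulVec, ← rk_cz, ← rk_cz, rk_mulVec, rk_mulVec, TensorSp.R_apply, T.g₁.adj_rankOne]
    simp only [TensorSp.SForm.rankOne_apply, LinearMap.neg_apply, map_neg, map_smul, Pi.add_comp, Pi.neg_comp,
      Pi.smul_comp, emb_ix]
    rw [← T.polar_emb, ← T.polar_emb]
    have hp : ∀ (w : Fin k → F) (u : Fin (k ^ s) → F),
        QuadraticMap.polar T.Q (TensorMax.emb w u) z =
          bf (powS π (s + 1)) (z ∘ ix k s) (cz w (u ∘ finFunctionFinEquiv)) := fun w u => by
      rw [QuadraticMap.polar_comm, show QuadraticMap.polar T.Q z (TensorMax.emb w u) =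
        QuadraticMap.polar S.Q (z ∘ ix k s) (TensorMax.emb w u ∘ ix k s) from rfl, S.pol, emb_ix]
    have hn : ∀ (w : Fin k → F) (u : (Fin s → Fin k) → F), cz w (-u) = -cz w u := fun w u =>
      funext fun a => mul_neg _ _
    rw [hp, hp, hn, bf_neg_right]
    module
  have hgen := TensorSp.eichGroup_le_of_rankOne (S := T) (H := M) hk h5 hM' hG (Nat.one_le_pow _ _ (by omega))
  have hle : Geo.omegaGL ⇑T.Q ≤ M := by
    rintro _ ⟨g₁, hg₁, rfl⟩
    obtain ⟨g₂, hg₂, hgg⟩ := hgen ((OrthStab.mem_omega_iff T.nd h5 g₁).mp hg₁)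
    exact ((isometryGroupEquiv T.Q (f := ⇑T.Q) (fun _ => rfl)).injective hgg) ▸ hg₂
  rw [← hΩ] at hle
  exact (Subgroup.map_le_map_iff_of_injective (f := φ.toMonoidHom) φ.injective).mp hle

end Members

/-! ### Transfer -/

/-- An alternating form has the Gram matrix of a signed involution without fixed index in some basis. -/
theorem exists_sgn0 {f₁ : (Fin k → F) → (Fin k → F) → F} (hf : Geo.IsSymplecticForm f₁) :
    ∃ π : Sgn F (Fin k), Alt0 π ∧ ∃ col : Fin k → Fin k → F, ∀ a b, f₁ (col a) (col b) = gramS π a b := by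
  classical
  let B : LinearMap.BilinForm F (Fin k → F) :=
    LinearMap.mk₂ F f₁ hf.bilinear.add_left (fun c x y => hf.bilinear.smul_left c x y) hf.bilinear.add_right
      (fun c x y => hf.bilinear.smul_right c x y)
  obtain ⟨m, r, b, hef, hee, hff, hrad⟩ := Forms.exists_symplectic_basis_with_radical B fun x => hf.alternating x
  have hr : r = 0 := by
    rcases Nat.eq_zero_or_pos r with h | h
    · exact h
    exfalso
    obtain ⟨-, ⟨y, hy⟩⟩ := hf.nondegenerate _ (b.ne_zero (Sum.inr ⟨0, h⟩))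
    exact hy (hrad ⟨0, h⟩ y)
  subst hr
  have hcard : Fintype.card (Fin m ⊕ Fin m) = k := by
    have h := Module.finrank_eq_card_basis b
    rw [Module.finrank_fintype_fun_eq_card, Fintype.card_fin] at h
    simpa using h.symm
  let e : (Fin m ⊕ Fin m) ≃ Fin k := Fintype.equivFinOfCardEq hcard
  let π : Sgn F (Fin k) :=
    { J := e.symm.trans ((Equiv.sumComm (Fin m) (Fin m)).trans e)
      inv := fun a => by
        obtain ⟨z, rfl⟩ := e.surjective a
        cases z <;> simp
      ε := fun a => Sum.elim (fun _ => 1) (fun _ => -1) (e.symm a)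
      τ := -1
      ε_sq := fun a => by
        obtain ⟨z, rfl⟩ := e.surjective a
        cases z <;> simp
      τ_sq := by simp
      ε_J := fun a => by
        obtain ⟨z, rfl⟩ := e.surjective a
        cases z <;> simp }
  refine ⟨π, ⟨rfl, fun a => ?_⟩, fun a => b (Sum.inl (e.symm a)), fun a c => ?_⟩
  · obtain ⟨z, rfl⟩ := e.surjective a
    cases z <;> simp [π]
  obtain ⟨za, rfl⟩ := e.surjective a
  obtain ⟨zc, rfl⟩ := e.surjective c
  simp only [Equiv.symm_apply_apply]
  show B _ _ = _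
  rcases za with i | i <;> rcases zc with j | j
  · rw [hee]; simp [gramS, π]
  · rw [hef]; simp [gramS, π, eq_comm]
  · show f₁ _ _ = _
    rw [hf.skew, show f₁ (b (Sum.inl (Sum.inl j))) (b (Sum.inl (Sum.inr i))) = _ from hef j i]
    by_cases h : j = i <;> simp [gramS, π, h]
  · rw [hff]; simp [gramS, π]

/-- The model of the hypotheses of `S5706`. -/
theorem exists_model {n : ℕ} (Q : QuadraticForm F (Fin n → F)) (e : Fin n ≃ (Fin t → Fin k)) (P : GL (Fin n) F)
    (f₁ : (Fin k → F) → (Fin k → F) → F) (hf₁ : Geo.IsSymplecticForm f₁)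
    (hT : Geo.IsTensorPowerFormStructure id (QuadraticMap.polar ⇑Q) f₁ e P)
    (hpure : ∀ xs : Fin t → (Fin k → F), Q (P.val *ᵥ ((fun a : Fin t → Fin k => ∏ i, xs i (a i)) ∘ e)) = 0) :
    ∃ π : Sgn F (Fin k), Alt0 π ∧ ∃ S : Qf π t, ∃ Φ : GL (Fin t → Fin k) F ≃* GL (Fin n) F,
      (∀ Y, Φ Y ∈ Geo.tensorWreathSubgroup k t e P ↔ Y ∈ Geo.tensorWreathStandard k t F) ∧
      S.omega.map Φ.toMonoidHom = Geo.omegaGL ⇑Q := by
  classical
  obtain ⟨π, hπ, col, hcol⟩ := exists_sgn0 hf₁
  obtain ⟨c, hc, hT⟩ := hT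
  set Γ := Geo.gramMatrix f₁ with hΓdef
  have hΓ := eq_gram (RingHom.id F) hf₁.bilinear.add_left hf₁.bilinear.smul_left hf₁.bilinear.add_right
    (fun a v x => hf₁.bilinear.smul_right a v x)
  set R : Matrix (Fin k) (Fin k) F := Matrix.of fun a i => col i a with hR
  have hRG : Rᵀ * Γ * R = gramS π := by
    refine Matrix.ext fun i j => ?_
    rw [← hcol, hΓ, mul_assoc]
    simp only [Matrix.mul_apply, Matrix.mulVec, dotProduct, hR, Matrix.transpose_apply, Matrix.of_apply,
      Function.comp_apply, RingHom.id_apply, hΓdef]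
  have hRdet : R.det ≠ 0 := fun h0 => gramS_det π (by
    rw [← hRG, Matrix.det_mul, Matrix.det_mul, Matrix.det_transpose, h0, zero_mul, zero_mul])
  let r : GL (Fin k) F := Matrix.GeneralLinearGroup.mkOfDetNeZero R hRdet
  let T : GL (Fin t → Fin k) F := tensGL fun _ => r
  let Φ : GL (Fin t → Fin k) F ≃* GL (Fin n) F :=
    (MulAut.conj T).trans ((Geo.glReindex e.symm).trans (MulAut.conj P))
  let L : ((Fin t → Fin k) → F) →ₗ[F] (Fin n → F) :=
    P.val.mulVecLin ∘ₗ LinearMap.funLeft F F e ∘ₗ T.val.mulVecLin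
  have hLv : ∀ v, L v = P.val *ᵥ ((T.val *ᵥ v) ∘ e) := fun v => rfl
  have hL : ∀ (Y : GL (Fin t → Fin k) F) v, (Φ Y).val *ᵥ L v = L (Y.val *ᵥ v) := by
    intro Y v
    simp only [hLv, Φ, MulEquiv.trans_apply, MulAut.conj_apply, Units.val_mul]
    rw [Matrix.mulVec_mulVec, mul_assoc, mul_assoc, Units.inv_mul, mul_one, ← Matrix.mulVec_mulVec]
    congr 1
    show (Matrix.reindex e.symm e.symm (T.val * Y.val * (T⁻¹ : GL (Fin t → Fin k) F).val)) *ᵥ _ = _
    rw [Matrix.reindex_apply, Matrix.submatrix_mulVec_equiv]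
    simp only [Equiv.symm_symm, Function.comp_assoc, Equiv.self_comp_symm, Function.comp_id]
    rw [Matrix.mulVec_mulVec, mul_assoc _ _ T.val, Units.inv_mul, mul_one, Matrix.mulVec_mulVec]
  have hLs : Function.Surjective L := fun w =>
    ⟨(T⁻¹ : GL (Fin t → Fin k) F).val *ᵥ (((P⁻¹ : GL (Fin n) F).val *ᵥ w) ∘ e.symm), by
      simp only [hLv, Matrix.mulVec_mulVec, Units.mul_inv, Matrix.one_mulVec, Function.comp_assoc,
        Equiv.symm_comp_self, Function.comp_id]⟩
  have hpol : ∀ x y, QuadraticMap.polar ⇑Q (L x) (L y) = c * bf (powS π t) x y := by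
    intro x y
    rw [hLv, hLv, hT, ← form_gramS]
    congr 1
    have hsum : ∀ X Y : (Fin t → Fin k) → F, (∑ a, ∑ b, X a * (∏ i, Γ (a i) (b i)) * id (Y b)) =
        X ⬝ᵥ (tens (fun _ : Fin t => Γ) *ᵥ Y) := fun X Y => by
      simp [dotProduct, Matrix.mulVec, Finset.mul_sum, tens_apply, mul_assoc]
    rw [hsum, Matrix.mulVec_mulVec, ← Matrix.vecMul_transpose, ← Matrix.dotProduct_mulVec,
      Matrix.mulVec_mulVec, ← mul_assoc]
    congr 2
    show (tens fun _ : Fin t => R)ᵀ * tens (fun _ => Γ) * (tens fun _ => R) = _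
    rw [tens_transpose, tens_mul, tens_mul]
    congr 1
    funext _
    exact hRG
  refine ⟨π, hπ, ⟨c⁻¹ • Q.comp L, fun x y => ?_, fun x => ?_⟩, Φ, fun Y => ?_, ?_⟩
  · rw [show ⇑(c⁻¹ • Q.comp L) = c⁻¹ • (⇑Q ∘ L) from rfl, QuadraticMap.polar_smul]
    rw [show QuadraticMap.polar (⇑Q ∘ L) x y = QuadraticMap.polar ⇑Q (L x) (L y) by
      simp [QuadraticMap.polar], hpol, smul_eq_mul, inv_mul_cancel_left₀ hc]
  · show c⁻¹ * Q (L (pv x)) = 0
    rw [hLv, show T.val *ᵥ pv x = pv fun i => R *ᵥ x i from tens_mulVec_pv _ _,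
      show (pv fun i => R *ᵥ x i) = fun a : Fin t → Fin k => ∏ i, (R *ᵥ x i) (a i) from rfl, hpure, mul_zero]
  · have hTm : T ∈ Geo.tensorWreathStandard k t F := tensGL_mem _
    constructor
    · rintro ⟨_, ⟨w, hw, rfl⟩, h⟩
      have h' : Φ (T⁻¹ * w * T) = Φ Y := Eq.trans (by simp [Φ, mul_assoc]) h
      exact Φ.injective h' ▸ mul_mem (mul_mem (inv_mem hTm) hw) hTm
    · exact fun h => ⟨_, ⟨T * Y * T⁻¹, mul_mem (mul_mem hTm h) (inv_mem hTm), rfl⟩, rfl⟩
  · rw [show (Qf.omega (π := π) ⟨c⁻¹ • Q.comp L, _, _⟩) = _ from omega_eq _, omega_eq, Subgroup.map_commutator]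
    suffices h : (isometryGroup F ⇑(c⁻¹ • Q.comp L)).map Φ.toMonoidHom = isometryGroup F ⇑Q by rw [h]
    ext g
    constructor
    · rintro ⟨Y, hY, rfl⟩ u _
      obtain ⟨z, rfl⟩ := hLs u
      show Q ((Φ Y).val *ᵥ L z) = Q (L z)
      rw [hL]
      exact mul_left_cancel₀ (inv_ne_zero hc) (hY z 0)
    · intro hg
      refine ⟨Φ.symm g, fun z _ => ?_, Φ.apply_symm_apply g⟩
      show c⁻¹ * Q (L ((Φ.symm g).val *ᵥ z)) = c⁻¹ * Q (L z)
      rw [← hL, Φ.apply_symm_apply]
      exact congrArg (c⁻¹ * ·) (hg _ 0)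

/-- Maximality from the model. -/
theorem isMaximalIn_of_model {n : ℕ} {Q : (Fin n → F) → F} {e : Fin n ≃ (Fin t → Fin k)} {P : GL (Fin n) F}
    (S : Qf π t) (Φ : GL (Fin t → Fin k) F ≃* GL (Fin n) F)
    (hW : ∀ Y, Φ Y ∈ Geo.tensorWreathSubgroup k t e P ↔ Y ∈ Geo.tensorWreathStandard k t F)
    (hΩ : S.omega.map Φ.toMonoidHom = Geo.omegaGL Q)
    (hproper : ¬ S.omega ≤ Geo.tensorWreathStandard k t F)
    (hcore : ∀ H ≤ S.omega, Geo.tensorWreathStandard k t F ⊓ S.omega ≤ H →
      ¬ H ≤ Geo.tensorWreathStandard k t F → S.omega ≤ H) :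
    Geo.IsMaximalIn (Geo.omegaGL Q) (Geo.tensorWreathSubgroup k t e P ⊓ Geo.omegaGL Q) := by
  have hinj : Function.Injective Φ.toMonoidHom := Φ.injective
  have hK : (Geo.tensorWreathStandard k t F ⊓ S.omega).map Φ.toMonoidHom =
      Geo.tensorWreathSubgroup k t e P ⊓ Geo.omegaGL Q := by
    rw [Subgroup.map_inf _ _ _ hinj, hΩ]
    congr 1
    ext g
    obtain ⟨Y, rfl⟩ := Φ.surjective g
    exact ⟨fun ⟨Z, hZ, e'⟩ => (hW Y).mpr (Φ.injective e' ▸ hZ), fun h => ⟨Y, (hW Y).mp h, rfl⟩⟩
  rw [← hK, ← hΩ]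
  refine ⟨(Subgroup.map_lt_map_iff_of_injective hinj).mpr
    (lt_of_le_of_ne inf_le_right fun h => hproper (h ▸ inf_le_left)), fun M m1 m2 => ?_⟩
  have hM : (M.comap Φ.toMonoidHom).map Φ.toMonoidHom = M :=
    Subgroup.map_comap_eq_self_of_surjective Φ.surjective M
  set H := M.comap Φ.toMonoidHom
  have hH : H ≤ S.omega := by rw [← Subgroup.map_le_map_iff_of_injective hinj, hM]; exact m2
  have hle : Geo.tensorWreathStandard k t F ⊓ S.omega ≤ H := Subgroup.map_le_iff_le_comap.mp m1
  by_cases hHW : H ≤ Geo.tensorWreathStandard k t F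
  · left; rw [← hM, le_antisymm (le_inf hHW hH) hle]
  · right; rw [← hM, le_antisymm hH (hcore H hH hle hHW)]

end Cfsg.Agent.WreathP
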