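import Cfsg.Agent.WreathP.Moves
import Cfsg.Agent.WreathS.Levi

/-!
A submodule invariant under the slot transvections with an element which is not scalar contains a pure one;
an invariant subalgebra then contains a whole slot (helper56).
-/

set_option autoImplicit false
set_option linter.unusedSectionVars false

namespace Cfsg.Agent.WreathP

open Matrix Cfsg.Agent.MaxSub Cfsg.Agent.MaxSub.Asch Cfsg.Agent.FG75.SpinTensor Cfsg.Agent.WreathMax Cfsg.Agent.WreathS

variable {F : Type*} [Field F] {k t : ℕ} {π : Sgn F (Fin k)}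

theorem Piece.sq0 (hπ : Alt0 π) {P : Matrix (Fin k) (Fin k) F} (h : Piece π P) : P * P = 0 := by
  rcases h with ⟨x, -, rfl⟩ | ⟨a, b, -, -, hab, rfl⟩
  · exact hπ.rk_sq x
  · simp only [mul_sub, sub_mul, rk_mul, hπ.self, hab, bf_eq_zero_comm π hab, zero_smul, sub_zero]

theorem Piece.ne_zero0 (hπ : Alt0 π) {P : Matrix (Fin k) (Fin k) F} (h : Piece π P) : P ≠ 0 := by
  rcases h with ⟨x, hx, rfl⟩ | ⟨a, b, ha, hind, hab, rfl⟩
  · exact rk_self_ne_zero π hx
  · obtain ⟨w, hbw, haw⟩ := exists_dual hπ ha hind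
    intro h0
    have h1 := congrArg (fun X => X *ᵥ w) h0
    simp only [sub_mulVec, rk_mulVec, zero_mulVec, hπ.skew w a, hπ.skew w b, hbw, haw] at h1
    exact ha (by simpa using h1)

theorem Piece.ne_one0 (hπ : Alt0 π) {P : Matrix (Fin k) (Fin k) F} (h : Piece π P) : P ≠ 1 := fun h1 => by
  have h2 := Piece.sq0 hπ h
  rw [h1, one_mul] at h2
  exact Piece.ne_zero0 hπ h (h1.trans h2)

/-- Isometries fixing a vector are transitive on the vectors with a given value at it. -/
theorem exists_move (hπ : Alt0 π) {e v w : Fin k → F} (hvw0 : bf π e v = bf π e w) (hv : ∀ c : F, v ≠ c • e)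
    (hw : ∀ c : F, w ≠ c • e) :
    ∃ g ∈ U π, (g : Matrix (Fin k) (Fin k) F) *ᵥ e = e ∧ (g : Matrix (Fin k) (Fin k) F) *ᵥ v = w := by
  have key : ∀ {v w : Fin k → F}, bf π e v = bf π e w → bf π v w ≠ 0 →
      ∃ g ∈ U π, (g : Matrix (Fin k) (Fin k) F) *ᵥ e = e ∧ (g : Matrix (Fin k) (Fin k) F) *ᵥ v = w := by
    intro v w h hne
    refine ⟨st (bf π) (w - v) (bf π v w)⁻¹, st_mem_isom hπ.form _ _, ?_, ?_⟩
    · rw [st_mulVec hπ.form, bf_sub_right, h, sub_self, mul_zero, zero_smul, add_zero]
    · rw [st_mulVec hπ.form, bf_sub_right, hπ.self, sub_zero, inv_mul_cancel₀ hne, one_smul, add_sub_cancel]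
  by_cases hne : bf π v w ≠ 0
  · exact key hvw0 hne
  rw [not_not] at hne
  obtain ⟨m, hm, hvm, hwm⟩ : ∃ m, bf π e m = bf π e v ∧ bf π v m ≠ 0 ∧ bf π w m ≠ 0 := by
    by_cases hev : bf π e v = 0
    · by_cases he : e = 0
      · obtain ⟨z, hz1, hz2⟩ := exists_common' hπ (show v ≠ 0 from fun e0 => hv 0 (by rw [e0, zero_smul]))
          (show w ≠ 0 from fun e0 => hw 0 (by rw [e0, zero_smul]))
        exact ⟨z, by rw [he, bf_zero_left, bf_zero_left], hz1, hz2⟩
      obtain ⟨m1, hm1, hm1e⟩ := exists_dual hπ he hv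
      obtain ⟨m2, hm2, hm2e⟩ := exists_dual hπ he hw
      by_cases hA : bf π w m1 = 0
      · by_cases hB : bf π v m2 = 0
        · refine ⟨m1 + m2, by rw [bf_add_right, hm1e, hm2e, add_zero, hev], ?_, ?_⟩
          · rw [bf_add_right, hm1, hB, add_zero]; exact one_ne_zero
          · rw [bf_add_right, hA, hm2, zero_add]; exact one_ne_zero
        · exact ⟨m2, by rw [hm2e, hev], hB, by rw [hm2]; exact one_ne_zero⟩
      · exact ⟨m1, by rw [hm1e, hev], by rw [hm1]; exact one_ne_zero, hA⟩
    · refine ⟨v + e, by rw [bf_add_right, hπ.self, add_zero], ?_, ?_⟩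
      · rw [bf_add_right, hπ.self, zero_add, hπ.skew]; exact neg_ne_zero.mpr hev
      · rw [bf_add_right, bf_eq_zero_comm π hne, zero_add, hπ.skew, ← hvw0]; exact neg_ne_zero.mpr hev
  obtain ⟨g1, hg1, hg1e, hg1v⟩ := key hm.symm hvm
  obtain ⟨g2, hg2, hg2e, hg2m⟩ := key (v := m) (w := w) (hm.trans hvw0) (fun e0 => hwm (bf_eq_zero_comm π e0))
  exact ⟨g2 * g1, mul_mem hg2 hg1, by rw [Units.val_mul, ← mulVec_mulVec, hg1e, hg2e],
    by rw [Units.val_mul, ← mulVec_mulVec, hg1v, hg2m]⟩

/-- Isometries are transitive on pairs with value one. -/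
theorem exists_map_pair (hπ : Alt0 π) {x z x' z' : Fin k → F} (h : bf π x z = 1) (h' : bf π x' z' = 1) :
    ∃ g ∈ U π, (g : Matrix (Fin k) (Fin k) F) *ᵥ x = x' ∧ (g : Matrix (Fin k) (Fin k) F) *ᵥ z = z' := by
  have hne : ∀ {a b : Fin k → F}, bf π a b = 1 → a ≠ 0 ∧ ∀ c : F, b ≠ c • a := fun {a b} h =>
    ⟨fun e => by rw [e, bf_zero_left] at h; exact zero_ne_one h,
      fun c e => by rw [e, bf_smul_right, hπ.self, mul_zero] at h; exact zero_ne_one h⟩
  obtain ⟨g, hg, hgx⟩ := exists_map hπ (hne h).1 (hne h').1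
  have hz : bf π x' ((g : Matrix (Fin k) (Fin k) F) *ᵥ z) = 1 := by
    rw [← hgx, mem_isom.mp hg, h]
  obtain ⟨g', hg', hg'x, hg'z⟩ := exists_move hπ (hz.trans h'.symm) (hne hz).2 (hne h').2
  exact ⟨g' * g, mul_mem hg' hg, by rw [Units.val_mul, ← mulVec_mulVec, hgx, hg'x],
    by rw [Units.val_mul, ← mulVec_mulVec, hg'z]⟩

/-- An invariant submodule containing a rank one idempotent is everything. -/
theorem all_of_idem (hπ : Alt0 π) {S : Submodule F (Matrix (Fin k) (Fin k) F)}
    (hS : ∀ g ∈ U π, ∀ M ∈ S, (g : Matrix (Fin k) (Fin k) F) * M * ((g⁻¹ : GL (Fin k) F) : Matrix (Fin k) (Fin k) F) ∈ S)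
    {x z : Fin k → F} (h : bf π x z = 1) (hmem : rk π x z ∈ S) (M : Matrix (Fin k) (Fin k) F) : M ∈ S := by
  have hone : ∀ u v, bf π u v = 1 → rk π u v ∈ S := fun u v huv => by
    obtain ⟨g, hg, hgx, hgz⟩ := exists_map_pair hπ h huv
    have := hS g hg _ hmem
    rwa [conj_rk π hg, hgx, hgz] at this
  have hall : ∀ u v, rk π u v ∈ S := by
    intro u v
    by_cases huv : bf π u v = 0
    · by_cases hu : u = 0
      · rw [hu, rk_zero_left]; exact S.zero_mem
      obtain ⟨m, hm⟩ := exists_right_eq_one π hu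
      have := S.sub_mem (hone u (v + m) (by rw [bf_add_right, huv, zero_add, hm])) (hone u m hm)
      rwa [rk_add_right, add_sub_cancel_right] at this
    · have := S.smul_mem (bf π u v) (hone u ((bf π u v)⁻¹ • v) (by rw [bf_smul_right, inv_mul_cancel₀ huv]))
      rwa [rk_smul_right, smul_smul, mul_inv_cancel₀ huv, one_smul] at this
  rw [Matrix.matrix_eq_sum_single M]
  refine S.sum_mem fun a _ => S.sum_mem fun b _ => ?_
  rw [show Matrix.single a b (M a b) = M a b • Matrix.single a b (1 : F) by simp [Matrix.smul_single],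
    single_eq_rk (π := π)]
  exact S.smul_mem _ (hall _ _)

/-- Invariant under the conjugation by slot transvections. -/
def RootInv (π : Sgn F (Fin k)) (S : Submodule F (Matrix (Fin t → Fin k) (Fin t → Fin k) F)) : Prop :=
  ∀ i x (c : F), ∀ Z ∈ S, conjHom (sRoot π i x c) Z ∈ S

variable {S : Submodule F (Matrix (Fin t → Fin k) (Fin t → Fin k) F)}

theorem RootInv.conj_slotU [Finite F] (hπ : Alt0 π) (hS : RootInv π S) (i : Fin t) {g : GL (Fin k) F}
    (hg : g ∈ U π) {Z : Matrix (Fin t → Fin k) (Fin t → Fin k) F} (hZ : Z ∈ S) : conjHom (slotU i g) Z ∈ S := by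
  let K : Subgroup (GL (Fin k) F) :=
    { carrier := {g | ∀ Z, conjHom (slotU (t := t) i g) Z ∈ S ↔ Z ∈ S}
      one_mem' := fun Z => by
        rw [show slotU (t := t) i (1 : GL (Fin k) F) = 1 from Units.ext (by rw [slotU_coe, Units.val_one, slot_one', Units.val_one])]
        simp [conjHom_apply]
      mul_mem' := fun {a b} ha hb Z => by rw [slotU_mul, conjHom_mul', ha, hb]
      inv_mem' := fun {a} ha Z => by
        conv_lhs => rw [← ha, ← conjHom_mul', ← slotU_mul, mul_inv_cancel]
        rw [show slotU (t := t) i (1 : GL (Fin k) F) = 1 from Units.ext (by rw [slotU_coe, Units.val_one, slot_one', Units.val_one])]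
        simp [conjHom_apply] }
  have hmem : g ∈ K := isom_le_of_st_mem hπ.form (M := K) (fun v c Z => ⟨fun h => by
    have h1 := hS i v (-c) _ h
    rwa [← conjHom_mul', show slotU i (st (bf π) v c) = sRoot π i v c from rfl, sRoot_mul hπ, neg_add_cancel,
      sRoot_zero hπ, show conjHom (1 : GL (Fin t → Fin k) F) Z = Z by simp [conjHom_apply]] at h1,
    hS i v c Z⟩) hg
  exact (hmem Z).mpr hZ

/-- One slot of an element of an invariant submodule is made pure. -/
theorem slot_step' [Finite F] (hπ : Alt0 π) (hk : 3 ≤ k) (hS : RootInv π S) (l : Fin t)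
    {G Z : Matrix (Fin t → Fin k) (Fin t → Fin k) F} (hG : ∀ A, Commute (slot l A) G)
    (hZ : ¬ ∀ A, Commute (slot l A) Z) (h : G * Z ∈ S) :
    ∃ P C, Piece π P ∧ C ≠ 0 ∧ (∀ A, Commute (slot l A) C) ∧
      (∀ j, j ≠ l → (∀ A, Commute (slot j A) Z) → ∀ A, Commute (slot j A) C) ∧
      G * (slot l P * C) ∈ S := by
  classical
  have hcomm : ∀ x y, ∀ j, j ≠ l → (∀ A, Commute (slot j A) Z) → ∀ A, Commute (slot j A) (contr π l x y Z) := by
    intro x y j hj hjZ A
    refine Commute.sum_right _ _ _ fun a _ => ?_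
    have hc : ∀ B, Commute (slot j A) (slot l B) := fun B => slot_comm hj A B
    exact ((hc _).mul_right (hjZ A)).mul_right (hc _)
  obtain ⟨x, y, hyx, hne⟩ : ∃ x y, bf π y x = 0 ∧ contr π l x y Z ≠ 0 := by
    by_contra hc
    push Not at hc
    exact hZ (commute_of_sandwich l fun x y hyx p q => by rw [sandwich, hc x y hyx, mul_zero])
  obtain ⟨x, y, hyx, hind, hne⟩ : ∃ x y, bf π y x = 0 ∧ (∀ c : F, x ≠ c • y) ∧ contr π l x y Z ≠ 0 := by
    by_cases hi : ∀ c : F, x ≠ c • y
    · exact ⟨x, y, hyx, hi, hne⟩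
    push Not at hi
    obtain ⟨c, hc⟩ := hi
    have hy0 : y ≠ 0 := fun e0 => hne (by rw [e0, ← zero_smul F (0 : Fin k → F), contr_smul_right, zero_smul])
    obtain ⟨u, hu, hui⟩ : ∃ u, bf π y u = 0 ∧ ∀ r : F, u ≠ r • y := by
      let f : (Fin k → F) →ₗ[F] F :=
        { toFun := fun x => bf π y x
          map_add' := fun a b => bf_add_right π _ _ _
          map_smul' := fun r a => bf_smul_right π _ _ _ }
      by_contra hcon
      push Not at hcon
      have hle : LinearMap.ker f ≤ Submodule.span F {y} := fun x hx => by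
        obtain ⟨r, rfl⟩ := hcon x hx
        exact Submodule.smul_mem _ _ (Submodule.mem_span_singleton_self y)
      have h1 := (Submodule.finrank_mono hle).trans (le_of_eq (finrank_span_singleton hy0))
      have h2 := f.finrank_range_add_finrank_ker
      have h3 : Module.finrank F (LinearMap.range f) ≤ 1 :=
        (Submodule.finrank_le _).trans (le_of_eq (Module.finrank_self F))
      rw [Module.finrank_fin_fun] at h2
      omega
    by_cases hC : contr π l u y Z ≠ 0
    · exact ⟨u, y, hu, hui, hC⟩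
    rw [not_not] at hC
    refine ⟨u + x, y, by rw [bf_add_right, hu, hyx, add_zero],
      fun r hr => hui (r - c) (by rw [sub_smul, ← hr, ← hc, add_sub_cancel_right]), ?_⟩
    rwa [contr_add_left, hC, zero_add]
  have hxy : bf π x y = 0 := bf_eq_zero_comm π hyx
  have hy0 : y ≠ 0 := fun e0 => hne (by rw [e0, ← zero_smul F (0 : Fin k → F), contr_smul_right, zero_smul])
  have hΔ : ∀ (v : Fin k → F) (X : Matrix (Fin t → Fin k) (Fin t → Fin k) F), G * X ∈ S →
      G * (slot l (rk π v v) * X - X * slot l (rk π v v) - slot l (rk π v v) * X * slot l (rk π v v)) ∈ S := by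
    intro v X hX
    have h1 := S.sub_mem (hS l v 1 _ hX) hX
    convert h1 using 1
    have hfix : conjHom (sRoot π l v 1) G = G := by
      rw [conjHom_sRoot hπ, (hG _).eq]
      simp only [mul_assoc, ← slot_mul', hπ.rk_sq, slot_zero', mul_zero, smul_zero, sub_self, add_zero, sub_zero]
    rw [map_mul, hfix, conjHom_sRoot hπ]
    simp only [one_smul, mul_one, mul_add, mul_sub]
    abel
  -- the symmetrical shape
  have exy : slot (t := t) l (rk π x x) * slot l (rk π y y) = 0 := by
    rw [← slot_mul', rk_mul, hyx, zero_smul, slot_zero']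
  have eyx : slot (t := t) l (rk π y y) * slot l (rk π x x) = 0 := by
    rw [← slot_mul', rk_mul, hxy, zero_smul, slot_zero']
  have hE : G * (slot l (rk π x y) * contr π l x y Z + slot l (rk π y x) * contr π l y x Z) ∈ S := by
    have h1 := S.neg_mem (hΔ x _ (hΔ y Z h))
    convert h1 using 1
    rw [← mul_neg, ← sandwich, ← sandwich]
    congr 1
    simp only [mul_sub, sub_mul, ← mul_assoc, exy, zero_mul,
      mul_assoc _ (slot l (rk π y y)) (slot l (rk π x x)), eyx, mul_zero]
    abel
  obtain ⟨g, hg, hgx, hgy⟩ := exists_move hπ (e := y) (v := x) (w := x + y)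
    (by rw [bf_add_right, hπ.self, add_zero]) hind
    (fun r hr => hind (r - 1) (by rw [sub_smul, one_smul, ← hr, add_sub_cancel_right]))
  have hfixG : conjHom (slotU l g) G = G := by
    rw [conjHom_apply, slotU_coe, (hG _).eq, mul_assoc, ← slotU_coe, Units.mul_inv, mul_one]
  have hfixC : ∀ a b, conjHom (slotU l g) (contr π l a b Z) = contr π l a b Z := fun a b => by
    rw [conjHom_apply, slotU_coe, (contr_comm l a b Z _).eq, mul_assoc, ← slotU_coe, Units.mul_inv, mul_one]
  have hslot : ∀ A, conjHom (slotU l g) (slot l A) =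
      slot l ((g : Matrix (Fin k) (Fin k) F) * A * ((g⁻¹ : GL (Fin k) F) : Matrix (Fin k) (Fin k) F)) := fun A => by
    rw [conjHom_apply, show (slotU (t := t) l g)⁻¹ = slotU l g⁻¹ from inv_eq_of_mul_eq_one_right (by
      rw [← slotU_mul, mul_inv_cancel]; exact Units.ext (by rw [slotU_coe, Units.val_one, slot_one', Units.val_one])),
      slotU_coe, slotU_coe, ← slot_mul', ← slot_mul']
  have hD : G * (slot l (rk π y y) * (contr π l x y Z + contr π l y x Z)) ∈ S := by
    have h1 := S.sub_mem (hS.conj_slotU hπ l hg hE) hE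
    convert h1 using 1
    rw [map_mul, hfixG, map_add, map_mul, map_mul, hfixC, hfixC, hslot, hslot, conj_rk π hg, conj_rk π hg, hgx, hgy,
      rk_add_left, rk_add_right, slot_add', slot_add']
    simp only [mul_add, add_mul]
    abel
  by_cases hsum : contr π l x y Z + contr π l y x Z = 0
  · refine ⟨rk π x y - rk π y x, contr π l x y Z, Or.inr ⟨y, x, hy0, hind, hyx, rfl⟩, hne, contr_comm l x y Z,
      hcomm x y, ?_⟩
    convert hE using 1
    rw [eq_neg_of_add_eq_zero_right hsum, slot_sub', sub_mul, mul_neg, sub_eq_add_neg]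
  · exact ⟨rk π y y, _, Or.inl ⟨y, hy0, rfl⟩, hsum, fun A => (contr_comm l x y Z A).add_right (contr_comm l y x Z A),
      fun j hj hjZ A => (hcomm x y j hj hjZ A).add_right (hcomm y x j hj hjZ A), hD⟩

/-- A non-scalar element of an invariant submodule gives a pure one. -/
theorem exists_pure' [Finite F] (hπ : Alt0 π) (hk : 3 ≤ k) (hS : RootInv π S)
    {Z : Matrix (Fin t → Fin k) (Fin t → Fin k) F} (h : Z ∈ S) (hZ : ∀ c : F, Z ≠ c • 1) :
    ∃ P : Fin t → Matrix (Fin k) (Fin k) F, (∀ l, P l = 1 ∨ Piece π (P l)) ∧ (∃ l, Piece π (P l)) ∧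
      tens P ∈ S := by
  classical
  have key : ∀ T : Finset (Fin t), ∃ P : Fin t → Matrix (Fin k) (Fin k) F, (∀ l, l ∉ T → P l = 1) ∧
      (∀ l, P l = 1 ∨ Piece π (P l)) ∧ ∃ Z', Z' ≠ 0 ∧ ((∀ l, P l = 1) → Z' = Z) ∧
      (∀ l ∈ T, ∀ A, Commute (slot l A) Z') ∧ tens P * Z' ∈ S := by
    intro T
    induction T using Finset.induction with
    | empty =>
      refine ⟨1, fun _ _ => rfl, fun _ => Or.inl rfl, Z, fun h0 => hZ 0 (by rw [h0, zero_smul]), fun _ => rfl,
        by simp, ?_⟩
      rw [tens_one, one_mul]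
      exact h
    | insert l T hl ih =>
      obtain ⟨P, hP1, hP, Z', hZ', hT0, hcomm, hin⟩ := ih
      by_cases hc : ∀ A, Commute (slot l A) Z'
      · refine ⟨P, fun j hj => hP1 j fun hh => hj (Finset.mem_insert_of_mem hh), hP, Z', hZ', hT0,
          fun j hj => ?_, hin⟩
        rcases Finset.mem_insert.mp hj with rfl | hj
        · exact hc
        · exact hcomm j hj
      have hG : ∀ A, Commute (slot l A) (tens P) := fun A => by
        show _ * _ = _ * _
        rw [slot_mul_tens, tens_mul_slot, hP1 l hl, one_mul, mul_one]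
      obtain ⟨p, C, hp, hC0, hCl, hCj, hinC⟩ := slot_step' hπ hk hS l hG hc hin
      refine ⟨Function.update P l p, fun j hj => ?_, fun j => ?_, C, hC0, fun he => ?_, fun j hj => ?_, ?_⟩
      · rw [Function.update_of_ne (fun e : j = l => hj (e ▸ Finset.mem_insert_self _ _))]
        exact hP1 j fun hh => hj (Finset.mem_insert_of_mem hh)
      · rcases eq_or_ne j l with rfl | hjl
        · rw [Function.update_self]; exact Or.inr hp
        · rw [Function.update_of_ne hjl]; exact hP j
      · have := he l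
        rw [Function.update_self] at this
        exact absurd this (Piece.ne_one0 hπ hp)
      · rcases Finset.mem_insert.mp hj with rfl | hj
        · exact hCl
        · exact hCj j (fun e => hl (e ▸ hj)) (hcomm j hj)
      · convert hinC using 1
        rw [← mul_assoc, tens_mul_slot, hP1 l hl, one_mul]
  obtain ⟨P, -, hP, Z', hZ', hT0, hcomm, hin⟩ := key Finset.univ
  obtain ⟨a, ha⟩ := slot_centraliser (T := Z') fun i M => (hcomm i (Finset.mem_univ i) M).symm
  have hT : ∃ l, Piece π (P l) := by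
    by_contra hc
    push Not at hc
    exact hZ a (by rw [← hT0 (fun l => (hP l).resolve_right (hc l)), ha])
  have ha0 : a ≠ 0 := fun h0 => hZ' (by rw [ha, h0, zero_smul])
  rw [ha, mul_smul_comm, mul_one] at hin
  have := S.smul_mem a⁻¹ hin
  rw [smul_smul, inv_mul_cancel₀ ha0, one_smul] at this
  exact ⟨P, hP, hT, this⟩

/-- An invariant subalgebra with an element which is not scalar contains a slot. -/
theorem exists_slot_mem [Finite F] (hπ : Alt0 π) (hk : 3 ≤ k)
    {A : Subalgebra F (Matrix (Fin t → Fin k) (Fin t → Fin k) F)} (hA : RootInv π (Subalgebra.toSubmodule A))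
    {Z : Matrix (Fin t → Fin k) (Fin t → Fin k) F} (h : Z ∈ A) (hZ : ∀ c : F, Z ≠ c • 1) :
    ∃ j, ∀ M, slot j M ∈ A := by
  classical
  letI := Fintype.ofFinite F
  obtain ⟨P, hP, ⟨j, hj⟩, hPA⟩ := exists_pure' hπ hk hA h hZ
  have hconjT : ∀ {gs : Fin t → GL (Fin k) F}, (∀ i, gs i ∈ U π) → ∀ {X}, X ∈ A →
      conjHom (tensGL gs) X ∈ A := by
    intro gs hgs X hX
    have key : ∀ T : Finset (Fin t), conjHom (tensGL fun i => if i ∈ T then gs i else 1) X ∈ A := by
      intro T
      induction T using Finset.induction with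
      | empty =>
        rw [show (tensGL fun i => if i ∈ (∅ : Finset (Fin t)) then gs i else 1 : GL (Fin t → Fin k) F) = 1 by
          rw [← tensGL_one]
          congr 1]
        simpa [conjHom_apply] using hX
      | insert l T hl ih =>
        rw [show (tensGL fun i => if i ∈ insert l T then gs i else 1 : GL (Fin t → Fin k) F) =
            slotU l (gs l) * tensGL fun i => if i ∈ T then gs i else 1 by
          rw [slotU, tensGL_mul]
          congr 1
          funext i
          rcases eq_or_ne i l with rfl | hi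
          · simp [hl]
          · simp [hi]]
        rw [conjHom_mul']
        exact hA.conj_slotU hπ l (hgs l) ih
    have := key Finset.univ
    simpa using this
  have hmul : ∀ {gs : Fin t → GL (Fin k) F}, (∀ i, gs i ∈ U π) → ∀ {Q : Fin t → Matrix (Fin k) (Fin k) F},
      tens Q ∈ A → tens (fun i => Q i * ((gs i : Matrix (Fin k) (Fin k) F) * Q i * ((gs i)⁻¹ : GL (Fin k) F).val)) ∈ A := by
    intro gs hgs Q hQ
    have h1 := A.mul_mem hQ (hconjT hgs hQ)
    rw [show tensGL gs = (tensGL gs * factorPerm 1 : GL (Fin t → Fin k) F) by rw [factorPerm_one, mul_one],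
      conjHom_wreath_tens, tens_mul] at h1
    simpa [Pi.mul_def, Equiv.Perm.one_symm] using h1
  -- first product
  have h1 : ∀ l, ∃ g ∈ U π, P l = 1 ∨ ∃ (u v : Fin k → F) (c : F), u ≠ 0 ∧ v ≠ 0 ∧ c ≠ 0 ∧ (bf π u v ≠ 0 ∨ u = v) ∧
      P l * ((g : Matrix (Fin k) (Fin k) F) * P l * ((g⁻¹ : GL (Fin k) F) : Matrix (Fin k) (Fin k) F)) = c • rk π u v := by
    intro l
    rcases hP l with h | ⟨x, hx, hxe⟩ | ⟨a, b, ha, hind, hab, hTe⟩
    · exact ⟨1, one_mem _, Or.inl h⟩
    · obtain ⟨z, hz⟩ := exists_right_eq_one π hx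
      have hz0 : z ≠ 0 := fun e => by rw [e, bf_zero_right] at hz; exact zero_ne_one hz
      obtain ⟨g, hg, hgx⟩ := exists_map hπ hx hz0
      refine ⟨g, hg, Or.inr ⟨x, z, bf π z x, hx, hz0, ?_, Or.inl (by rw [hz]; exact one_ne_zero), ?_⟩⟩
      · rw [hπ.skew, hz]; exact neg_ne_zero.mpr one_ne_zero
      · rw [hxe, conj_rk π hg, hgx, rk_mul]
    · obtain ⟨w, hbw, haw⟩ := exists_dual hπ ha hind
      have hba : bf π b a = 0 := bf_eq_zero_comm π hab
      have hwa : bf π w a = 0 := bf_eq_zero_comm π haw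
      have hwb : bf π w b = -1 := by rw [hπ.skew, hbw]
      have hgU : st (bf π) (w - b) 1 ∈ U π := st_mem_isom hπ.form _ _
      have hga : (st (bf π) (w - b) 1 : Matrix (Fin k) (Fin k) F) *ᵥ a = a := by
        rw [st_mulVec hπ.form, bf_sub_right, haw, hab, sub_zero, mul_zero, zero_smul, add_zero]
      have hgb : (st (bf π) (w - b) 1 : Matrix (Fin k) (Fin k) F) *ᵥ b = w := by
        rw [st_mulVec hπ.form, bf_sub_right, hbw, hπ.self, sub_zero, mul_one, one_smul, add_sub_cancel]
      refine ⟨_, hgU, Or.inr ⟨a, a, 1, ha, ha, one_ne_zero, Or.inr rfl, ?_⟩⟩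
      rw [one_smul, hTe, mul_sub (st (bf π) (w - b) 1 : Matrix (Fin k) (Fin k) F), sub_mul _ _ ((st (bf π) (w - b) 1)⁻¹ : GL (Fin k) F).val, conj_rk π hgU, conj_rk π hgU, hga, hgb]
      simp only [mul_sub, sub_mul, rk_mul, hba, hwb, hwa, hab, hπ.self, zero_smul, neg_smul, one_smul, sub_zero,
        zero_sub, neg_neg]
  choose g₁ hg₁ hval using h1
  have hQA := hmul hg₁ hPA
  set Q : Fin t → Matrix (Fin k) (Fin k) F := fun i =>
    P i * ((g₁ i : Matrix (Fin k) (Fin k) F) * P i * ((g₁ i)⁻¹ : GL (Fin k) F).val) with hQ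
  -- second product
  have h2 : ∀ l, ∃ g ∈ U π, (P l = 1 ∧ Q l * ((g : Matrix (Fin k) (Fin k) F) * Q l * ((g⁻¹ : GL (Fin k) F) : Matrix (Fin k) (Fin k) F)) = 1) ∨
      (Piece π (P l) ∧ ∃ (u v : Fin k → F) (c : F), bf π u v = 1 ∧ c ≠ 0 ∧
        Q l * ((g : Matrix (Fin k) (Fin k) F) * Q l * ((g⁻¹ : GL (Fin k) F) : Matrix (Fin k) (Fin k) F)) = c • rk π u v) := by
    intro l
    rcases hP l with h | hp
    · exact ⟨1, one_mem _, Or.inl ⟨h, by simp [Q, h]⟩⟩
    obtain ⟨u, v, c, hu, hv, hc, hor, e⟩ := (hval l).resolve_left (Piece.ne_one0 hπ hp)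
    have eQ : Q l = c • rk π u v := e
    rcases hor with huv | rfl
    · refine ⟨1, one_mem _, Or.inr ⟨hp, (bf π u v)⁻¹ • u, v, c * c * bf π u v * bf π u v, ?_, ?_, ?_⟩⟩
      · rw [bf_smul_left, inv_mul_cancel₀ huv]
      · exact mul_ne_zero (mul_ne_zero (mul_ne_zero hc hc) huv) huv
      · rw [eQ, inv_one, Units.val_one, one_mul, mul_one, smul_mul_smul_comm, rk_mul, rk_smul_left, smul_smul,
          smul_smul]
        congr 1
        field_simp
    · obtain ⟨z, hz⟩ := exists_right_eq_one π hu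
      have hz0 : z ≠ 0 := fun e => by rw [e, bf_zero_right] at hz; exact zero_ne_one hz
      obtain ⟨g, hg, hgu⟩ := exists_map hπ hu hz0
      refine ⟨g, hg, Or.inr ⟨hp, u, z, c * c * bf π z u, hz, ?_, ?_⟩⟩
      · exact mul_ne_zero (mul_ne_zero hc hc) (by rw [hπ.skew, hz]; exact neg_ne_zero.mpr one_ne_zero)
      · rw [eQ, mul_smul_comm c (g : Matrix (Fin k) (Fin k) F), smul_mul_assoc c _ ((g⁻¹ : GL (Fin k) F).val), conj_rk π hg, hgu, smul_mul_smul_comm, rk_mul, smul_smul]
  choose g₂ hg₂ hval₂ using h2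
  have hRA := hmul hg₂ hQA
  set R : Fin t → Matrix (Fin k) (Fin k) F := fun i =>
    Q i * ((g₂ i : Matrix (Fin k) (Fin k) F) * Q i * ((g₂ i)⁻¹ : GL (Fin k) F).val) with hR
  -- all matrices on the support
  have hall : ∀ (T : Finset (Fin t)), (∀ l ∈ T, Piece π (P l)) → ∀ Ms : Fin t → Matrix (Fin k) (Fin k) F,
      tens (fun l => if l ∈ T then Ms l else R l) ∈ A := by
    intro T
    induction T using Finset.induction with
    | empty => intro _ Ms; simpa using hRA
    | insert l T hl ih =>
      intro hT Ms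
      obtain ⟨-, u, v, c, huv, hc, e⟩ := (hval₂ l).resolve_left fun h' =>
        Piece.ne_one0 hπ (hT l (Finset.mem_insert_self _ _)) h'.1
      set base : Fin t → Matrix (Fin k) (Fin k) F := fun j => if j ∈ T then Ms j else R j
      let W : Submodule F (Matrix (Fin k) (Fin k) F) :=
        { carrier := {M | tens (Function.update base l M) ∈ A}
          zero_mem' := by
            show tens _ ∈ A
            rw [tens_eq_zero (l := l) (Function.update_self _ _ _)]; exact A.zero_mem
          add_mem' := fun {M M'} hM hM' => by show tens _ ∈ A; rw [tens_update_add]; exact A.add_mem hM hM'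
          smul_mem' := fun a M hM => by show tens _ ∈ A; rw [tens_update_smul]; exact A.smul_mem hM a }
      have hW : rk π u v ∈ W := by
        show tens _ ∈ A
        have h0 := A.smul_mem (ih (fun j hj => hT j (Finset.mem_insert_of_mem hj)) Ms) c⁻¹
        rwa [show (fun j => if j ∈ T then Ms j else R j) = Function.update base l (c • rk π u v) from
          funext fun j => by
            rcases eq_or_ne j l with rfl | hj
            · rw [Function.update_self, if_neg hl]; exact e
            · rw [Function.update_of_ne hj], tens_update_smul, smul_smul, inv_mul_cancel₀ hc, one_smul] at h0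
      have hMs : Ms l ∈ W := all_of_idem hπ (S := W) (fun g hg M hM => by
        show tens _ ∈ A
        have h0 := hA.conj_slotU hπ l hg (Z := tens (Function.update base l M)) hM
        rw [slotU, show (tensGL (Function.update 1 l g) : GL (Fin t → Fin k) F) =
            tensGL (Function.update 1 l g) * factorPerm 1 by rw [factorPerm_one, mul_one], conjHom_wreath_tens] at h0
        have hu : Function.update base l ((g : Matrix (Fin k) (Fin k) F) * M * ((g⁻¹ : GL (Fin k) F) : Matrix (Fin k) (Fin k) F)) =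
            fun j => (Function.update (1 : Fin t → GL (Fin k) F) l g j).val * Function.update base l M j *
              ((Function.update (1 : Fin t → GL (Fin k) F) l g j)⁻¹).val := funext fun j => by
          rcases eq_or_ne j l with rfl | hj
          · simp
          · simp [hj]
        rw [hu]
        simpa [Equiv.Perm.one_symm] using h0) huv hW (Ms l)
      have hMs' : tens (Function.update base l (Ms l)) ∈ A := hMs
      convert hMs' using 2
      funext j
      rcases eq_or_ne j l with rfl | hj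
      · simp
      · simp [base, hj]
  refine ⟨j, fun M => ?_⟩
  have := hall (Finset.univ.filter fun l => Piece π (P l)) (by simp) (Function.update 1 j M)
  convert this using 1
  refine (congrArg tens (funext fun l => ?_)).trans rfl
  rcases eq_or_ne l j with rfl | hl
  · simp [hj]
  · rcases hP l with h | h
    · have hn : ¬ Piece π (P l) := fun hp => Piece.ne_one0 hπ hp h
      simp [hl, hn, R, Q, h]
    · simp [hl, h]

end Cfsg.Agent.WreathP
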