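import Cfsg.Agent.WreathP.Omega
import Cfsg.Agent.WreathP.Pure

/-!
An even tensor power of at least four alternating factors in odd characteristic: an overgroup of the isometric
slot stabiliser outside the stabiliser is everything (helper53, for helper56).
-/

set_option autoImplicit false
set_option linter.unusedSectionVars false
set_option linter.unusedSimpArgs false

namespace Cfsg.Agent.WreathP

open Matrix Cfsg.Agent.MaxSub Cfsg.Agent.MaxSub.Asch Cfsg.Agent.FG75.SpinTensor Cfsg.Agent.WreathMax Cfsg.Agent.WreathS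
open Cfsg.Agent.UnitaryOrthogonal (orth isometryGroupEquiv)

variable {F : Type*} [Field F] [Finite F] {k : ℕ} {π : Sgn F (Fin k)}

theorem slotU_inv' {t : ℕ} (i : Fin t) (A : GL (Fin k) F) : (slotU i A)⁻¹ = slotU i A⁻¹ :=
  inv_eq_of_mul_eq_one_right (by rw [← slotU_mul, mul_inv_cancel, slotU_one'])

/-- In an even power a pure element filling all slots gives one missing a slot. -/
theorem exists_pure_one {t : ℕ} (hπ : π.Alt) (hk : 0 < k) (hev : Even (t + 1)) (ht2 : 2 ≤ t)
    {H : Subgroup (GL (Fin (t + 1) → Fin k) F)} (hH : H ≤ U (powS π (t + 1))) (hM : ContainsS π H)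
    {P : Fin (t + 1) → Matrix (Fin k) (Fin k) F} (h : IsPure π H P) (hall : ∀ j, Piece π (P j)) :
    ∃ P', IsPure π H P' ∧ (∃ j, P' j = 1) ∧ ∃ i j, i ≠ j ∧ Piece π (P' i) ∧ Piece π (P' j) := by
  classical
  letI := Fintype.ofFinite F
  have hcard := eSet_odd hπ hk hH h ⟨0, hall 0⟩
  obtain ⟨s, hs⟩ : ∃ s, ¬ IsE π (P s) := by
    by_contra hc
    push Not at hc
    rw [Finset.eq_univ_of_forall fun j => mem_eSet.mpr (hc j), Finset.card_univ, Fintype.card_fin] at hcard
    exact Nat.not_odd_iff_even.mpr hev hcard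
  obtain ⟨e, he⟩ := Finset.card_pos.mp hcard.pos
  have h' := h.move hM (Equiv.swap 0 s)
  set P₀ := P ∘ (Equiv.swap 0 s).symm with hP₀
  have hall₀ : ∀ j, Piece π (P₀ j) := fun j => hall _
  have h0E : ¬ IsE π (P₀ 0) := by simpa [P₀] using hs
  have heE : IsE π (P₀ (Equiv.swap 0 s e)) := by simpa [P₀] using mem_eSet.mp he
  obtain ⟨l₀, hl₀⟩ := Fin.exists_succ_eq.mpr (show Equiv.swap 0 s e ≠ 0 from fun e0 => h0E (e0 ▸ heE))
  obtain ⟨x, hx, hxP⟩ : IsE π (P₀ l₀.succ) := hl₀ ▸ heE
  clear hl₀ heE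
  obtain ⟨z, hxz⟩ := exists_right_eq_one π hx
  have hzx : bf π z x = -1 := by rw [hπ.skew, hxz]
  -- the conjugators
  choose pg hpg pR pR' pv' pρ hPQ hQP hv hρ hsR hsR' hY using fun j => exists_partner hπ (hall₀ j)
  set g₀ : GL (Fin k) F := st (bf π) (z - x) 1 with hg₀
  have hg₀U : g₀ ∈ U π := st_mem_isom hπ.form _ _
  have hgx : (g₀ : Matrix (Fin k) (Fin k) F) *ᵥ x = z := by
    rw [hg₀, st_mulVec hπ.form, bf_sub_right, hxz, hπ.self, sub_zero, mul_one, one_smul, add_sub_cancel]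
  let gs : Fin (t + 1) → GL (Fin k) F := Function.update pg l₀.succ g₀
  have hgsU : ∀ j, gs j ∈ U π := fun j => by
    rcases eq_or_ne j l₀.succ with rfl | hj
    · simp only [gs, Function.update_self]; exact hg₀U
    · simp only [gs, Function.update_of_ne hj]; exact hpg j
  let R : Fin (t + 1) → Matrix (Fin k) (Fin k) F := Function.update pR l₀.succ (-rk π x z)
  let R' : Fin (t + 1) → Matrix (Fin k) (Fin k) F := Function.update pR' l₀.succ (-rk π z x)
  let Q : Fin (t + 1) → Matrix (Fin k) (Fin k) F := fun j => (gs j).val * P₀ j * ((gs j)⁻¹).val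
  have hR : ∀ j, P₀ j * Q j = R j := fun j => by
    rcases eq_or_ne j l₀.succ with rfl | hj
    · simp only [Q, gs, R, Function.update_self]
      rw [hxP, conj_rk π hg₀U, hgx, rk_mul, hzx, neg_one_smul]
    · simp only [Q, gs, R, Function.update_of_ne hj]
      exact hPQ j
  have hR' : ∀ j, Q j * P₀ j = (-1 : F) • R' j := fun j => by
    rw [neg_one_smul]
    rcases eq_or_ne j l₀.succ with rfl | hj
    · simp only [Q, gs, R', Function.update_self]
      rw [hxP, conj_rk π hg₀U, hgx, rk_mul, hxz, one_smul, neg_neg]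
    · simp only [Q, gs, R', Function.update_of_ne hj]
      exact hQP j
  obtain ⟨-, a, ha, g, hg, eg⟩ := h'
  set w : GL (Fin (t + 1) → Fin k) F := tensGL gs * factorPerm 1 with hw
  have hwH : w ∈ H := mul_mem (ContainsS.le π hM (tensGL_mem_Ws π hgsU)) (hM.2 1)
  have hQ : conjHom w (tens P₀) = tens Q := by
    rw [hw, conjHom_wreath_tens]
    rfl
  have hsum : tens P₀ * tens Q - tens Q * tens P₀ = tens R - tens R' := by
    rw [tens_mul, tens_mul]
    show tens (fun i => P₀ i * Q i) - tens (fun i => Q i * P₀ i) = _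
    rw [funext hR, funext hR', tens_smul, Finset.prod_const, Finset.card_univ, Fintype.card_fin,
      hev.neg_one_pow, one_smul]
  obtain ⟨⟨y, hy, hyR⟩, he', hk1, hk2⟩ := hY 0 h0E
  have h0l : (0 : Fin (t + 1)) ≠ l₀.succ := (Fin.succ_ne_zero _).symm
  have hR0 : R 0 = rk π y y := by simp only [R, Function.update_of_ne h0l, hyR]
  have hR'0 : R' 0 = rk π y y := by simp only [R', Function.update_of_ne h0l, he', hyR]
  set A := tens P₀
  set B := tens Q
  have hAA : A * A = 0 := by rw [tens_mul]; exact tens_eq_zero (l := 0) ((hall₀ 0).sq hπ)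
  have hBB : B * B = 0 := by rw [← hQ, ← map_mul, hAA, map_zero]
  have hABA : A * B * A = 0 := by
    rw [tens_mul, tens_mul]
    refine tens_eq_zero (l := 0) ?_
    show P₀ 0 * Q 0 * P₀ 0 = 0
    rw [hR, show R 0 = pR 0 from Function.update_of_ne h0l _ _, hk1]
  have hBAB : B * A * B = 0 := by
    rw [tens_mul, tens_mul]
    refine tens_eq_zero (l := 0) ?_
    show Q 0 * P₀ 0 * Q 0 = 0
    rw [hR', show R' 0 = pR' 0 from Function.update_of_ne h0l _ _,
      show Q 0 = (pg 0).val * P₀ 0 * ((pg 0)⁻¹).val by simp only [Q, gs, Function.update_of_ne h0l],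
      smul_mul_assoc, hk2, smul_zero]
  have hgi : (g⁻¹).val = 1 - a • A := left_inv_eq_right_inv (Units.inv_mul g) (by
    rw [eg]
    simp only [mul_sub, add_mul, one_mul, mul_one, smul_mul_smul_comm, hAA, smul_zero, add_zero, add_sub_cancel_right])
  have hwg : (w * g * w⁻¹).val = 1 + a • B := by
    rw [Units.val_mul, Units.val_mul, eg, conj_one_add, ← conjHom_apply, map_smul, hQ]
  have hwgi : ((w * g * w⁻¹)⁻¹).val = 1 - a • B := left_inv_eq_right_inv (Units.inv_mul _) (by
    rw [hwg]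
    simp only [mul_sub, add_mul, one_mul, mul_one, smul_mul_smul_comm, hBB, smul_zero, add_zero, add_sub_cancel_right])
  have hcom : (g * (w * g * w⁻¹) * g⁻¹ * (w * g * w⁻¹)⁻¹).val = 1 + (a * a) • (tens R - tens R') := by
    have hconj : (g * (w * g * w⁻¹) * g⁻¹).val = 1 + a • B + (a * a) • (A * B - B * A) := by
      rw [Units.val_mul, Units.val_mul, eg, hwg, hgi]
      simp only [mul_add, add_mul, mul_sub, one_mul, mul_one, smul_mul_assoc, mul_smul_comm, hAA, hABA,
        smul_zero, sub_zero, add_zero]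
      module
    rw [Units.val_mul, hconj, hwgi, ← hsum]
    simp only [mul_add, add_mul, mul_sub, sub_mul, one_mul, mul_one, smul_mul_assoc, mul_smul_comm, hBB, hBAB,
      smul_zero, sub_zero, add_zero, smul_sub, smul_add, smul_smul, mul_assoc A B B, mul_zero]
    module
  have hin : InC π H (tens (fun l => R l.succ) - tens fun l => R' l.succ) := by
    have h1 : InC π H ((a * a) • (tens (fun l => R l.succ) - tens fun l => R' l.succ)) :=
      InC.of_one hπ hM hy ⟨_, mul_mem (mul_mem (mul_mem hg (mul_mem (mul_mem hwH hg) (inv_mem hwH))) (inv_mem hg))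
        (inv_mem (mul_mem (mul_mem hwH hg) (inv_mem hwH))), by
        rw [hcom, tens_eq_kz R, tens_eq_kz R', hR0, hR'0, kz_smul_right, sub_eq_add_neg, sub_eq_add_neg,
          kz_add_right, kz_neg_right]⟩
    have h2 := h1.smul hπ (a * a)⁻¹
    rwa [smul_smul, inv_mul_cancel₀ (mul_ne_zero ha ha), one_smul] at h2
  -- sandwich all slots but one
  let X : Fin t → Matrix (Fin k) (Fin k) F := fun l => pρ l.succ • rk π (pv' l.succ) (pv' l.succ)
  have hfin : ∀ T : Finset (Fin t), l₀ ∉ T → InC π H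
      (tens (fun l => if l ∈ T then X l else R l.succ) - tens (fun l => if l ∈ T then X l else R' l.succ)) := by
    intro T
    induction T using Finset.induction with
    | empty => intro _; simpa using hin
    | insert l T hl ih =>
      intro hnot
      rw [Finset.mem_insert, not_or] at hnot
      have h1 := (ih hnot.2).sandwich hπ hM l (pv' l.succ)
      have hls : l.succ ≠ l₀.succ := fun e => hnot.1 (Fin.succ_injective _ e).symm
      convert h1 using 1
      rw [mul_sub, sub_mul, slot_mul_tens, slot_mul_tens, tens_mul_slot, tens_mul_slot,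
        Function.update_idem, Function.update_idem]
      congr 1 <;> congr 1 <;> funext j <;> rcases eq_or_ne j l with rfl | hjl <;>
        simp [*, X, R, R', Function.update_of_ne, Finset.mem_insert]
  have hlast := hfin (Finset.univ.erase l₀) (Finset.notMem_erase _ _)
  have hupd : ∀ (V : Fin (t + 1) → Matrix (Fin k) (Fin k) F),
      tens (fun l => if l ∈ Finset.univ.erase l₀ then X l else V l.succ) =
        tens (Function.update X l₀ (V l₀.succ)) := fun V => by
    congr 1
    funext l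
    rcases eq_or_ne l l₀ with rfl | hl
    · simp
    · simp [hl]
  rw [hupd R, hupd R', show R l₀.succ = -rk π x z from Function.update_self _ _ _,
    show R' l₀.succ = -rk π z x from Function.update_self _ _ _] at hlast
  -- the slot left over is linear and invariant
  let W : Submodule F (Matrix (Fin k) (Fin k) F) :=
    { carrier := {M | InC π H (tens (Function.update X l₀ M))}
      zero_mem' := by
        show InC π H _
        rw [tens_eq_zero (l := l₀) (by rw [Function.update_self])]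
        exact InC.zero
      add_mem' := fun {M N} (hM' : InC π H _) (hN : InC π H _) => by
        show InC π H _
        rw [tens_update_add]
        exact hM'.add hπ hN
      smul_mem' := fun c M (hM' : InC π H _) => by
        show InC π H _
        rw [WreathS.tens_update_smul]
        exact hM'.smul hπ c }
  have hW0 : rk π x z - rk π z x ∈ W := by
    have h1 : -rk π x z - -rk π z x ∈ W := by
      show InC π H _
      have : tens (Function.update X l₀ (-rk π x z - -rk π z x)) =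
          tens (Function.update X l₀ (-rk π x z)) - tens (Function.update X l₀ (-rk π z x)) := by
        rw [eq_sub_iff_add_eq, ← tens_update_add, sub_add_cancel]
      rw [this]
      exact hlast
    have h2 := W.neg_mem h1
    rwa [show -(-rk π x z - -rk π z x) = rk π x z - rk π z x by abel] at h2
  have hWc : ∀ {G : GL (Fin k) F}, G ∈ U π → ∀ {M}, M ∈ W →
      (G : Matrix (Fin k) (Fin k) F) * M * ((G⁻¹ : GL (Fin k) F) : Matrix (Fin k) (Fin k) F) ∈ W := by
    intro G hG M hMW
    have h1 : InC π H (conjHom (slotU l₀ G) (tens (Function.update X l₀ M))) :=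
      InC.conj hM (slotU_mem_Ws π hG l₀) hMW
    show InC π H _
    rwa [conjHom_apply, slotU_inv', slotU_coe, slotU_coe, slot_mul_tens, tens_mul_slot, Function.update_idem,
      Function.update_idem, Function.update_self, Function.update_self] at h1
  have hpair : ∀ u v, bf π u v = 1 → rk π u v - rk π v u ∈ W := fun u v huv => by
    obtain ⟨G, hG, hGx, hGz⟩ := exists_map_pair (Alt0.of_alt hπ) hxz huv
    have h1 := hWc hG hW0
    rwa [mul_sub, sub_mul, conj_rk π hG, conj_rk π hG, hGx, hGz] at h1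
  have htwo : (2 : F) • (1 : Matrix (Fin k) (Fin k) F) ∈ W := by
    have h1 : ∑ c, (rk π (Pi.single c 1) (dual π c) - rk π (dual π c) (Pi.single c 1)) ∈ W :=
      W.sum_mem fun c _ => hpair _ _ (by rw [bf_single_dual, if_pos rfl])
    let ad : Matrix (Fin k) (Fin k) F →+ Matrix (Fin k) (Fin k) F := AddMonoidHom.mk' (adj π) (adj_add π)
    have h2 : ∑ c, rk π (dual π c) (Pi.single c 1) = -(1 : Matrix (Fin k) (Fin k) F) := by
      have e1 : ad 1 = ∑ c, ad (rk π (Pi.single c 1) (dual π c)) := by rw [← map_sum, ← one_eq_sum_rk]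
      simp only [ad, AddMonoidHom.mk'_apply, adj_one, hπ.adj_rk', Finset.sum_neg_distrib] at e1
      exact (neg_eq_iff_eq_neg.mp e1.symm)
    rwa [Finset.sum_sub_distrib, h2, ← one_eq_sum_rk, sub_neg_eq_add, ← two_smul F] at h1
  have hone : InC π H (tens (Function.update X l₀ 1)) := by
    have h1 := W.smul_mem (2 : F)⁻¹ htwo
    rwa [smul_smul, inv_mul_cancel₀ hπ.two, one_smul] at h1
  -- the pieces
  let N : Fin t → Matrix (Fin k) (Fin k) F := Function.update (fun l => rk π (pv' l.succ) (pv' l.succ)) l₀ 1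
  let c : Fin t → F := Function.update (fun l => pρ l.succ) l₀ 1
  have hNX : tens (Function.update X l₀ 1) = (∏ l, c l) • tens N := by
    rw [← tens_smul]
    congr 1
    funext l
    rcases eq_or_ne l l₀ with rfl | hl
    · simp [N, c]
    · simp [N, c, X, hl]
  have hc0 : ∏ l, c l ≠ 0 := Finset.prod_ne_zero_iff.mpr fun l _ => by
    rcases eq_or_ne l l₀ with rfl | hl
    · simp [c]
    · simp only [c, Function.update_of_ne hl]; exact hρ _
  have hN : InC π H (tens N) := by
    have h1 := hone.smul hπ (∏ l, c l)⁻¹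
    rwa [hNX, smul_smul, inv_mul_cancel₀ hc0, one_smul] at h1
  have hNP : ∀ l, N l = 1 ∨ Piece π (N l) := fun l => by
    rcases eq_or_ne l l₀ with rfl | hl
    · exact Or.inl (by simp [N])
    · exact Or.inr (Or.inl ⟨_, hv l.succ, by simp [N, hl]⟩)
  haveI : Nontrivial (Fin t) := Fin.nontrivial_iff_two_le.mpr ht2
  obtain ⟨l₁, hl₁⟩ := exists_ne l₀
  refine ⟨Fin.cons (rk π y y) N, InC.isPure hy hNP hN, ⟨l₀.succ, by simp [N]⟩, 0, l₁.succ,
    (Fin.succ_ne_zero _).symm, by rw [Fin.cons_zero]; exact Or.inl ⟨y, hy, rfl⟩, ?_⟩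
  rw [Fin.cons_succ]
  exact Or.inl ⟨_, hv l₁.succ, by simp [N, hl₁]⟩

/-- A pure element missing a slot gives all isometries of the other slots. -/
theorem kzU_mem_of_pure {n : ℕ} (hπ : π.Alt) (hk : 2 ≤ k) (hodd : Odd (n + 1))
    (hex : ¬ (Nat.card F = 3 ∧ k = 2)) {H : Subgroup (GL (Fin (n + 1 + 1) → Fin k) F)}
    (hH : H ≤ U (powS π (n + 1 + 1))) (hM : ContainsS π H)
    {P : Fin (n + 1 + 1) → Matrix (Fin k) (Fin k) F} (h : IsPure π H P) {l i j : Fin (n + 1 + 1)} (hl : P l = 1)
    (hij : i ≠ j) (hi : Piece π (P i)) (hj : Piece π (P j)) {B : GL (Fin (n + 1) → Fin k) F}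
    (hB : B ∈ U (powS π (n + 1))) : kzU (1 : GL (Fin k) F) B ∈ H := by
  classical
  haveI : Nonempty (Fin k) := ⟨⟨0, by omega⟩⟩
  have h' := h.move hM (Equiv.swap 0 l)
  set P₀ := P ∘ (Equiv.swap 0 l).symm with hP₀
  have h00 : P₀ 0 = 1 := by simpa [P₀] using hl
  obtain ⟨hP₀', a, ha, g, hg, eg⟩ := h'
  obtain ⟨i', hi'⟩ := Fin.exists_succ_eq.mpr (show Equiv.swap 0 l i ≠ 0 from fun e => hi.ne_one hπ (by
    rw [show i = l from (Equiv.swap 0 l).injective (e.trans (Equiv.swap_apply_right _ _).symm)]; exact hl))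
  obtain ⟨j', hj'⟩ := Fin.exists_succ_eq.mpr (show Equiv.swap 0 l j ≠ 0 from fun e => hj.ne_one hπ (by
    rw [show j = l from (Equiv.swap 0 l).injective (e.trans (Equiv.swap_apply_right _ _).symm)]; exact hl))
  set P' : Fin (n + 1) → Matrix (Fin k) (Fin k) F := fun q => P₀ q.succ
  have hPi : Piece π (P' i') := by simpa [P', P₀, hi'] using hi
  have hPj : Piece π (P' j') := by simpa [P', P₀, hj'] using hj
  have hij' : i' ≠ j' := fun e => hij ((Equiv.swap 0 l).injective (by rw [← hi', ← hj', e]))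
  have hsq : tens P' * tens P' = 0 := by rw [tens_mul]; exact tens_eq_zero (l := i') (hPi.sq hπ)
  let u : GL (Fin (n + 1) → Fin k) F :=
    ⟨1 + a • tens P', 1 - a • tens P',
      by simp only [mul_sub, add_mul, one_mul, mul_one, smul_mul_smul_comm, hsq, smul_zero, add_zero, add_sub_cancel_right],
      by simp only [sub_mul, mul_add, one_mul, mul_one, smul_mul_smul_comm, hsq, smul_zero, add_zero, sub_zero, sub_add_cancel]⟩
  have hgu : g = kzU 1 u := Units.ext (by
    rw [eg, kzU_coe, tens_eq_kz, h00]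
    show _ = kz _ (1 + a • tens P')
    rw [kz_add_right, Units.val_one, kz_one, kz_smul_right])
  have h1 : (1 : Matrix (Fin k) (Fin k) F) ≠ 0 := one_ne_zero
  have huU : u ∈ U (powS π (n + 1)) := by
    have e := (mem_U_iff _).mp (hH (hgu ▸ hg : kzU 1 u ∈ H))
    rw [kzU_coe, Units.val_one, adj_kz, adj_one, kz_mul, one_mul, ← kz_one] at e
    exact (mem_U_iff _).mpr (kz_cancel h1 e)
  have huW : u ∉ Geo.tensorWreathStandard k (n + 1) F := by
    intro hW
    obtain ⟨q, C, hC⟩ := slot_of_sq hk (by omega) hπ.two hW (by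
      show (1 + a • tens P' - 1) * (1 + a • tens P' - 1) = 0
      rw [add_sub_cancel_left, smul_mul_smul_comm, hsq, smul_zero])
    obtain ⟨r, hr, hrP⟩ : ∃ r, r ≠ q ∧ Piece π (P' r) := by
      rcases eq_or_ne i' q with rfl | hiq
      · exact ⟨j', hij'.symm, hPj⟩
      · exact ⟨i', hiq, hPi⟩
    have hX : a • tens P' = slot q (C - 1) := by
      rw [slot_sub', slot_one', ← hC]
      show _ = (1 + a • tens P') - 1
      rw [add_sub_cancel_left]
    have h0 : slot q (C - 1) * slot r (P' r) = 0 := by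
      rw [← hX, smul_mul_assoc, tens_mul_slot, tens_eq_zero (l := r) (by rw [Function.update_self]; exact hrP.sq hπ),
        smul_zero]
    rcases eq_zero_slot_pair (by omega) hr.symm h0 with hz | hz
    · rw [hz, slot_zero', smul_eq_zero] at hX
      exact tens_ne_zero (fun q => by
        rcases hP₀' q.succ with e | e
        · show P₀ q.succ ≠ 0
          rw [e]; exact one_ne_zero
        · exact e.ne_zero hπ) (hX.resolve_left ha)
    · exact hrP.ne_zero hπ hz
  let φ : GL (Fin (n + 1) → Fin k) F →* GL (Fin (n + 1 + 1) → Fin k) F :=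
    MonoidHom.mk' (fun B => kzU 1 B) fun B C => by rw [kzU_mul, one_mul]
  let K : Subgroup (GL (Fin (n + 1) → Fin k) F) := U (powS π (n + 1)) ⊓ H.comap φ
  have hKM : ContainsS π K := containsS_of_le π fun B hB => ⟨Ws_le_U π hB, kzU_mem_H hM (one_mem _) hB⟩
  have hgu' : φ u ∈ H := by
    show kzU 1 u ∈ H
    exact hgu ▸ hg
  exact (isom_le_of_not_le hπ hk hodd hex inf_le_left hKM (fun hle => huW (hle ⟨huU, hgu'⟩)) hB).2

/-- The first slot and all isometries of the others with one more element give everything. -/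
theorem omega_le_of_kzU {n : ℕ} (S : Qf π (n + 1)) (hπ : Alt0 π) (hk : 2 ≤ k) (hn : 1 ≤ n)
    (hkb : k + 2 ≤ k ^ n) (hb : 6 ≤ k ^ n) (hq : 3 ≤ k ∨ 3 ≤ Nat.card F)
    {H : Subgroup (GL (Fin (n + 1) → Fin k) F)} (hH : H ≤ S.omega)
    (hA : ∀ A ∈ U π, kzU A (1 : GL (Fin n → Fin k) F) ∈ H)
    (hB : ∀ B ∈ U (powS π n), kzU (1 : GL (Fin k) F) B ∈ H)
    {g₀ : GL (Fin (n + 1) → Fin k) F} (hg₀ : g₀ ∈ H) (hout : ∀ A B, g₀ ≠ kzU A B) : S.omega ≤ H := by
  classical
  set T₀ := toTS S hπ (by omega) hn with hT₀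
  set T := swapTS T₀ with hT
  set e : (Fin (n + 1) → Fin k) ≃ Fin k × Fin (k ^ n) := (ix k n).trans (Equiv.prodComm _ _) with he
  set φ := Geo.glReindex (F := F) e with hφ
  have h5 : 5 ≤ Module.finrank F (Fin k × Fin (k ^ n) → F) := by
    rw [Module.finrank_fintype_fun_eq_card, Fintype.card_prod, Fintype.card_fin, Fintype.card_fin]
    calc 5 ≤ 2 * 6 := by norm_num
      _ ≤ k * k ^ n := Nat.mul_le_mul hk hb
  have hQT : ⇑T.Q = fun z => S.Q (z ∘ e) := rfl
  have hΩ : S.omega.map φ.toMonoidHom = Geo.omegaGL ⇑T.Q := by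
    rw [show S.omega = _ from omega_eq ⇑S.Q, omega_eq, Subgroup.map_commutator, isometryGroup_reindex, hQT]
  set M := H.map φ.toMonoidHom with hMdef
  have hMΩ : M ≤ Geo.omegaGL ⇑T.Q := hΩ ▸ Subgroup.map_mono hH
  let ff := (finFunctionFinEquiv : (Fin n → Fin k) ≃ Fin (k ^ n))
  have hkr : ∀ (A : GL (Fin k) F) (B : GL (Fin n → Fin k) F),
      φ (kzU A B) = TensorMax.kr A (Geo.glReindex ff B) := by
    intro A B
    refine Units.ext ?_
    ext ⟨i, p⟩ ⟨j, q⟩
    show kz A.val B.val (e.symm (i, p)) (e.symm (j, q)) = A.val i j * B.val (ff.symm p) (ff.symm q)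
    simp [he, ix, ff, kz_apply, Fin.consEquiv]
  have hisom : ∀ g ∈ M, T.IsIsom g := by
    intro g hg
    obtain ⟨g₁, -, rfl⟩ := hMΩ hg
    exact fun z => g₁.2 z 0
  have hleft : ∀ v c, TensorMax.kr (1 : GL (Fin k) F) (T.g₂.gl v c) ∈ M := by
    intro v c
    set G := T.g₂.gl v c with hG
    set B := (Geo.glReindex (F := F) ff).symm G with hBdef
    refine ⟨kzU 1 B, hB B (mem_isom.mpr fun u w => ?_), by
      rw [MulEquiv.coe_toMonoidHom, hkr, hBdef, MulEquiv.apply_symm_apply]⟩
    have hmv : ∀ u : (Fin n → Fin k) → F, (B.val *ᵥ u) = (G.val *ᵥ (u ∘ ff.symm)) ∘ ff := fun u => by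
      show (Matrix.reindex ff.symm ff.symm G.val) *ᵥ u = _
      rw [Matrix.reindex_apply, Matrix.submatrix_mulVec_equiv]
      rfl
    have hf : ∀ u w : Fin (k ^ n) → F, T.g₂.form u w = bf (powS π n) (u ∘ ff) (w ∘ ff) := fun u w => rfl
    rw [hmv, hmv, ← hf, hG, T.g₂.gl_form, hf, Function.comp_assoc, Function.comp_assoc, Equiv.symm_comp_self,
      Function.comp_id, Function.comp_id]
  have hright : ∀ x c, TensorMax.kr (T.g₁.gl x c) (1 : GL (Fin (k ^ n)) F) ∈ M := by
    intro x c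
    refine ⟨kzU (T.g₁.gl x c) 1, hA _ (mem_isom.mpr fun u w => T.g₁.gl_form x c u w), ?_⟩
    rw [MulEquiv.coe_toMonoidHom, hkr, map_one]
  have hgT : φ g₀ ∉ Geo.kroneckerSubgroup k (k ^ n) F := by
    rintro ⟨A, B, hAB⟩
    refine hout A ((Geo.glReindex (F := F) ff).symm B) (φ.injective ?_)
    rw [hkr, MulEquiv.apply_symm_apply]
    exact Units.ext hAB
  have hg₀M : φ g₀ ∈ M := ⟨g₀, hg₀, rfl⟩
  have O : TensorSp.Over T M := ⟨hisom, hleft, hright⟩
  obtain ⟨s, v, w, hs, hsT, hv, hw, hl⟩ := TensorSp.exists_lineTo O (by omega) hkb hg₀M hgT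
  obtain ⟨K, hK, hKw⟩ := T.g₂.exists_move_one hw hv
  obtain ⟨hKM, -⟩ := TensorSp.closure_left_mem O hK
  obtain ⟨r, hrM, Φ, d, hrad, hed, hns⟩ := TensorSp.exists_rad_ns O hk (by omega) hq hv
    (mul_mem hKM hs) (fun h => hsT ((Subgroup.mul_mem_cancel_left _ (TensorMax.kr_mem 1 K)).mp h))
    (fun x => by
      obtain ⟨y, hy⟩ := hl x
      exact ⟨y, by rw [Units.val_mul, ← mulVec_mulVec, hy, TensorMax.kr_emb, hKw, Units.val_one, one_mulVec]⟩)
  obtain ⟨α, hα, hαns⟩ := TensorSp.exists_G_ns O hb hv hrM hrad hed hns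
  let M' : Subgroup (orth T.Q) := (M.comap (isometryGroup F ⇑T.Q).subtype).map
    (isometryGroupEquiv T.Q (f := ⇑T.Q) (fun _ => rfl)).toMonoidHom
  have hM' : ∀ g ∈ M, ∃ g' ∈ M', ∀ z, g'.1 z = g.val *ᵥ z := fun g hg => by
    obtain ⟨g₁, -, rfl⟩ := hMΩ hg
    exact ⟨OrthStab.toOrth g₁, ⟨g₁, hg, rfl⟩, fun z => rfl⟩
  have hgen := TensorSp.eichGroup_le_of_rankOne (S := T) (by omega) h5 hM'
    (TensorSp.G_rankOne O hb hq hα hαns) (by omega)
  have hle : Geo.omegaGL ⇑T.Q ≤ M := by
    rintro _ ⟨g₁, hg₁, rfl⟩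
    obtain ⟨g₂, hg₂, hgg⟩ := hgen ((OrthStab.mem_omega_iff T.nd h5 g₁).mp hg₁)
    exact ((isometryGroupEquiv T.Q (f := ⇑T.Q) (fun _ => rfl)).injective hgg) ▸ hg₂
  rw [← hΩ] at hle
  exact (Subgroup.map_le_map_iff_of_injective (f := φ.toMonoidHom) φ.injective).mp hle

/-- A slot permutation moving the first slot is not a product on the first slot and the others. -/
theorem swap_ne_kzU {n : ℕ} (hπ : π.Alt) (hk : 2 ≤ k) (A : GL (Fin k) F) (B : GL (Fin (n + 1) → Fin k) F) :
    (factorPerm (Equiv.swap 0 (Fin.succ 0)) : GL (Fin (n + 1 + 1) → Fin k) F) ≠ kzU A B := by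
  intro e
  let oo : Fin k := ⟨0, by omega⟩
  have ho : (Pi.single oo 1 : Fin k → F) ≠ 0 := fun e => by simpa using congrFun e oo
  set M := rk π (Pi.single oo 1 : Fin k → F) (Pi.single oo 1)
  have h1 : conjHom (kzU A B) (slot (0 : Fin (n + 1 + 1)) M) = slot 0 (A.val * M * (A⁻¹).val) := by
    rw [slot_zero_eq_kz, slot_zero_eq_kz, conjHom_apply]
    show kz _ _ * kz _ _ * kz _ _ = _
    rw [kz_mul, kz_mul, mul_one, Units.mul_inv]
  rw [← e, show (factorPerm (Equiv.swap 0 (Fin.succ 0)) : GL (Fin (n + 1 + 1) → Fin k) F) =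
      tensGL 1 * factorPerm (Equiv.swap 0 (Fin.succ 0)) by rw [tensGL_one, one_mul],
    slot_conj_wreath, Equiv.swap_apply_left] at h1
  simp only [Pi.one_apply, inv_one, Units.val_one, one_mul, mul_one] at h1
  have h2 : slot (0 : Fin (n + 1 + 1)) (A.val * M * (A⁻¹).val) * slot (Fin.succ 0) M = 0 := by
    rw [← h1, ← slot_mul', hπ.rk_sq, slot_zero']
  rcases eq_zero_slot_pair (by omega) (Fin.succ_ne_zero 0).symm h2 with hz | hz
  · rw [hz, slot_zero'] at h1
    exact rk_self_ne_zero π ho (slot_injective (by omega) _ (h1.trans (slot_zero' _).symm))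
  · exact rk_self_ne_zero π ho hz

/-- In odd characteristic an overgroup of the isometric slot stabiliser of an even power outside the stabiliser
is everything. -/
theorem omega_le_small {t : ℕ} (S : Qf π t) (hπ : π.Alt) (hk : 2 ≤ k) (hte : Even t) (ht : 4 ≤ t)
    (hex : ¬ (Nat.card F = 3 ∧ k = 2)) {H : Subgroup (GL (Fin t → Fin k) F)} (hH : H ≤ S.omega)
    (hM : Wiso π t ≤ H) (hne : ¬ H ≤ Geo.tensorWreathStandard k t F) : S.omega ≤ H := by
  classical
  obtain ⟨n, rfl⟩ : ∃ n, t = n + 1 + 1 := ⟨t - 2, by omega⟩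
  have hk0 : 0 < k := by omega
  have hodd : Odd (n + 1) := by
    rcases hte with ⟨r, hr⟩
    exact ⟨r - 1, by omega⟩
  have hHU : H ≤ U (powS π (n + 1 + 1)) := hH.trans S.omega_le_U
  have hC : ContainsS π H :=
    ⟨fun i A hA => hM (slotU_mem_Wiso hA i), fun σ => hM (factorPerm_mem_Wiso π σ)⟩
  obtain ⟨Z, hZ, hZs⟩ := exists_inC_of_not_le hπ hk hex (n + 1) H hHU hC hne
  obtain ⟨P, hP, ⟨l, hl⟩, hPin⟩ := InC.exists_pure hπ hC hZ hZs
  let x : Fin k → F := Pi.single ⟨0, hk0⟩ 1
  have hx : x ≠ 0 := fun e => by simpa [x] using congrFun e ⟨0, hk0⟩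
  have hpure := InC.isPure (H := H) hx hP hPin
  obtain ⟨P', hp', ⟨q, hq⟩, i, j, hij, hi, hj⟩ : ∃ P', IsPure π H P' ∧ (∃ q, P' q = 1) ∧
      ∃ i j, i ≠ j ∧ Piece π (P' i) ∧ Piece π (P' j) := by
    by_cases hall : ∀ q, Piece π ((Fin.cons (rk π x x) P : Fin (n + 1 + 1) → Matrix (Fin k) (Fin k) F) q)
    · exact exists_pure_one hπ hk0 hte (by omega) hHU hC hpure hall
    push Not at hall
    obtain ⟨q, hq⟩ := hall
    refine ⟨_, hpure, ⟨q, (hpure.1 q).resolve_right hq⟩, 0, l.succ, (Fin.succ_ne_zero _).symm, ?_, ?_⟩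
    · rw [Fin.cons_zero]; exact Or.inl ⟨x, hx, rfl⟩
    · rw [Fin.cons_succ]; exact hl
  have hkt : 2 ^ 3 ≤ k ^ (n + 1) := (Nat.pow_le_pow_left hk 3).trans (Nat.pow_le_pow_right hk0 (by omega))
  have hkb : k + 2 ≤ k ^ (n + 1) := by
    refine le_trans ?_ (Nat.pow_le_pow_right hk0 (show 2 ≤ n + 1 by omega))
    nlinarith
  have hq3 : 3 ≤ Nat.card F := by
    letI := Fintype.ofFinite F
    rw [Nat.card_eq_fintype_card]
    by_contra hc
    have h2 : Fintype.card F = 2 := by have := Fintype.one_lt_card (α := F); omega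
    exact hπ.two (by exact_mod_cast (h2 ▸ Nat.cast_card_eq_zero F : ((2 : ℕ) : F) = 0))
  exact omega_le_of_kzU S (Alt0.of_alt hπ) hk (by omega) hkb (by omega) (Or.inr hq3) hH
    (fun A hA => kzU_mem_H hC hA (one_mem _))
    (fun B hB => kzU_mem_of_pure hπ hk hodd hex hHU hC hp' hq hij hi hj hB)
    (hC.2 (Equiv.swap 0 (Fin.succ 0))) (swap_ne_kzU hπ hk)

end Cfsg.Agent.WreathP
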