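import Cfsg.Agent.WreathS.Span
import Cfsg.Agent.WreathS.Blk

/-!
Alternating forms with no fixed index, in any characteristic, and the root class of a slot (helper56).
-/

set_option autoImplicit false
set_option linter.unusedSectionVars false

namespace Cfsg.Agent.WreathP

open Matrix Cfsg.Agent.MaxSub Cfsg.Agent.MaxSub.Asch Cfsg.Agent.FG75.SpinTensor Cfsg.Agent.WreathMax Cfsg.Agent.WreathS

variable {F : Type*} [Field F]

/-- The form is alternating: skew and without a fixed index. -/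
structure Alt0 {ι : Type} (π : Sgn F ι) : Prop where
  tau : π.τ = -1
  fix : ∀ a, π.J a ≠ a

section Form

variable {ι : Type} [Fintype ι] [DecidableEq ι] {π : Sgn F ι}

theorem Alt0.of_alt (h : π.Alt) : Alt0 π :=
  ⟨h.tau, fun a e => by
    have h' := π.ε_J a
    rw [e, h.tau, neg_one_mul] at h'
    have h2 : (2 : F) * π.ε a = 0 := by linear_combination h'
    exact one_ne_zero (α := F) (by rw [← π.ε_sq a, (mul_eq_zero.mp h2).resolve_left h.two, mul_zero])⟩

variable (hπ : Alt0 π)
include hπ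

theorem Alt0.self (v : ι → F) : bf π v v = 0 :=
  Finset.sum_involution (fun a _ => π.J a) (fun a _ => by
      simp only [cv, π.inv, π.ε_J, hπ.tau]
      ring)
    (fun a _ _ => hπ.fix a) (fun a _ => Finset.mem_univ _) (fun a _ => π.inv a)

theorem Alt0.skew (v w : ι → F) : bf π v w = -bf π w v := by
  rw [bf_flip π w v, hπ.tau, neg_one_mul]

theorem Alt0.form : Geo.IsSymplecticForm (bf π) where
  bilinear := bf_bilinear π
  skew := hπ.skew
  alternating := hπ.self
  nondegenerate v hv := by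
    obtain ⟨x, hx⟩ := exists_left_ne π hv
    exact ⟨⟨x, hx⟩, ⟨x, fun h => hx (bf_eq_zero_comm π h)⟩⟩

theorem Alt0.adj_rk' (x y : ι → F) : adj π (rk π x y) = -rk π y x := by
  rw [adj_rk, hπ.tau, neg_one_smul]

theorem Alt0.rk_sq (x : ι → F) : rk π x x * rk π x x = 0 := by rw [rk_mul, hπ.self, zero_smul]

theorem st_coe (v : ι → F) (c : F) : (st (bf π) v c : Matrix ι ι F) = 1 + c • rk π v v := by
  refine Matrix.ext_of_mulVec_single fun a => ?_
  rw [st_mulVec hπ.form, add_mulVec, one_mulVec, smul_mulVec, rk_mulVec, smul_smul]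

/-- Isometries are transitive on non-zero vectors. -/
theorem exists_map {x y : ι → F} (hx : x ≠ 0) (hy : y ≠ 0) :
    ∃ g ∈ U π, (g : Matrix ι ι F) *ᵥ x = y := by
  obtain ⟨g, hg, -, hgx⟩ := exists_mem_mulVec_eq hπ.form (M := U π) (fun v c => st_mem_isom hπ.form v c) hx hy
  exact ⟨g, hg, hgx⟩

/-- A vector dual to one of two independent vectors. -/
theorem exists_dual {a b : ι → F} (ha : a ≠ 0) (hind : ∀ c : F, b ≠ c • a) :
    ∃ w, bf π b w = 1 ∧ bf π a w = 0 := by
  obtain ⟨z, hz⟩ := exists_right_eq_one π ha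
  have hne : b - bf π b z • a ≠ 0 := fun h => hind _ (sub_eq_zero.mp h)
  obtain ⟨u, hu⟩ := exists_right_eq_one π hne
  refine ⟨u - bf π a u • z, ?_, ?_⟩
  · rw [bf_sub_left, bf_smul_left] at hu
    rw [bf_sub_right, bf_smul_right]
    linear_combination hu
  · rw [bf_sub_right, bf_smul_right, hz, mul_one, sub_self]

end Form

variable {k t : ℕ} {π : Sgn F (Fin k)}

theorem sRoot_coe (hπ : Alt0 π) (i : Fin t) (x : Fin k → F) (c : F) :
    (sRoot π i x c).val = 1 + c • slot i (rk π x x) := by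
  rw [sRoot, slotU_coe, st_coe hπ, slot_one_add, slot_smul']

theorem sRoot_mem_U (hπ : Alt0 π) (i : Fin t) (x : Fin k → F) (c : F) : sRoot π i x c ∈ U (powS π t) :=
  slotU_mem_U π (st_mem_isom hπ.form x c) i

theorem sRoot_mul (hπ : Alt0 π) (i : Fin t) (x : Fin k → F) (c d : F) :
    sRoot π i x c * sRoot π i x d = sRoot π i x (c + d) := Units.ext (by
  rw [Units.val_mul, sRoot_coe hπ, sRoot_coe hπ, sRoot_coe hπ]
  simp only [mul_add, add_mul, one_mul, mul_one, Matrix.smul_mul, Matrix.mul_smul, ← slot_mul', hπ.rk_sq,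
    slot_zero', smul_zero, add_zero, add_smul, add_assoc])

theorem sRoot_zero (hπ : Alt0 π) (i : Fin t) (x : Fin k → F) : sRoot π i x 0 = 1 :=
  Units.ext (by rw [sRoot_coe hπ, zero_smul, add_zero, Units.val_one])

theorem sRoot_inv (hπ : Alt0 π) (i : Fin t) (x : Fin k → F) (c : F) :
    (sRoot π i x c)⁻¹ = sRoot π i x (-c) :=
  inv_eq_of_mul_eq_one_right (by rw [sRoot_mul hπ, add_neg_cancel, sRoot_zero hπ])

theorem conjHom_sRoot (hπ : Alt0 π) (i : Fin t) (x : Fin k → F) (c : F)
    (X : Matrix (Fin t → Fin k) (Fin t → Fin k) F) :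
    conjHom (sRoot π i x c) X = X + c • (slot i (rk π x x) * X - X * slot i (rk π x x)) -
      (c * c) • (slot i (rk π x x) * X * slot i (rk π x x)) := by
  rw [conjHom_apply, sRoot_inv hπ, sRoot_coe hπ, sRoot_coe hπ]
  simp only [add_mul, mul_add, one_mul, mul_one, Matrix.smul_mul, Matrix.mul_smul, neg_smul, mul_neg, smul_sub,
    smul_neg, smul_smul]
  abel

/-- The slot transvections lie in `H`. -/
def HasRoots (π : Sgn F (Fin k)) (H : Subgroup (GL (Fin t → Fin k) F)) : Prop :=
  ∀ i x (c : F), sRoot π i x c ∈ H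

/-- A slot root inside the isometry group. -/
theorem exists_sRoot (hπ : Alt0 π) (hk : 0 < k) {g : GL (Fin t → Fin k) F} (hg : g ∈ U (powS π t)) {i : Fin t}
    {B : Matrix (Fin k) (Fin k) F} (hB : IsRootNil B) (e : g.val = 1 + slot i B) :
    ∃ y c, y ≠ 0 ∧ c ≠ 0 ∧ g = sRoot π i y c := by
  have h1 := (mem_U_iff _).mp hg
  rw [e, adj_add, adj_one, adj_slot] at h1
  simp only [add_mul, mul_add, one_mul, mul_one, ← slot_mul', add_assoc, add_eq_left] at h1
  rw [← slot_add', ← slot_add', ← slot_zero' (F := F) i] at h1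
  have h2 := slot_injective hk i h1
  have h3 : adj π B * B = 0 := by
    have h4 := congrArg (fun X => X * B) h2
    simp only [add_mul, zero_mul, mul_assoc, hB.2, mul_zero, add_zero] at h4
    exact h4
  rw [h3, add_zero] at h2
  obtain ⟨x, y', hx, hy', hxy, rfl⟩ := hB.exists_vecMulVec
  let y : Fin k → F := fun a => π.ε (π.J a) * y' (π.J a)
  have hy : cv π y = y' := funext fun b => by
    simp only [cv, y, π.inv]
    rw [← mul_assoc, π.ε_sq, one_mul]
  have hrk : vecMulVec x y' = rk π x y := by rw [rk, hy]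
  rw [hrk] at h2 e
  rw [hπ.adj_rk', add_comm] at h2
  have hsym : rk π y x = rk π x y := eq_of_sub_eq_zero (by rw [← h2]; abel) |>.symm
  obtain ⟨z, hz⟩ := exists_left_ne π hx
  have h5 := congrArg (fun X => X *ᵥ z) hsym
  simp only [rk_mulVec] at h5
  have hyx : y = (bf π z y / bf π z x) • x := by
    rw [div_eq_inv_mul, ← smul_smul, ← h5, inv_smul_smul₀ hz]
  set d := bf π z y / bf π z x
  refine ⟨x, d, hx, fun h0 => hy' ?_, Units.ext ?_⟩
  · rw [← hy, hyx, h0, zero_smul, cv_zero]
  · rw [sRoot_coe hπ, e, hyx, rk_smul_right, slot_smul']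

/-- The displacement of a slot root has the rank of a root. -/
theorem rank_sRoot (hπ : Alt0 π) (hk : 0 < k) (i : Fin t) (x : Fin k → F) (c : F) :
    ((sRoot π i x c).val - 1).rank ≤ k ^ (t - 1) := by
  rw [sRoot_coe hπ, add_sub_cancel_left, ← slot_smul', rank_slot, rk, ← smul_vecMulVec]
  exact (Nat.mul_le_mul_left _ (rank_vecMulVec_le _ _)).trans_eq (mul_one _)

/-- An element of the stabiliser conjugate to a slot root is a slot root. -/
theorem root_image [Finite F] (hπ : Alt0 π) (hk : 4 ≤ k) (ht : 1 ≤ t) {g : GL (Fin t → Fin k) F}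
    {i : Fin t} {x : Fin k → F} {c : F} (hx : x ≠ 0) (hc : c ≠ 0)
    (hgW : g * sRoot π i x c * g⁻¹ ∈ Geo.tensorWreathStandard k t F)
    (hgU : g * sRoot π i x c * g⁻¹ ∈ U (powS π t)) :
    ∃ j y d, y ≠ 0 ∧ d ≠ 0 ∧ g * sRoot π i x c * g⁻¹ = sRoot π j y d := by
  set w := g * sRoot π i x c * g⁻¹ with hw
  have hN : w.val - 1 = g.val * (c • slot i (rk π x x)) * (g⁻¹).val := by
    rw [hw, Units.val_mul, Units.val_mul, sRoot_coe hπ, mul_add, mul_one, add_mul, Units.mul_inv,
      add_sub_cancel_left]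
  have h2 : (w.val - 1) * (w.val - 1) = 0 := by
    rw [hN]
    simp only [mul_assoc, Units.inv_mul_cancel_left]
    rw [← mul_assoc (c • slot i (rk π x x)), smul_mul_smul_comm, ← slot_mul', hπ.rk_sq, slot_zero', smul_zero,
      zero_mul, mul_zero]
  have hr : (w.val - 1).rank ≤ k ^ (t - 1) := by
    have h1 := ClMax99.TensorRank.rank_conj g (c • slot i (rk π x x)) 0
    rw [zero_smul, sub_zero, sub_zero, ← hN] at h1
    rw [h1]
    have := rank_sRoot hπ (by omega) i x c
    rwa [sRoot_coe hπ, add_sub_cancel_left] at this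
  rcases root_class (by omega) ht hgW h2 hr with h | ⟨j, A, hA, h⟩ | ⟨-, h3, -⟩
  · have e : sRoot π i x c = 1 := by
      rw [show sRoot π i x c = g⁻¹ * w * g by rw [hw]; group, h, mul_one, inv_mul_cancel]
    have h0 := congrArg Units.val e
    rw [sRoot_coe hπ, Units.val_one, add_eq_left, ← slot_smul'] at h0
    exact absurd (slot_injective (by omega) i (h0.trans (slot_zero' i).symm))
      (smul_ne_zero hc (rk_self_ne_zero π hx))
  · obtain ⟨y, d, hy, hd, e⟩ := exists_sRoot hπ (by omega) hgU hA h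
    exact ⟨j, y, d, hy, hd, e⟩
  · omega

end Cfsg.Agent.WreathP
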