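import Cfsg.Agent.WreathP.Step
import Cfsg.Agent.WreathP.Pure

/-!
The blocks of the radical shapes in an overgroup form an invariant algebra, which is everything (helper56).
-/

set_option autoImplicit false
set_option linter.unusedSectionVars false

namespace Cfsg.Agent.WreathP

open Matrix Cfsg.Agent.MaxSub Cfsg.Agent.MaxSub.Asch Cfsg.Agent.FG75.SpinTensor Cfsg.Agent.WreathMax Cfsg.Agent.WreathS

variable {F : Type*} [Field F] [Finite F] {k t : ℕ} {π : Sgn F (Fin k)}
  {H : Subgroup (GL (Fin (t + 1) → Fin k) F)}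

/-- The even permutations of the slots lie in `H`. -/
def HasEven (H : Subgroup (GL (Fin t → Fin k) F)) : Prop :=
  ∀ σ : Equiv.Perm (Fin t), Equiv.Perm.sign σ = 1 → factorPerm σ ∈ H

theorem HasEven.cj {H : Subgroup (GL (Fin t → Fin k) F)} (hE : HasEven H) (τ : Equiv.Perm (Fin t)) :
    HasEven (cj τ H) := fun σ hσ => by
  rw [mem_cj, factorPerm_inv, factorPerm_mul, factorPerm_mul]
  refine hE _ ?_
  rw [map_mul, map_mul, hσ, mul_one, map_inv, inv_mul_cancel]

theorem cj_of_even {H : Subgroup (GL (Fin t → Fin k) F)} (hE : HasEven H) {σ : Equiv.Perm (Fin t)}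
    (hσ : Equiv.Perm.sign σ = 1) : cj σ H = H := by
  ext g
  rw [mem_cj]
  refine ⟨fun h => ?_, fun h => mul_mem (mul_mem (inv_mem (hE σ hσ)) h) (hE σ hσ)⟩
  have h1 := mul_mem (mul_mem (hE σ hσ) h) (inv_mem (hE σ hσ))
  rwa [mul_assoc (factorPerm σ)⁻¹, mul_inv_cancel_left, mul_inv_cancel_right] at h1

/-- Every radical shape with block `X` lies in `H`. -/
def Blk (π : Sgn F (Fin k)) (H : Subgroup (GL (Fin (t + 1) → Fin k) F))
    (X : Matrix (Fin t → Fin k) (Fin t → Fin k) F) : Prop :=
  ∀ e d : Fin k → F, e ≠ 0 → bf π e d = 0 → (∀ c : F, d ≠ c • e) → InR π H e d X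

theorem InR.add (hπ : Alt0 π) {e d : Fin k → F} (hed : bf π e d = 0)
    {X Y : Matrix (Fin t → Fin k) (Fin t → Fin k) F} (hX : InR π H e d X) (hY : InR π H e d Y) :
    InR π H e d (X + Y) := by
  obtain ⟨g, hg, eg⟩ := hX
  obtain ⟨h, hh, eh⟩ := hY
  refine ⟨g * h, mul_mem hg hh, ?_⟩
  rw [Units.val_mul, eg, eh, yel_add, add_mul, one_mul, mul_add, mul_one, yel_sq hπ hed]
  abel

/-- The radical shapes move with the isometries of the first slot. -/
theorem InR.map (hπ : Alt0 π) (hM : HasRoots π H) {e d : Fin k → F}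
    {X : Matrix (Fin t → Fin k) (Fin t → Fin k) F} (h : InR π H e d X) {g : GL (Fin k) F} (hg : g ∈ U π) :
    InR π H ((g : Matrix (Fin k) (Fin k) F) *ᵥ e) ((g : Matrix (Fin k) (Fin k) F) *ᵥ d) X := by
  obtain ⟨u, hu, eu⟩ := h
  refine ⟨kzU g 1 * u * (kzU g 1)⁻¹, mul_mem (mul_mem (kzU_one_mem hπ hM hg) hu)
    (inv_mem (kzU_one_mem hπ hM hg)), ?_⟩
  rw [Units.val_mul, Units.val_mul, eu, conj_one_add, yel, mul_add, add_mul, ← conjHom_apply, ← conjHom_apply]
  congr 1
  rw [yel, conjHom_apply, conjHom_apply]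
  congr 1
  · rw [kzU_coe, show (kzU g (1 : GL (Fin t → Fin k) F))⁻¹ = kzU g⁻¹ 1 from inv_eq_of_mul_eq_one_right (by
      rw [kzU_mul, mul_inv_cancel, one_mul]; exact Units.ext (by rw [kzU_coe, Units.val_one, Units.val_one, kz_one, Units.val_one])),
      kzU_coe, kz_mul, kz_mul, conj_rk π hg, Units.val_one, one_mul, mul_one]
  · rw [kzU_coe, show (kzU g (1 : GL (Fin t → Fin k) F))⁻¹ = kzU g⁻¹ 1 from inv_eq_of_mul_eq_one_right (by
      rw [kzU_mul, mul_inv_cancel, one_mul]; exact Units.ext (by rw [kzU_coe, Units.val_one, Units.val_one, kz_one, Units.val_one])),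
      kzU_coe, kz_mul, kz_mul, conj_rk π hg, Units.val_one, one_mul, mul_one]

/-- One radical shape gives all with the same block. -/
theorem blk_of_pair (hπ : Alt0 π) (hM : HasRoots π H) {e d : Fin k → F} (he : e ≠ 0) (hed : bf π e d = 0)
    (hind : ∀ c : F, d ≠ c • e) {X : Matrix (Fin t → Fin k) (Fin t → Fin k) F} (h : InR π H e d X) :
    Blk π H X := by
  intro e' d' he' hed' hind'
  obtain ⟨g, hg, hge⟩ := exists_map hπ he he'
  have h1 : InR π H e' ((g : Matrix (Fin k) (Fin k) F) *ᵥ d) X := hge ▸ h.map hπ hM hg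
  have h0 : bf π e' ((g : Matrix (Fin k) (Fin k) F) *ᵥ d) = bf π e' d' := by
    rw [← hge, mem_isom.mp hg, hed, hge, hed']
  have hind1 : ∀ c : F, (g : Matrix (Fin k) (Fin k) F) *ᵥ d ≠ c • e' := fun c hc => hind c (by
    have h2 := congrArg (fun v => ((g⁻¹ : GL (Fin k) F) : Matrix (Fin k) (Fin k) F) *ᵥ v) hc
    simpa [← hge, mulVec_mulVec, mulVec_smul] using h2)
  obtain ⟨g', hg', hg'e, hg'd⟩ := exists_move hπ h0 hind1 hind'
  have h2 := h1.map hπ hM hg'
  rwa [hg'e, hg'd] at h2

theorem blk_zero : Blk π H (0 : Matrix (Fin t → Fin k) (Fin t → Fin k) F) := fun e d _ _ _ =>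
  ⟨1, H.one_mem, by simp [yel, kz_zero_right, adj_zero]⟩

theorem blk_one (hπ : Alt0 π) (hM : HasRoots π H) : Blk π H (1 : Matrix (Fin t → Fin k) (Fin t → Fin k) F) :=
  fun _ _ _ hed _ => exists_yel_one hπ hM hed

theorem blk_add (hπ : Alt0 π) {X Y : Matrix (Fin t → Fin k) (Fin t → Fin k) F} (hX : Blk π H X) (hY : Blk π H Y) :
    Blk π H (X + Y) := fun e d he hed hind => (hX e d he hed hind).add hπ hed (hY e d he hed hind)

theorem blk_smul {X : Matrix (Fin t → Fin k) (Fin t → Fin k) F} (hX : Blk π H X) (c : F) :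
    Blk π H (c • X) := by
  intro e d he hed hind
  rcases eq_or_ne c 0 with rfl | hc
  · rw [zero_smul]; exact blk_zero e d he hed hind
  · obtain ⟨g, hg, eg⟩ := hX (c • e) d (smul_ne_zero hc he) (by rw [bf_smul_left, hed, mul_zero])
      (fun r hr => hind (r * c) (by rw [hr, smul_smul]))
    refine ⟨g, hg, ?_⟩
    rw [eg]
    congr 1
    simp only [yel, rk_smul_left, rk_smul_right, kz_smul_left, kz_smul_right, adj_smul]

theorem blk_conj_root (hπ : Alt0 π) (hM : HasRoots π H) {X : Matrix (Fin t → Fin k) (Fin t → Fin k) F}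
    (hX : Blk π H X) (i : Fin t) (x : Fin k → F) (c : F) : Blk π H (conjHom (sRoot π i x c) X) := by
  intro e d he hed hind
  obtain ⟨g, hg, eg⟩ := hX e d he hed hind
  let w := sRoot π i x c
  have hwH : kzU 1 w ∈ H := by
    rw [show kzU (1 : GL (Fin k) F) w = sRoot π i.succ x c from Units.ext (by
      simp only [w, sRoot, kzU_coe, slotU_coe, slot_succ_eq_kz, Units.val_one])]
    exact hM _ _ _
  have hwi : (kzU (1 : GL (Fin k) F) w)⁻¹ = kzU 1 w⁻¹ := inv_eq_of_mul_eq_one_right (by
    rw [kzU_mul, one_mul, mul_inv_cancel]; exact Units.ext (by rw [kzU_coe, Units.val_one, Units.val_one, kz_one, Units.val_one]))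
  refine ⟨kzU 1 w * g * (kzU 1 w)⁻¹, mul_mem (mul_mem hwH hg) (inv_mem hwH), ?_⟩
  have hwU := sRoot_mem_U hπ i x c
  rw [Units.val_mul, Units.val_mul, eg, conj_one_add]
  congr 1
  simp only [w] at hwi ⊢
  simp only [yel, mul_add, add_mul, hwi, kzU_coe, kz_mul, Units.val_one, one_mul, mul_one, conjHom_apply, adj_mul,
    inv_eq_adj _ hwU, adj_adj, mul_assoc]

/-- Commutators multiply the blocks. -/
theorem blk_mul (hπ : Alt0 π) (hk : 5 ≤ k) (hM : HasRoots π H) {X Y : Matrix (Fin t → Fin k) (Fin t → Fin k) F}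
    (hX : Blk π H X) (hY : Blk π H Y) : Blk π H (X * Y) := by
  obtain ⟨q, hq⟩ : ∃ q : Fin k → F, q ≠ 0 := ⟨Pi.single ⟨0, by omega⟩ 1, fun e => by
    simpa using congrFun e ⟨0, by omega⟩⟩
  obtain ⟨u₀, hqu₀⟩ := exists_right_eq_one π hq
  set u := -u₀
  have hqu : bf π q u = -1 := by rw [show u = -u₀ from rfl, bf_neg_right, hqu₀]
  let L : (Fin k → F) →ₗ[F] F × F :=
    { toFun := fun x => (bf π q x, bf π u x)
      map_add' := fun a b => by simp [bf_add_right]
      map_smul' := fun r a => by simp [bf_smul_right] }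
  have hker : ∀ (p : Fin k → F) (L' : (Fin k → F) →ₗ[F] F × F × F), ∃ v, L' v = 0 ∧ ∀ c : F, v ≠ c • p := by
    intro p L'
    by_contra hcon
    push Not at hcon
    have hle : LinearMap.ker L' ≤ Submodule.span F {p} := fun x hx => by
      obtain ⟨c, rfl⟩ := hcon x hx
      exact Submodule.smul_mem _ _ (Submodule.mem_span_singleton_self p)
    have h1 := (Submodule.finrank_mono hle).trans (finrank_span_le_card {p})
    rw [Set.toFinset_singleton, Finset.card_singleton] at h1
    have h2 := L'.finrank_range_add_finrank_ker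
    have h3 : Module.finrank F (LinearMap.range L') ≤ 3 :=
      (Submodule.finrank_le _).trans (by rw [Module.finrank_prod, Module.finrank_prod, Module.finrank_self])
    rw [Module.finrank_fin_fun] at h2
    omega
  let L' : (Fin k → F) → ((Fin k → F) →ₗ[F] F × F × F) := fun p =>
    { toFun := fun x => (bf π q x, bf π u x, bf π p x)
      map_add' := fun a b => by simp [bf_add_right]
      map_smul' := fun r a => by simp [bf_smul_right] }
  obtain ⟨p, hp0, hp⟩ := hker 0 (L' 0)
  obtain ⟨v, hv0, hv⟩ := hker p (L' p)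
  simp only [L', LinearMap.coe_mk, AddHom.coe_mk, Prod.mk_eq_zero] at hp0 hv0
  obtain ⟨hqp, hup, -⟩ := hp0
  obtain ⟨hqv, huv, hpv⟩ := hv0
  have hp' : p ≠ 0 := fun e => hp 0 (by rw [e, zero_smul])
  have hpq : bf π p q = 0 := bf_eq_zero_comm π hqp
  have hpu : bf π p u = 0 := bf_eq_zero_comm π hup
  have hvq : bf π v q = 0 := bf_eq_zero_comm π hqv
  have hvu : bf π v u = 0 := bf_eq_zero_comm π huv
  have hvp : bf π v p = 0 := bf_eq_zero_comm π hpv
  have huq : bf π u q = 1 := by rw [hπ.skew, hqu, neg_neg]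
  refine blk_of_pair hπ hM hp' hpv hv ?_
  obtain ⟨g, hg, eg⟩ := hX p q hp' hpq fun c e => by
    rw [e, bf_smul_left, hpu, mul_zero] at hqu
    exact zero_ne_one (neg_eq_zero.mp hqu.symm).symm
  obtain ⟨h, hh, eh⟩ := hY u v (fun e => by rw [e, bf_zero_left] at huq; exact zero_ne_one huq) huv fun c e => by
    have h1 := hvq
    rw [e, bf_smul_left, huq, mul_one] at h1
    rw [h1, zero_smul] at e
    exact hv 0 (by rw [e, zero_smul])
  set A := yel π p q X with hA
  set B := yel π u v Y with hB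
  have hAA : A * A = 0 := yel_sq hπ hpq _ _
  have hBB : B * B = 0 := yel_sq hπ huv _ _
  have hgi : (g⁻¹).val = 1 - A := left_inv_eq_right_inv (Units.inv_mul g) (by
    rw [eg, mul_sub, mul_one, add_mul, one_mul, hAA, add_zero, add_sub_cancel_right])
  have hhi : (h⁻¹).val = 1 - B := left_inv_eq_right_inv (Units.inv_mul h) (by
    rw [eh, mul_sub, mul_one, add_mul, one_mul, hBB, add_zero, add_sub_cancel_right])
  have hABA : A * B * A = 0 := by
    simp only [hA, hB, yel, mul_add, add_mul, kz_mul, rk_mul, smul_mul_assoc, hπ.self, hpu, hpv, hvp, hqv, hvq, hup,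
      hpq, hqp, zero_smul, smul_zero, kz_zero_left, zero_mul, add_zero]
  have hBAB : B * A * B = 0 := by
    simp only [hA, hB, yel, mul_add, add_mul, kz_mul, rk_mul, smul_mul_assoc, hπ.self, hpu, hpv, hvp, hqv, hvq, hup,
      hvu, huv, zero_smul, smul_zero, kz_zero_left, zero_mul, add_zero]
  have hAB : A * B - B * A = yel π p v (X * Y) := by
    simp only [hA, hB, yel, mul_add, add_mul, kz_mul, rk_mul, hπ.self, hqu, huq, hpu, hpv, hvp, hqv, hvq, hup,
      neg_smul, one_smul, zero_smul, kz_zero_left, kz_neg_left, add_zero, zero_add, adj_mul, sub_neg_eq_add]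
  refine ⟨g * h * g⁻¹ * h⁻¹, mul_mem (mul_mem (mul_mem hg hh) (inv_mem hg)) (inv_mem hh), ?_⟩
  rw [Units.val_mul, Units.val_mul, Units.val_mul, eg, eh, hgi, hhi, ← hAB]
  simp only [mul_add, add_mul, mul_sub, sub_mul, one_mul, mul_one, hAA, hBB, hABA, hBAB, mul_assoc A B B,
    mul_assoc B A A, mul_zero, zero_mul]
  abel

/-- The algebra of the blocks. -/
def blkAlg (hπ : Alt0 π) (hk : 5 ≤ k) (hM : HasRoots π H) :
    Subalgebra F (Matrix (Fin t → Fin k) (Fin t → Fin k) F) where
  carrier := {X | Blk π H X}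
  zero_mem' := blk_zero
  one_mem' := blk_one hπ hM
  add_mem' := blk_add hπ
  mul_mem' := blk_mul hπ hk hM
  algebraMap_mem' c := by
    show Blk π H _
    rw [Algebra.algebraMap_eq_smul_one]
    exact blk_smul (blk_one hπ hM) c

theorem blkAlg_inv (hπ : Alt0 π) (hk : 5 ≤ k) (hM : HasRoots π H) :
    RootInv π (Subalgebra.toSubmodule (blkAlg hπ hk hM)) := fun i x c _ hZ => blk_conj_root hπ hM hZ i x c

theorem kz_slot (A B : Matrix (Fin k) (Fin k) F) (j : Fin t) :
    kz A (slot j B) = slot (0 : Fin (t + 1)) A * slot j.succ B := by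
  rw [slot_zero_eq_kz, slot_succ_eq_kz, kz_mul, mul_one, one_mul]

/-- Transposing two slots exchanges the radical shape and its block. -/
theorem InR.spread (hπ : Alt0 π) {e d p q : Fin k → F} {j l : Fin t} {σ : Equiv.Perm (Fin (t + 1))}
    (h0 : σ 0 = l.succ) (hj : σ j.succ = 0) (h : InR π H e d (slot j (rk π p q))) :
    InR π (cj σ H) p q (slot l (rk π e d)) := by
  obtain ⟨g, hg, eg⟩ := h
  refine ⟨_, conj_mem_cj hg, ?_⟩
  rw [Units.val_mul, Units.val_mul, eg, conj_one_add, ← conjHom_apply]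
  congr 1
  simp only [yel, adj_slot, hπ.adj_rk', map_add, kz_slot, map_mul, conj_factorPerm_slot, h0, hj]
  rw [slot_comm (Fin.succ_ne_zero l) (rk π e d) (rk π p q),
    slot_comm (Fin.succ_ne_zero l) (rk π d e) (-rk π q p)]
  simp only [← neg_one_smul F (rk π q p), ← neg_one_smul F (rk π d e), slot_smul', smul_mul_assoc, mul_smul_comm]

/-- An algebra containing every slot is everything. -/
theorem mem_of_slots {A : Subalgebra F (Matrix (Fin t → Fin k) (Fin t → Fin k) F)}
    (h : ∀ l M, slot l M ∈ A) (X : Matrix (Fin t → Fin k) (Fin t → Fin k) F) : X ∈ A := by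
  classical
  have key : ∀ (T : Finset (Fin t)) (Ms : Fin t → Matrix (Fin k) (Fin k) F),
      tens (fun l => if l ∈ T then Ms l else 1) ∈ A := by
    intro T
    induction T using Finset.induction with
    | empty =>
      intro Ms
      rw [show (fun l => if l ∈ (∅ : Finset (Fin t)) then Ms l else 1) = 1 from funext fun l => by simp, tens_one]
      exact A.one_mem
    | insert l T hl ih =>
      intro Ms
      rw [show tens (fun j => if j ∈ insert l T then Ms j else 1) = slot l (Ms l) * tens (fun j => if j ∈ T then Ms j else 1) by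
        rw [slot_mul_tens]
        congr 1
        funext j
        rcases eq_or_ne j l with rfl | hj
        · simp [hl]
        · simp [hj]]
      exact A.mul_mem (h _ _) (ih Ms)
  rw [Matrix.matrix_eq_sum_single X]
  refine A.sum_mem fun a _ => A.sum_mem fun b _ => ?_
  rw [show Matrix.single a b (X a b) = X a b • Matrix.single a b (1 : F) by simp [Matrix.smul_single], single_eq_tens]
  exact A.smul_mem (by simpa using key Finset.univ fun i => Matrix.single (a i) (b i) 1) _

/-- An orthogonal pair. -/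
theorem exists_orth (hπ : Alt0 π) (hk : 3 ≤ k) :
    ∃ e d : Fin k → F, e ≠ 0 ∧ bf π e d = 0 ∧ ∀ c : F, d ≠ c • e := by
  let e : Fin k → F := Pi.single ⟨0, by omega⟩ 1
  have he : e ≠ 0 := fun h => by simpa [e] using congrFun h ⟨0, by omega⟩
  refine ⟨e, ?_⟩
  let f : (Fin k → F) →ₗ[F] F :=
    { toFun := fun x => bf π e x
      map_add' := fun a b => bf_add_right π _ _ _
      map_smul' := fun c a => bf_smul_right π _ _ _ }
  by_contra hcon
  push Not at hcon
  have hle : LinearMap.ker f ≤ Submodule.span F {e} := fun x hx => by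
    obtain ⟨c, rfl⟩ := hcon x he hx
    exact Submodule.smul_mem _ _ (Submodule.mem_span_singleton_self e)
  have h1 := (Submodule.finrank_mono hle).trans (le_of_eq (finrank_span_singleton he))
  have h2 := f.finrank_range_add_finrank_ker
  have h3 : Module.finrank F (LinearMap.range f) ≤ 1 :=
    (Submodule.finrank_le _).trans (le_of_eq (Module.finrank_self F))
  rw [Module.finrank_fin_fun] at h2
  omega

/-- The orthogonal rank one maps of a slot generate that slot. -/
theorem slot_mem_of_orth (hπ : Alt0 π) (hk : 3 ≤ k) {A : Subalgebra F (Matrix (Fin t → Fin k) (Fin t → Fin k) F)}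
    (hA : RootInv π (Subalgebra.toSubmodule A)) {l : Fin t}
    (h : ∀ e d : Fin k → F, e ≠ 0 → bf π e d = 0 → (∀ c : F, d ≠ c • e) → slot l (rk π e d) ∈ A)
    (M : Matrix (Fin k) (Fin k) F) : slot l M ∈ A := by
  obtain ⟨p, q, hp, hpq, hind⟩ := exists_orth hπ hk
  obtain ⟨u, hqu, hpu⟩ := exists_dual hπ hp hind
  have hu : u ≠ 0 := fun e => by rw [e, bf_zero_right] at hqu; exact zero_ne_one hqu
  obtain ⟨v, hpv, huv⟩ := exists_dual hπ hu (b := p) fun c e => by
    have h1 := bf_eq_zero_comm π hpq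
    rw [e, bf_smul_right, hqu, mul_one] at h1
    exact hp (by rw [e, h1, zero_smul])
  have hvind : ∀ c : F, v ≠ c • u := fun c e => by
    rw [e, bf_smul_right, hpu, mul_zero] at hpv
    exact zero_ne_one hpv
  let S : Submodule F (Matrix (Fin k) (Fin k) F) :=
    { carrier := {M | slot l M ∈ A}
      zero_mem' := by show slot l 0 ∈ A; rw [slot_zero']; exact A.zero_mem
      add_mem' := fun {M M'} hM hM' => by show slot l (M + M') ∈ A; rw [slot_add']; exact A.add_mem hM hM'
      smul_mem' := fun c M hM => by show slot l (c • M) ∈ A; rw [slot_smul']; exact A.smul_mem hM c }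
  refine all_of_idem hπ (S := S) (fun g hg M hM => ?_) hpv ?_ M
  · show slot l _ ∈ A
    have h1 := hA.conj_slotU hπ l hg (Z := slot l M) hM
    rwa [conjHom_apply, show (slotU (t := t) l g)⁻¹ = slotU l g⁻¹ from inv_eq_of_mul_eq_one_right (by
      rw [← slotU_mul, mul_inv_cancel]; exact Units.ext (by rw [slotU_coe, Units.val_one, slot_one', Units.val_one])),
      slotU_coe, slotU_coe, ← slot_mul', ← slot_mul'] at h1
  · show slot l (rk π p v) ∈ A
    have h1 := A.mul_mem (h p q hp hpq hind) (h u v hu huv hvind)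
    rw [← slot_mul', rk_mul, hπ.skew u q, hqu, slot_smul'] at h1
    have h2 := A.smul_mem h1 (-1 : F)
    rwa [smul_smul, neg_mul_neg, one_mul, one_smul] at h2

/-- An overgroup outside the stabiliser contains every radical shape. -/
theorem blk_all (hπ : Alt0 π) (hk : 6 ≤ k) (hH : H ≤ U (powS π (t + 1))) (hM : HasRoots π H) (hE : HasEven H)
    (hne : ¬ H ≤ Geo.tensorWreathStandard k (t + 1) F) (X : Matrix (Fin t → Fin k) (Fin t → Fin k) F) :
    Blk π H X := by
  obtain ⟨τ, o, d, Z, ho, hod, hind, hZ, h⟩ := exists_inR hπ hk t H hH hM hne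
  set H' := cj τ H with hH'
  have hM' : HasRoots π H' := cj_hasRoots hπ hM
  have hE' : HasEven H' := hE.cj τ
  obtain ⟨p, q, hp, hpq, hpi⟩ := exists_orth (k := k) hπ (by omega)
  obtain ⟨j, hj⟩ := exists_slot_mem hπ (by omega) (blkAlg_inv hπ (by omega) hM')
    (Z := Z) (blk_of_pair hπ hM' ho hod hind h) hZ
  -- every slot of the conjugate
  have hall' : ∀ l M, Blk π H' (slot l M) := by
    intro l
    by_cases hlj : l = j
    · exact hlj ▸ hj
    refine slot_mem_of_orth hπ (by omega) (blkAlg_inv hπ (by omega) hM') fun e d he hed hi => ?_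
    show Blk π H' _
    set σ := Equiv.swap j.succ l.succ * Equiv.swap (0 : Fin (t + 1)) j.succ with hσd
    have hne' : j.succ ≠ l.succ := fun h => hlj (Fin.succ_injective _ h).symm
    have hσ : Equiv.Perm.sign σ = 1 := by
      rw [hσd, map_mul, Equiv.Perm.sign_swap hne', Equiv.Perm.sign_swap (Fin.succ_ne_zero j).symm]
      decide
    refine blk_of_pair hπ hM' hp hpq hpi ?_
    rw [← cj_of_even hE' hσ]
    refine InR.spread hπ ?_ ?_ (hj (rk π p q) e d he hed hi)
    · simp [hσd]
    · rw [hσd, Equiv.Perm.mul_apply, Equiv.swap_apply_right,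
        Equiv.swap_apply_of_ne_of_ne (Fin.succ_ne_zero j).symm (Fin.succ_ne_zero l).symm]
  rcases Int.units_eq_one_or (Equiv.Perm.sign τ) with hτ | hτ
  · have he : H' = H := cj_of_even hE hτ
    exact he ▸ mem_of_slots (A := blkAlg hπ (by omega) hM') hall' X
  refine mem_of_slots (A := blkAlg hπ (by omega) hM) (fun l => ?_) X
  refine slot_mem_of_orth hπ (by omega) (blkAlg_inv hπ (by omega) hM) fun e d he hed hi => ?_
  show Blk π H _
  refine blk_of_pair hπ hM hp hpq hpi ?_
  set σ := Equiv.swap (0 : Fin (t + 1)) l.succ with hσd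
  have hcj : cj σ H' = H := by
    rw [hH', cj_cj]
    refine cj_of_even hE ?_
    rw [map_mul, hτ, hσd, Equiv.Perm.sign_swap (Fin.succ_ne_zero l).symm]
    decide
  rw [← hcj]
  exact InR.spread hπ (Equiv.swap_apply_left _ _) (Equiv.swap_apply_right _ _) (hall' l (rk π p q) e d he hed hi)

end Cfsg.Agent.WreathP
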