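import Cfsg.Agent.WreathP.Base
import Cfsg.Agent.WreathS.Levi

/-!
The quadratic model of a tensor power of an alternating form (helper56).
-/

set_option autoImplicit false
set_option linter.unusedSectionVars false

namespace Cfsg.Agent.WreathP

open Matrix Cfsg.Agent.MaxSub Cfsg.Agent.MaxSub.Asch Cfsg.Agent.FG75.SpinTensor Cfsg.Agent.WreathMax Cfsg.Agent.WreathS

variable {F : Type*} [Field F] {k t : ℕ}

/-- A quadratic form polarising to the tensor power and vanishing on pure tensors. -/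
structure Qf (π : Sgn F (Fin k)) (t : ℕ) where
  Q : QuadraticForm F ((Fin t → Fin k) → F)
  pol : ∀ x y, QuadraticMap.polar Q x y = bf (powS π t) x y
  pure : ∀ x, Q (pv x) = 0

/-- The group of the model. -/
abbrev Qf.omega {π : Sgn F (Fin k)} (S : Qf π t) : Subgroup (GL (Fin t → Fin k) F) := Geo.omegaGL ⇑S.Q

/-- The isometries permuting the slots and acting by isometries on each. -/
def Wiso (π : Sgn F (Fin k)) (t : ℕ) : Subgroup (GL (Fin t → Fin k) F) :=
  Subgroup.closure ({g | ∃ i A, A ∈ U π ∧ g = slotU i A} ∪ {g | ∃ σ, g = factorPerm σ})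

theorem slotU_mem_Wiso {π : Sgn F (Fin k)} {A : GL (Fin k) F} (hA : A ∈ U π) (i : Fin t) :
    slotU i A ∈ Wiso π t := Subgroup.subset_closure (Or.inl ⟨i, A, hA, rfl⟩)

theorem factorPerm_mem_Wiso (π : Sgn F (Fin k)) (σ : Equiv.Perm (Fin t)) : factorPerm σ ∈ Wiso π t :=
  Subgroup.subset_closure (Or.inr ⟨σ, rfl⟩)

theorem Wiso_le_wreath (π : Sgn F (Fin k)) (t : ℕ) : Wiso π t ≤ Geo.tensorWreathStandard k t F :=
  (Subgroup.closure_le _).mpr fun g hg => by
    rcases hg with ⟨i, A, -, rfl⟩ | ⟨σ, rfl⟩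
    · exact slotU_mem i A
    · exact factorPerm_mem σ

theorem Wiso_le_U (π : Sgn F (Fin k)) (t : ℕ) : Wiso π t ≤ U (powS π t) :=
  (Subgroup.closure_le _).mpr fun g hg => by
    rcases hg with ⟨i, A, hA, rfl⟩ | ⟨σ, rfl⟩
    · exact slotU_mem_U π hA i
    · exact factorPerm_mem_U π σ

/-- The radical shape of the first slot with block `X` lies in `H`. -/
def InR (π : Sgn F (Fin k)) (H : Subgroup (GL (Fin (t + 1) → Fin k) F)) (e d : Fin k → F)
    (X : Matrix (Fin t → Fin k) (Fin t → Fin k) F) : Prop :=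
  ∃ g ∈ H, g.val = 1 + yel π e d X

end Cfsg.Agent.WreathP
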