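import Cfsg.Agent.WreathP.Base
import Cfsg.Agent.WreathS.CaseB

/-!
Without fusion of slot roots there is nothing outside the stabiliser, in any characteristic (helper56).
-/

set_option autoImplicit false
set_option linter.unusedSectionVars false

namespace Cfsg.Agent.WreathP

open Matrix Cfsg.Agent.MaxSub Cfsg.Agent.MaxSub.Asch Cfsg.Agent.FG75.SpinTensor Cfsg.Agent.WreathMax Cfsg.Agent.WreathS

variable {F : Type*} [Field F] {k t : ℕ} {π : Sgn F (Fin k)}

theorem scalar_of_bracket {B : Matrix (Fin k) (Fin k) F}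
    (h : ∀ M : Matrix (Fin k) (Fin k) F, M * B - B * M = 0) : ∃ c : F, B = c • 1 := by
  obtain ⟨c, hc⟩ := Matrix.mem_range_scalar_of_commute_single (M := B) fun u v _ => sub_eq_zero.mp (h _)
  exact ⟨c, by rw [← hc, Matrix.scalar_apply, ← Matrix.smul_one_eq_diagonal]⟩

theorem slot_neg' (i : Fin t) (A : Matrix (Fin k) (Fin k) F) : slot i (-A) = -slot i A := by
  rw [← neg_one_smul F A, slot_smul', neg_one_smul]

/-- Two sums of slots killing each other: the second is nearly determined by the first. -/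
theorem pair_slots (hk : 0 < k) (B B' : Fin t → Matrix (Fin k) (Fin k) F)
    (h : (∑ a, slot a (B a)) * (∑ a, slot a (B' a)) = 0) {l m : Fin t} (hlm : l ≠ m)
    (hl : ∀ c : F, B l ≠ c • 1) (hm : ∀ c : F, B m ≠ c • 1) :
    ∃ μ c : F, ∑ a, slot a (B' a) = c • (1 : Matrix (Fin t → Fin k) (Fin t → Fin k) F) +
      μ • ∑ a, slot a (if a = l then B a else -B a) := by
  classical
  have had : ∀ (C : Fin t → Matrix (Fin k) (Fin k) F) j (M : Matrix (Fin k) (Fin k) F),
      slot j M * (∑ a, slot a (C a)) - (∑ a, slot a (C a)) * slot j M = slot j (M * C j - C j * M) := by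
    intro C j M
    rw [Finset.mul_sum, Finset.sum_mul, ← Finset.sum_sub_distrib, Finset.sum_eq_single j]
    · rw [slot_sub', slot_mul', slot_mul']
    · intro a _ ha
      rw [slot_comm (Ne.symm ha), sub_self]
    · simp
  have hsep : ∀ (j : Fin t), j ≠ l → ∀ M M' : Matrix (Fin k) (Fin k) F, ∀ a b,
      (M * B l - B l * M) a b • (M' * B' j - B' j * M') + (M * B' l - B' l * M) a b • (M' * B j - B j * M') = 0 := by
    intro j hj M M' a b
    set X := ∑ a, slot a (B a)
    set Y := ∑ a, slot a (B' a)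
    set U := M * B l - B l * M
    set U' := M * B' l - B' l * M
    set V := M' * B j - B j * M'
    set V' := M' * B' j - B' j * M'
    have e1 : slot l U * Y + X * slot l U' = 0 := by
      have e : slot l U * Y + X * slot l U' = slot l M * (X * Y) - X * Y * slot l M := by
        rw [← had B l M, ← had B' l M]
        noncomm_ring
      rw [e, h, mul_zero, zero_mul, sub_zero]
    have e2 : slot l U * slot j V' + slot l U' * slot j V = 0 := by
      have hc : ∀ W, Commute (slot j M') (slot l W) := fun W => slot_comm hj M' W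
      have e : slot l U * slot j V' + slot j V * slot l U' =
          slot j M' * (slot l U * Y + X * slot l U') - (slot l U * Y + X * slot l U') * slot j M' := by
        rw [← had B j M', ← had B' j M', mul_add, add_mul, mul_sub, sub_mul, ← mul_assoc (slot j M') (slot l U) Y,
          (hc U).eq, mul_assoc, mul_assoc (slot l U) Y, ← mul_assoc (slot j M') X, mul_assoc X (slot l U'),
          ← (hc U').eq, ← mul_assoc X]
        noncomm_ring
      rw [e1, mul_zero, zero_mul, sub_zero, slot_comm hj V U'] at e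
      exact e
    set p : Fin k := ⟨0, hk⟩
    have hs : ∀ A : Matrix (Fin k) (Fin k) F,
        Matrix.single p a (1 : F) * A * Matrix.single b p 1 = A a b • Matrix.single p p 1 := fun A => by
      rw [Matrix.single_mul_mul_single, Matrix.smul_single]; simp
    have e3 := congrArg (fun Z => slot l (Matrix.single p a (1 : F)) * Z * slot l (Matrix.single b p 1)) e2
    simp only [mul_add, add_mul, mul_zero, zero_mul] at e3
    have hmv : ∀ A C : Matrix (Fin k) (Fin k) F, slot l (Matrix.single p a (1 : F)) * (slot l A * slot j C) *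
        slot l (Matrix.single b p 1) = slot l (Matrix.single p p (1 : F)) * slot j (A a b • C) := by
      intro A C
      rw [← mul_assoc, mul_assoc, slot_comm hj C, ← mul_assoc, ← slot_mul', ← slot_mul', hs, slot_smul',
        slot_smul', smul_mul_assoc, mul_smul_comm]
    rw [hmv, hmv, ← mul_add, ← slot_add'] at e3
    refine (eq_zero_slot_pair hk (Ne.symm hj) e3).resolve_left fun e => ?_
    have := congrFun (congrFun e p) p
    simp at this
  obtain ⟨M₀, hM₀⟩ : ∃ M : Matrix (Fin k) (Fin k) F, M * B m - B m * M ≠ 0 := by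
    by_contra hc
    push Not at hc
    obtain ⟨c, e⟩ := scalar_of_bracket hc
    exact hm c e
  obtain ⟨N₀, hN₀⟩ : ∃ M : Matrix (Fin k) (Fin k) F, M * B l - B l * M ≠ 0 := by
    by_contra hc
    push Not at hc
    obtain ⟨c, e⟩ := scalar_of_bracket hc
    exact hl c e
  obtain ⟨p, q, hpq⟩ : ∃ p q, (M₀ * B m - B m * M₀) p q ≠ 0 := by
    by_contra hc; push Not at hc; exact hM₀ (Matrix.ext hc)
  obtain ⟨p', q', hpq'⟩ : ∃ p q, (N₀ * B l - B l * N₀) p q ≠ 0 := by
    by_contra hc; push Not at hc; exact hN₀ (Matrix.ext hc)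
  set μ := -((M₀ * B' m - B' m * M₀) p q / (M₀ * B m - B m * M₀) p q) with hμ
  have hU : ∀ M : Matrix (Fin k) (Fin k) F, M * B' l - B' l * M = μ • (M * B l - B l * M) := by
    intro M
    ext a b
    have := congrFun (congrFun (hsep m hlm.symm M M₀ a b) p) q
    simp only [Matrix.add_apply, Matrix.smul_apply, Matrix.zero_apply, smul_eq_mul] at this
    rw [Matrix.smul_apply, smul_eq_mul, hμ, neg_mul, div_mul_eq_mul_div, ← neg_div, eq_div_iff hpq]
    linear_combination this
  have hall : ∀ a, ∃ c : F, B' a - μ • (if a = l then B a else -B a) = c • 1 := by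
    intro a
    refine scalar_of_bracket fun M => ?_
    by_cases ha : a = l
    · subst ha
      rw [if_pos rfl, mul_sub, sub_mul, mul_smul_comm, smul_mul_assoc, ← sub_eq_zero.mpr (hU M), smul_sub]
      abel
    · rw [if_neg ha]
      have h1 := hsep a ha N₀ M p' q'
      rw [hU, Matrix.smul_apply, smul_eq_mul, mul_comm μ, ← smul_smul, ← smul_add, smul_eq_zero] at h1
      rw [← h1.resolve_left hpq']
      simp only [mul_sub, sub_mul, mul_neg, neg_mul, mul_smul_comm, smul_mul_assoc, smul_neg, smul_sub]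
      abel
  choose c hc using hall
  refine ⟨μ, ∑ a, c a, ?_⟩
  rw [Finset.sum_smul, Finset.smul_sum, ← Finset.sum_add_distrib]
  refine Finset.sum_congr rfl fun a _ => ?_
  rw [← slot_smul', ← slot_smul_one a (c a), ← slot_add', ← hc a, sub_add_cancel]

/-- Scalars in all slots but one. -/
theorem slot_of_sum (ht : 1 ≤ t) (B : Fin t → Matrix (Fin k) (Fin k) F)
    (h : ∀ l m, l ≠ m → (∀ c : F, B l ≠ c • 1) → ∃ c : F, B m = c • 1) :
    ∃ j A, ∑ l, slot l (B l) = slot j A := by
  classical
  obtain ⟨i₀, hi₀⟩ : ∃ i, ∀ j, j ≠ i → ∃ c : F, B j = c • 1 := by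
    by_cases hall : ∀ j, ∃ c : F, B j = c • 1
    · exact ⟨⟨0, ht⟩, fun j _ => hall j⟩
    push Not at hall
    obtain ⟨i, hi⟩ := hall
    exact ⟨i, fun j hji => h i j (Ne.symm hji) hi⟩
  choose c hc using hi₀
  refine ⟨i₀, B i₀ + (∑ l, if hl : l = i₀ then 0 else c l hl) • 1, ?_⟩
  rw [slot_add', slot_smul_one, Finset.sum_smul, ← Finset.add_sum_erase Finset.univ _ (Finset.mem_univ i₀),
    ← Finset.add_sum_erase Finset.univ (fun l => (if hl : l = i₀ then 0 else c l hl) • (1 : Matrix _ _ F))
      (Finset.mem_univ i₀), dif_pos rfl, zero_smul, zero_add]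
  congr 1
  refine Finset.sum_congr rfl fun l hl => ?_
  rw [dif_neg (Finset.ne_of_mem_erase hl)]
  conv_lhs => rw [hc l (Finset.ne_of_mem_erase hl), slot_smul_one]

/-- Three vectors of `{p, r}^⊥` with duals. -/
theorem exists_three_orth (hπ : Alt0 π) (hk : 6 ≤ k) (p r : Fin k → F) :
    ∃ x w : Fin 3 → Fin k → F, (∀ i, bf π p (x i) = 0 ∧ bf π r (x i) = 0) ∧
      ∀ i j, bf π (w i) (x j) = if i = j then 1 else 0 := by
  have hker : ∀ (n : ℕ) (u : Fin n → Fin k → F), n < k → ∃ x, x ≠ 0 ∧ ∀ i, bf π (u i) x = 0 := by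
    intro n u hn
    let L : (Fin k → F) →ₗ[F] (Fin n → F) :=
      { toFun := fun x i => bf π (u i) x
        map_add' := fun a b => funext fun i => bf_add_right π _ _ _
        map_smul' := fun c a => funext fun i => bf_smul_right π _ _ _ }
    obtain ⟨x, hx, hx0⟩ := Submodule.exists_mem_ne_zero_of_ne_bot
      (LinearMap.ker_ne_bot_of_finrank_lt (f := L) (by
        rw [Module.finrank_fin_fun, Module.finrank_fin_fun]; exact hn))
    exact ⟨x, hx0, fun i => congrFun (LinearMap.mem_ker.mp hx) i⟩
  obtain ⟨x₀, h00, h0⟩ := hker 2 ![p, r] (by omega)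
  obtain ⟨w₀, hw₀⟩ := exists_right_eq_one π h00
  obtain ⟨x₁, h10, h1⟩ := hker 3 ![p, r, w₀] (by omega)
  obtain ⟨z₁, hz₁⟩ := exists_right_eq_one π h10
  set w₁ := z₁ - bf π x₀ z₁ • w₀ with hw₁
  obtain ⟨x₂, h20, h2⟩ := hker 4 ![p, r, w₀, w₁] (by omega)
  obtain ⟨z₂, hz₂⟩ := exists_right_eq_one π h20
  have a01 : bf π x₁ w₀ = 0 := bf_eq_zero_comm π (h1 2)
  have a02 : bf π x₂ w₀ = 0 := bf_eq_zero_comm π (h2 2)
  have a12 : bf π x₂ w₁ = 0 := bf_eq_zero_comm π (h2 3)
  have b10 : bf π x₀ w₁ = 0 := by rw [hw₁, bf_sub_right, bf_smul_right, hw₀]; ring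
  have b11 : bf π x₁ w₁ = 1 := by rw [hw₁, bf_sub_right, bf_smul_right, hz₁, a01]; ring
  set w₂ := z₂ - bf π x₀ z₂ • w₀ - bf π x₁ z₂ • w₁ with hw₂
  have b20 : bf π x₀ w₂ = 0 := by rw [hw₂, bf_sub_right, bf_sub_right, bf_smul_right, bf_smul_right, hw₀, b10]; ring
  have b21 : bf π x₁ w₂ = 0 := by rw [hw₂, bf_sub_right, bf_sub_right, bf_smul_right, bf_smul_right, a01, b11]; ring
  have b22 : bf π x₂ w₂ = 1 := by rw [hw₂, bf_sub_right, bf_sub_right, bf_smul_right, bf_smul_right, a02, a12, hz₂]; ring
  refine ⟨![x₀, x₁, x₂], ![-w₀, -w₁, -w₂], fun i => ?_, fun i j => ?_⟩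
  · fin_cases i
    · exact ⟨h0 0, h0 1⟩
    · exact ⟨h1 0, h1 1⟩
    · exact ⟨h2 0, h2 1⟩
  · have e : ∀ w x, bf π (-w) x = bf π x w := fun w x => by rw [bf_neg_left, hπ.skew w x, neg_neg]
    fin_cases i <;> fin_cases j <;> simp [e, hw₀, a01, a02, a12, b10, b11, b20, b21, b22]

theorem exists_common' (hπ : Alt0 π) {x y : Fin k → F} (hx : x ≠ 0) (hy : y ≠ 0) :
    ∃ z, bf π x z ≠ 0 ∧ bf π y z ≠ 0 := by
  obtain ⟨a, ha⟩ := exists_right_eq_one π hx
  obtain ⟨b, hb⟩ := exists_right_eq_one π hy
  by_cases h1 : bf π y a = 0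
  · by_cases h2 : bf π x b = 0
    · exact ⟨a + b, by rw [bf_add_right, ha, h2, add_zero]; exact one_ne_zero,
        by rw [bf_add_right, hb, h1, zero_add]; exact one_ne_zero⟩
    · exact ⟨b, h2, by rw [hb]; exact one_ne_zero⟩
  · exact ⟨a, by rw [ha]; exact one_ne_zero, h1⟩

/-- The root lines of a slot going to slots go to one slot, and so does the slot. -/
theorem range_of_roots' (hπ : Alt0 π) (hk : 0 < k) {g : GL (Fin t → Fin k) F} {i : Fin t}
    (h : ∀ x, x ≠ 0 → ∃ j B, conjHom g (slot i (rk π x x)) = slot j B) :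
    ∃ j, ∀ M, conjHom g (slot i M) ∈ (slotHom (F := F) (m := k) j).range := by
  choose τ B hB using h
  have hstep : ∀ x y (hx : x ≠ 0) (hy : y ≠ 0), bf π x y ≠ 0 → τ x hx = τ y hy := by
    intro x y hx hy hxy
    by_contra hne
    have hcom : conjHom g (slot i (rk π x x)) * conjHom g (slot i (rk π y y)) =
        conjHom g (slot i (rk π y y)) * conjHom g (slot i (rk π x x)) := by
      rw [hB x hx, hB y hy]; exact slot_comm hne _ _
    rw [← map_mul, ← map_mul, ← slot_mul', ← slot_mul', rk_mul, rk_mul] at hcom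
    have h1 := congrArg (fun X => X *ᵥ x) (slot_injective hk i (conjHom_injective g hcom))
    simp only [smul_mulVec, rk_mulVec, hπ.self, zero_smul, smul_zero, hπ.skew y x, smul_smul] at h1
    rw [neg_mul, neg_smul] at h1
    exact smul_ne_zero (mul_ne_zero hxy hxy) hx (neg_eq_zero.mp (by simpa using h1.symm))
  have hall : ∀ x y (hx : x ≠ 0) (hy : y ≠ 0), τ x hx = τ y hy := by
    intro x y hx hy
    obtain ⟨z, hxz, hyz⟩ := exists_common' hπ hx hy
    have hz : z ≠ 0 := fun e => hxz (by rw [e, bf_zero_right])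
    exact (hstep x z hx hz hxz).trans (hstep y z hy hz hyz).symm
  let x₀ : Fin k → F := Pi.single ⟨0, hk⟩ 1
  have hx₀ : x₀ ≠ 0 := fun e => by simpa [x₀] using congrFun e ⟨0, hk⟩
  refine ⟨τ x₀ hx₀, fun M => ?_⟩
  let S : Subalgebra F (Matrix (Fin k) (Fin k) F) :=
    ((slotHom (τ x₀ hx₀)).range).comap ((conjHom g).comp (slotHom i))
  have hsq : ∀ x, rk π x x ∈ S := by
    intro x
    by_cases hx : x = 0
    · rw [hx, rk_zero_left]; exact S.zero_mem
    show conjHom g (slot i (rk π x x)) ∈ (slotHom (τ x₀ hx₀)).range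
    rw [hB x hx, hall x x₀ hx hx₀]
    exact ⟨_, rfl⟩
  have hnon : ∀ x y, bf π y x ≠ 0 → rk π y x ∈ S := by
    intro x y hxy
    have hxy' : bf π x y ≠ 0 := fun e => hxy (bf_eq_zero_comm π e)
    have := S.smul_mem (S.mul_mem (hsq y) (hsq x)) (bf π x y)⁻¹
    rwa [rk_mul, smul_smul, inv_mul_cancel₀ hxy', one_smul] at this
  have hrk : ∀ x y, rk π x y ∈ S := by
    intro x y
    by_cases hxy : bf π x y ≠ 0
    · exact hnon _ _ hxy
    rw [not_not] at hxy
    by_cases hx : x = 0
    · rw [hx, rk_zero_left]; exact S.zero_mem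
    obtain ⟨z, hz⟩ := exists_right_eq_one π hx
    have h1 := S.sub_mem (hnon (y + z) x (by rw [bf_add_right, hxy, hz, zero_add]; exact one_ne_zero))
      (hnon z x (by rw [hz]; exact one_ne_zero))
    rwa [rk_add_right, add_sub_cancel_right] at h1
  show M ∈ S
  rw [Matrix.matrix_eq_sum_single M]
  refine sum_mem fun a _ => sum_mem fun b _ => ?_
  have := S.smul_mem (hrk (Pi.single a 1) (Pi.single (π.J b) (π.ε b))) (M a b)
  rw [show rk π (Pi.single a 1) (Pi.single (π.J b) (π.ε b)) = Matrix.single a b (1 : F) by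
    ext c d
    rw [rk, vecMulVec_apply, cv, Pi.single_apply, Pi.single_apply, Matrix.single_apply]
    by_cases hc : c = a <;> by_cases hd : d = b <;> simp [hc, hd, π.ε_sq, Ne.symm, π.J.injective.eq_iff]] at this
  rwa [Matrix.smul_single, smul_eq_mul, mul_one] at this

variable [Fintype F] {H : Subgroup (GL (Fin t → Fin k) F)}

/-- The defect on the fixed matrices of a root group. -/
theorem defect_form (hπ : Alt0 π) (hM : HasRoots π H) (hmov : Moves π H) (i : Fin t) {x : Fin k → F} (hx0 : x ≠ 0)
    {X : Matrix (Fin t → Fin k) (Fin t → Fin k) F}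
    (h1 : slot i (rk π x x) * X = 0) (h2 : X * slot i (rk π x x) = 0) :
    ∃ A B, defect H X = slot i (rk π x x) * A + B * slot i (rk π x x) := by
  classical
  letI := Fintype.ofFinite (Cosets H)
  set N := slot i (rk π x x) with hN
  let r : F → H := fun c => ⟨sRoot π i x c, hM i x c⟩
  let α : F → Cosets H → Cosets H := fun c q => r c • q
  have hα : ∀ c d q, α c (α d q) = α (c + d) q := fun c d q => by
    show r c • r d • q = r (c + d) • q
    rw [smul_smul]
    congr 1
    exact Subtype.ext (sRoot_mul hπ i x c d)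
  have hα0 : ∀ q, α 0 q = q := fun q => by
    show r 0 • q = q
    rw [show r 0 = 1 from Subtype.ext (sRoot_zero hπ i x), one_smul]
  let st : Setoid (Cosets H) :=
    { r := fun q q' => ∃ c, α c q = q'
      iseqv :=
        ⟨fun q => ⟨0, hα0 q⟩, fun {q q'} ⟨v, hv⟩ => ⟨-v, by rw [← hv, hα, neg_add_cancel, hα0]⟩,
          fun {q q' q''} ⟨v, hv⟩ ⟨w, hw⟩ => ⟨w + v, by rw [← hα, hv, hw]⟩⟩ }
  letI : Fintype (Quotient st) := Fintype.ofFinite _
  set S := Finset.univ.erase (QuotientGroup.mk (1 : H) : Cosets H) with hS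
  have hfix : ∀ c q, q ≠ (QuotientGroup.mk 1 : Cosets H) → α c q = q → c = 0 := by
    intro c q hq hcq
    obtain ⟨g, rfl⟩ := QuotientGroup.mk_surjective q
    by_contra hc
    refine hmov g g.2 (fun h => hq ((mk_eq_one_iff H g).mpr h)) i x c hx0 hc ?_
    change (QuotientGroup.mk (r c * g) : Cosets H) = _ at hcq
    rw [eq_comm, QuotientGroup.eq, Subgroup.mem_subgroupOf] at hcq
    simpa [mul_assoc, r] using hcq
  have hbase : ∀ c, α c (QuotientGroup.mk 1 : Cosets H) = QuotientGroup.mk 1 := fun c => by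
    show (QuotientGroup.mk (r c * 1) : Cosets H) = _
    rw [mul_one]
    exact (mk_eq_one_iff H _).mpr (sRoot_mem_wreath i x c)
  have horb : ∀ o : Quotient st, ∃ Y, ∑ q ∈ S.filter (fun q => Quotient.mk st q = o), cosetTwist H q X =
      ∑ c : F, conjHom (sRoot π i x c) Y := by
    intro o
    by_cases hne : S.filter (fun q => Quotient.mk st q = o) = ∅
    · exact ⟨0, by rw [hne]; simp⟩
    obtain ⟨q₀, hq₀⟩ := Finset.nonempty_iff_ne_empty.mpr hne
    simp only [S, Finset.mem_filter, Finset.mem_erase, Finset.mem_univ, and_true] at hq₀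
    obtain ⟨hq₀, rfl⟩ := hq₀
    refine ⟨cosetTwist H q₀ X, ?_⟩
    have himg : S.filter (fun q => Quotient.mk st q = Quotient.mk st q₀) =
        (Finset.univ : Finset F).image fun c => α c q₀ := by
      ext q
      simp only [S, Finset.mem_filter, Finset.mem_erase, Finset.mem_univ, and_true, Finset.mem_image, true_and]
      constructor
      · rintro ⟨-, hq⟩
        exact Quotient.exact hq.symm
      · rintro ⟨c, rfl⟩
        refine ⟨fun h => hq₀ ?_, (Quotient.sound (show st q₀ (α c q₀) from ⟨c, rfl⟩)).symm⟩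
        have h' := congrArg (α (-c)) h
        rwa [hα, neg_add_cancel, hα0, hbase] at h'
    rw [himg, Finset.sum_image fun c _ d _ (h : α c q₀ = α d q₀) => by
      have h' := congrArg (α (-d)) h
      rw [hα, hα, neg_add_cancel, hα0] at h'
      exact (neg_add_eq_zero.mp (hfix _ _ hq₀ h')).symm]
    refine Finset.sum_congr rfl fun c _ => ?_
    have hfixX : conjHom (sRoot π i x c) X = X := by
      rw [conjHom_sRoot hπ, h1, h2]
      simp
    have h := cosetTwist_smul H (r c) q₀ X
    rw [hfixX] at h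
    exact h
  choose Y hY using horb
  have e1 : defect H X = ∑ c : F, conjHom (sRoot π i x c) (∑ o, Y o) := by
    rw [defect, LinearMap.sub_apply, avg_sub_Phi, ← hS,
      ← Finset.sum_fiberwise S (fun q => Quotient.mk st q) (fun q => cosetTwist H q X),
      Finset.sum_congr rfl fun o _ => hY o, Finset.sum_comm]
    simp [map_sum]
  set Z := ∑ o, Y o
  refine ⟨(∑ c : F, c) • Z - (∑ c : F, c * c) • (Z * N), (-∑ c : F, c) • Z, ?_⟩
  rw [e1]
  simp only [conjHom_sRoot hπ, ← hN, Finset.sum_sub_distrib, Finset.sum_add_distrib, Finset.sum_const,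
    Finset.card_univ, ← Finset.sum_smul]
  rw [← Nat.cast_smul_eq_nsmul F, FiniteField.cast_card_eq_zero, zero_smul, zero_add]
  simp only [smul_sub, mul_sub, mul_smul_comm, smul_mul_assoc, neg_smul, neg_mul, mul_assoc]
  abel

/-- Three root lines killing a slot of a pure tensor from both sides kill the defect. -/
theorem defect_eq_zero (hπ : Alt0 π) (hM : HasRoots π H) (hmov : Moves π H) (i : Fin t)
    (A : Fin t → Matrix (Fin k) (Fin k) F) (x w : Fin 3 → Fin k → F)
    (hw : ∀ a b, bf π (w a) (x b) = if a = b then 1 else 0)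
    (hx : ∀ a, rk π (x a) (x a) * A i = 0 ∧ A i * rk π (x a) (x a) = 0) : defect H (tens A) = 0 := by
  classical
  set D := defect H (tens A)
  have hx0 : ∀ a, x a ≠ 0 := fun a e => by
    have := hw a a
    rw [e, bf_zero_right, if_pos rfl] at this
    exact zero_ne_one this
  have hD : ∀ a, ∃ A' B', D = slot i (rk π (x a) (x a)) * A' + B' * slot i (rk π (x a) (x a)) := fun a =>
    defect_form hπ hM hmov i (hx0 a)
      (by rw [slot_mul_tens]; exact tens_eq_zero (l := i) (by rw [Function.update_self, (hx a).1]))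
      (by rw [tens_mul_slot]; exact tens_eq_zero (l := i) (by rw [Function.update_self, (hx a).2]))
  have hone : (1 : Matrix (Fin t → Fin k) (Fin t → Fin k) F) =
      ∑ c, slot i (rk π (Pi.single c 1) (dual π c)) := by
    rw [← slot_sum', ← one_eq_sum_rk, slot_one']
  have hpair : ∀ a b, a ≠ b → ∀ q, bf π q (x a) = 0 → bf π q (x b) = 0 → ∀ s, D * slot i (rk π q s) = 0 := by
    intro a b hab q hqa hqb s
    obtain ⟨Aa, Ba, ea⟩ := hD a
    obtain ⟨Ab, Bb, eb⟩ := hD b
    have key : ∀ (j : Fin 3) A' B', D = slot i (rk π (x j) (x j)) * A' + B' * slot i (rk π (x j) (x j)) →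
        bf π q (x j) = 0 → ∀ u y, bf π (x j) y = 0 → slot i (rk π u y) * (D * slot i (rk π q s)) = 0 := by
      intro j A' B' ej hqj u y hy
      rw [ej, add_mul, mul_assoc B', ← slot_mul', rk_mul, hqj, zero_smul, slot_zero', mul_zero, add_zero,
        mul_assoc, ← mul_assoc, ← slot_mul', rk_mul, hy, zero_smul, slot_zero', zero_mul]
    have hall : ∀ u y, slot i (rk π u y) * (D * slot i (rk π q s)) = 0 := by
      intro u y
      obtain ⟨z, hz1, hz0⟩ : ∃ z, bf π (x a) z = 1 ∧ bf π (x b) z = 0 :=
        ⟨-w a, by rw [bf_neg_right, hπ.skew, hw, if_pos rfl, neg_neg],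
          by rw [bf_neg_right, hπ.skew, hw, if_neg hab]; ring⟩
      have e : rk π u y = rk π u (y - bf π (x a) y • z) + rk π u (bf π (x a) y • z) := by
        rw [← rk_add_right, sub_add_cancel]
      rw [e, slot_add', add_mul,
        key a Aa Ba ea hqa u _ (by rw [bf_sub_right, bf_smul_right, hz1, mul_one, sub_self]),
        key b Ab Bb eb hqb u _ (by rw [bf_smul_right, hz0, mul_zero]), add_zero]
    rw [← one_mul (D * _), hone, Finset.sum_mul]
    exact Finset.sum_eq_zero fun c _ => hall _ _
  have hq : ∀ q s, D * slot i (rk π q s) = 0 := by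
    intro q s
    let c : Fin 3 → F := fun a => bf π q (x a)
    set q' := q - (c 0 • w 0 + c 1 • w 1 + c 2 • w 2)
    have e : rk π q s = rk π q' s + (c 0 • rk π (w 0) s + c 1 • rk π (w 1) s + c 2 • rk π (w 2) s) := by
      rw [← rk_smul_left, ← rk_smul_left, ← rk_smul_left, ← rk_add_left, ← rk_add_left, ← rk_add_left,
        sub_add_cancel]
    rw [e, slot_add', slot_add', slot_add', slot_smul', slot_smul', slot_smul', mul_add, mul_add, mul_add,
      mul_smul_comm, mul_smul_comm, mul_smul_comm,
      hpair 0 1 (by decide) q' (by simp [q', c, bf_sub_left, bf_add_left, bf_smul_left, hw])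
        (by simp [q', c, bf_sub_left, bf_add_left, bf_smul_left, hw]) s,
      hpair 1 2 (by decide) (w 0) (by simp [hw]) (by simp [hw]) s,
      hpair 0 2 (by decide) (w 1) (by simp [hw]) (by simp [hw]) s,
      hpair 0 1 (by decide) (w 2) (by simp [hw]) (by simp [hw]) s]
    simp
  rw [← mul_one D, hone, Finset.mul_sum]
  exact Finset.sum_eq_zero fun c _ => hq _ _

/-- Without fusion there is nothing outside the stabiliser. -/
theorem le_wreath_of_moves (hπ : Alt0 π) (hk : 6 ≤ k) (ht : 1 ≤ t) (hM : HasRoots π H) (hmov : Moves π H) :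
    H ≤ Geo.tensorWreathStandard k t F := by
  classical
  let S : Fin t → Submodule F (Matrix (Fin k) (Fin k) F) := fun i =>
    { carrier := {B | ∀ A, defect H (tens (Function.update A i B)) = 0}
      zero_mem' := fun A => by rw [tens_eq_zero (l := i) (Function.update_self _ _ _), map_zero]
      add_mem' := fun {B B'} hB hB' A => by rw [tens_update_add, map_add, hB A, hB' A, add_zero]
      smul_mem' := fun a B hB A => by rw [tens_update_smul, map_smul, hB A, smul_zero] }
  have hbig : ∀ i p r, rk π p r ∈ S i := fun i p r A => by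
    obtain ⟨x, w, hx, hw⟩ := exists_three_orth hπ hk p r
    refine defect_eq_zero hπ hM hmov i _ x w hw fun a => ?_
    rw [Function.update_self, rk_mul, rk_mul, (hx a).1, bf_eq_zero_comm π (hx a).2, zero_smul, zero_smul]
    exact ⟨rfl, rfl⟩
  have htens : ∀ A : Fin t → Matrix (Fin k) (Fin k) F, avg H (tens A) ∈ slots (F := F) (k := k) (t := t) := by
    intro A
    let i : Fin t := ⟨0, ht⟩
    have hS : A i ∈ S i := by
      rw [Matrix.matrix_eq_sum_single (A i)]
      refine Submodule.sum_mem _ fun a _ => Submodule.sum_mem _ fun b _ => ?_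
      rw [show Matrix.single a b (A i a b) = A i a b • Matrix.single a b (1 : F) by simp [Matrix.smul_single],
        single_eq_rk (π := π)]
      exact (S i).smul_mem _ (hbig i _ _)
    have h := hS A
    rw [Function.update_eq_self, defect, LinearMap.sub_apply, sub_eq_zero] at h
    rw [h]
    exact Phi_mem_slots _
  have havg : ∀ Y, avg H Y ∈ slots (F := F) (k := k) (t := t) := by
    intro Y
    rw [Matrix.matrix_eq_sum_single Y, map_sum]
    refine Submodule.sum_mem _ fun u _ => ?_
    rw [map_sum]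
    refine Submodule.sum_mem _ fun v _ => ?_
    rw [show Matrix.single u v (Y u v) = Y u v • Matrix.single u v (1 : F) by simp [Matrix.smul_single], map_smul,
      single_eq_tens]
    exact Submodule.smul_mem _ _ (htens _)
  intro g hg
  let c₀ : Fin k := ⟨0, by omega⟩
  have himage : ∀ i x s, bf π x s = 0 → conjHom g (slot i (rk π x s)) ∈ slots (F := F) (k := k) (t := t) := by
    intro i x s hxs
    set A₀ : Fin t → Matrix (Fin k) (Fin k) F :=
      Function.update (fun _ => Matrix.single c₀ c₀ (1 : F)) i (rk π x s) with hA₀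
    have hphi : Phi (tens A₀) = slot i (rk π x s) := by
      rw [Phi_apply]
      simp only [ptr_tens]
      rw [Finset.sum_eq_single i]
      · rw [hA₀, Function.update_self, Finset.prod_eq_one (fun j _ => ?_), one_smul]
        rw [Function.update_of_ne j.2, Matrix.trace_single_eq_same]
      · intro j _ hji
        rw [Finset.prod_eq_zero (i := ⟨i, Ne.symm hji⟩) (Finset.mem_univ _), zero_smul, slot_zero']
        simp [hA₀, trace_rk, hxs]
      · simp
    have havgA : avg H (tens A₀) = slot i (rk π x s) := by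
      have h := hbig i x s (fun _ => Matrix.single c₀ c₀ (1 : F))
      rw [defect, LinearMap.sub_apply, sub_eq_zero, ← hA₀, hphi] at h
      exact h
    rw [← havgA, ← avg_equivariant H hg]
    exact havg _
  have hroot : ∀ i x, x ≠ 0 → ∃ j B, conjHom g (slot i (rk π x x)) = slot j B := by
    intro i x hx
    obtain ⟨B, hB⟩ := mem_slots.mp (himage i x x (hπ.self x))
    rw [← hB]
    refine slot_of_sum ht B fun l m hlm hl => ?_
    by_contra hm
    push Not at hm
    set Z := ∑ a, slot a (if a = l then B a else -B a)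
    let f : (Fin k → F) →ₗ[F] F :=
      { toFun := fun s => bf π x s
        map_add' := fun a b => bf_add_right π _ _ _
        map_smul' := fun c a => bf_smul_right π _ _ _ }
    let L : LinearMap.ker f →ₗ[F] Matrix (Fin t → Fin k) (Fin t → Fin k) F :=
      { toFun := fun s => conjHom g (slot i (rk π x s.1))
        map_add' := fun a b => by rw [Submodule.coe_add, rk_add_right, slot_add', map_add]
        map_smul' := fun c a => by rw [Submodule.coe_smul, rk_smul_right, slot_smul', map_smul]; rfl }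
    have hinj : Function.Injective L := by
      refine (injective_iff_map_eq_zero L).mpr fun s hs => Subtype.ext ?_
      have h1 : rk π x s.1 = 0 := slot_injective (by omega) i
        ((conjHom_injective g (hs.trans (map_zero _).symm)).trans (slot_zero' i).symm)
      by_contra hs0
      obtain ⟨z, hz⟩ := exists_left_ne π hs0
      have h2 := congrArg (fun X => X *ᵥ z) h1
      simp only [rk_mulVec, zero_mulVec] at h2
      exact smul_ne_zero hz hx h2
    have hle : LinearMap.range L ≤ Submodule.span F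
        {(1 : Matrix (Fin t → Fin k) (Fin t → Fin k) F), Z} := by
      rintro _ ⟨⟨s, hs⟩, rfl⟩
      obtain ⟨B', hB'⟩ := mem_slots.mp (himage i x s hs)
      show conjHom g (slot i (rk π x s)) ∈ _
      obtain ⟨μ, c, e⟩ := pair_slots (by omega) B B' (by
        rw [hB, hB', ← map_mul, ← slot_mul', rk_mul, hπ.self, zero_smul, slot_zero', map_zero]) hlm hl hm
      rw [← hB', e]
      exact Submodule.mem_span_pair.mpr ⟨c, μ, rfl⟩
    have h1 := LinearMap.finrank_range_of_inj hinj
    have h2 := (Submodule.finrank_mono hle).trans (finrank_span_le_card (R := F) _)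
    have h3 : ({(1 : Matrix (Fin t → Fin k) (Fin t → Fin k) F), Z} : Set _).toFinset.card ≤ 2 := by
      simp only [Set.toFinset_insert, Set.toFinset_singleton]
      exact Finset.card_le_two
    have h4 := f.finrank_range_add_finrank_ker
    have h5 : Module.finrank F (LinearMap.range f) ≤ 1 :=
      (Submodule.finrank_le _).trans (le_of_eq (Module.finrank_self F))
    rw [Module.finrank_fin_fun] at h4
    omega
  choose σ hσ using fun i => range_of_roots' hπ (by omega) (hroot i)
  exact mem_wreath_of_ranges (by omega) ht g σ hσ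

end Cfsg.Agent.WreathP
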