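import Cfsg.Agent.WreathP.Model

/-!
An element centralising a slot root outside the stabiliser gives a radical element with a block which is not
scalar, or an element of the other slots outside the stabiliser (helper56).
-/

set_option autoImplicit false
set_option linter.unusedSectionVars false

namespace Cfsg.Agent.WreathP

open Matrix Cfsg.Agent.MaxSub Cfsg.Agent.MaxSub.Asch Cfsg.Agent.FG75.SpinTensor Cfsg.Agent.WreathMax Cfsg.Agent.WreathS

variable {F : Type*} [Field F] [Finite F] {k t : ℕ} {π : Sgn F (Fin k)} {H : Subgroup (GL (Fin (t + 1) → Fin k) F)}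

/-- Not a scalar. -/
def NS {ι : Type} [Fintype ι] [DecidableEq ι] (X : Matrix ι ι F) : Prop := ∀ c : F, X ≠ c • 1

/-- A radical element with a block which is not scalar. -/
def Wit (π : Sgn F (Fin k)) (H : Subgroup (GL (Fin (t + 1) → Fin k) F)) : Prop :=
  ∃ (o v : Fin k → F) (h : GL (Fin (t + 1) → Fin k) F) (X : Matrix (Fin t → Fin k) (Fin t → Fin k) F),
    o ≠ 0 ∧ bf π v o = 0 ∧ (∀ c : F, v ≠ c • o) ∧ h ∈ H ∧ NS X ∧ (h.val - 1) * kk π v v = kz (rk π o v) X

theorem adj_kk' (hπ : Alt0 π) (a b : Fin k → F) :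
    adj (powS π (t + 1)) (kk π a b : Matrix (Fin (t + 1) → Fin k) (Fin (t + 1) → Fin k) F) = -kk π b a := by
  rw [kk, adj_kz, hπ.adj_rk', adj_one, kk, ← neg_one_smul F (rk π b a), kz_smul_left, neg_one_smul]

theorem blk_adj' (hπ : Alt0 π) (hk : 0 < k) (N : Matrix (Fin (t + 1) → Fin k) (Fin (t + 1) → Fin k) F)
    (b c : Fin k → F) : blk π (adj (powS π (t + 1)) N) c b = -adj (powS π t) (blk π N b c) := by
  let p : Fin k → F := Pi.single ⟨0, hk⟩ 1
  have hp : p ≠ 0 := fun e => by simpa [p] using congrFun e ⟨0, hk⟩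
  refine kz_cancel (rk_self_ne_zero π hp) ?_
  have h := congrArg (adj (powS π (t + 1))) (kk_sandwich (π := π) p b c p N)
  rw [adj_mul, adj_mul, adj_kk' hπ, adj_kk' hπ, adj_kz, hπ.adj_rk'] at h
  rw [← kk_sandwich, kz_neg_right]
  rw [show -rk π p p = (-1 : F) • rk π p p by simp, kz_smul_left, neg_one_smul] at h
  rw [← h]
  simp [mul_assoc]

theorem kz_neg_left (A : Matrix (Fin k) (Fin k) F) (Z : Matrix (Fin t → Fin k) (Fin t → Fin k) F) :
    kz (-A) Z = -kz A Z := by
  rw [← neg_one_smul F A, kz_smul_left, neg_one_smul]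

theorem kz_cancel_left' {Z : Matrix (Fin t → Fin k) (Fin t → Fin k) F} (hZ : Z ≠ 0)
    {A B : Matrix (Fin k) (Fin k) F} (h : kz A Z = kz B Z) : A = B := by
  ext i j
  have h1 := congrArg (fun X => zblk X i j) h
  simp only [zblk_kz] at h1
  exact smul_left_injective F hZ h1

theorem kz_sum_left {κ : Type*} (s : Finset κ) (A : κ → Matrix (Fin k) (Fin k) F)
    (Z : Matrix (Fin t → Fin k) (Fin t → Fin k) F) : kz (∑ i ∈ s, A i) Z = ∑ i ∈ s, kz (A i) Z := by
  classical
  induction s using Finset.induction with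
  | empty => rw [Finset.sum_empty, Finset.sum_empty, kz_zero_left]
  | insert i s hi ih => rw [Finset.sum_insert hi, Finset.sum_insert hi, kz_add_left, ih]

theorem rk_sum_left {κ : Type*} (s : Finset κ) (v : κ → Fin k → F) (q : Fin k → F) :
    rk π (∑ i ∈ s, v i) q = ∑ i ∈ s, rk π (v i) q := by
  classical
  induction s using Finset.induction with
  | empty => rw [Finset.sum_empty, Finset.sum_empty, rk_zero_left]
  | insert i s hi ih => rw [Finset.sum_insert hi, Finset.sum_insert hi, rk_add_left, ih]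

theorem rk_sum_right {κ : Type*} (s : Finset κ) (v : κ → Fin k → F) (q : Fin k → F) :
    rk π q (∑ i ∈ s, v i) = ∑ i ∈ s, rk π q (v i) := by
  classical
  induction s using Finset.induction with
  | empty => rw [Finset.sum_empty, Finset.sum_empty, rk_zero_right]
  | insert i s hi ih => rw [Finset.sum_insert hi, Finset.sum_insert hi, rk_add_right, ih]

theorem one_eq_sum_kk :
    (1 : Matrix (Fin (t + 1) → Fin k) (Fin (t + 1) → Fin k) F) = ∑ c, kk π (Pi.single c 1) (dual π c) := by
  simp only [kk]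
  rw [← kz_sum_left, ← one_eq_sum_rk, kz_one]

/-- An element times a rank one map of the first slot, block by block. -/
theorem mul_kk_expand (N : Matrix (Fin (t + 1) → Fin k) (Fin (t + 1) → Fin k) F) (v q : Fin k → F) :
    N * kk π v q = ∑ c, kz (rk π (Pi.single c 1) q) (blk π N (dual π c) v) := by
  conv_lhs => rw [← one_mul N, one_eq_sum_kk (π := π), Finset.sum_mul, Finset.sum_mul]
  exact Finset.sum_congr rfl fun c _ => kk_sandwich _ _ _ _ _

theorem blk_add_left (N : Matrix (Fin (t + 1) → Fin k) (Fin (t + 1) → Fin k) F) (b b' c : Fin k → F) :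
    blk π N (b + b') c = blk π N b c + blk π N b' c := by
  simp only [blk, cv_add, Pi.add_apply, add_mul, add_smul, Finset.sum_add_distrib]

/-- The isometries of one slot lie in `H`. -/
theorem kzU_one_mem (hπ : Alt0 π) (hM : HasRoots π H) {g : GL (Fin k) F} (hg : g ∈ U π) :
    kzU g (1 : GL (Fin t → Fin k) F) ∈ H := by
  let K : Subgroup (GL (Fin k) F) :=
    H.comap (MonoidHom.mk' (fun A => kzU A (1 : GL (Fin t → Fin k) F)) fun A C => by rw [kzU_mul, one_mul])
  refine (isom_le_of_st_mem hπ.form (M := K) fun v c => ?_) hg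
  show kzU (st (bf π) v c) 1 ∈ H
  rw [show kzU (st (bf π) v c) (1 : GL (Fin t → Fin k) F) = sRoot π 0 v c from Units.ext (by
    rw [kzU_coe, sRoot, slotU_coe, slot_zero_eq_kz, Units.val_one])]
  exact hM 0 v c

/-- The middle radical element with scalar block. -/
theorem exists_yel_one (hπ : Alt0 π) (hM : HasRoots π H) {u v : Fin k → F} (huv : bf π u v = 0) :
    ∃ g ∈ H, g.val = 1 + yel π u v (1 : Matrix (Fin t → Fin k) (Fin t → Fin k) F) := by
  set Q := rk π u v + rk π v u with hQ
  have hvu : bf π v u = 0 := bf_eq_zero_comm π huv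
  have hQQ : Q * Q = 0 := by
    simp only [hQ, mul_add, add_mul, rk_mul, huv, hvu, hπ.self, zero_smul, add_zero]
  let q : GL (Fin k) F := ⟨1 + Q, 1 - Q,
    by rw [mul_sub, mul_one, add_mul, one_mul, hQQ, add_zero, add_sub_cancel_right],
    by rw [mul_add, mul_one, sub_mul, one_mul, hQQ, sub_zero, sub_add_cancel]⟩
  have hqU : q ∈ U π := by
    rw [mem_U_iff]
    show adj π (1 + Q) * (1 + Q) = 1
    rw [adj_add, adj_one, show adj π Q = -Q by rw [hQ, adj_add, hπ.adj_rk', hπ.adj_rk']; abel]
    simp only [add_mul, mul_add, one_mul, mul_one, neg_mul, hQQ]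
    abel
  refine ⟨kzU q 1, kzU_one_mem hπ hM hqU, ?_⟩
  rw [kzU_coe, Units.val_one, show (q : Matrix (Fin k) (Fin k) F) = 1 + Q from rfl, kz_add_left, kz_one, yel,
    adj_one, ← kz_add_left]

/-- The blocks on the line and its radical. -/
theorem line_edge' (hπ : Alt0 π) (hk : 0 < k) {o w : Fin k → F} (how : bf π o w = 1)
    {s : GL (Fin (t + 1) → Fin k) F} (hU : s ∈ U (powS π (t + 1)))
    (hc : s.val * kk π o o = kk π o o * s.val) :
    ∃ a : GL (Fin t → Fin k) F, a ∈ U (powS π t) ∧ (∀ q, s.val * kk π o q = kz (rk π o q) a.val) ∧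
      (∀ q, kk π q o * s.val = kz (rk π q o) a.val) ∧
      (∀ q, (s⁻¹).val * kk π o q = kz (rk π o q) (a⁻¹).val) ∧
      ∀ q, kk π q o * (s⁻¹).val = kz (rk π q o) (a⁻¹).val := by
  have ho : o ≠ 0 := fun e => by rw [e, bf_zero_left] at how; exact zero_ne_one how
  have hwo : bf π w o = -1 := by rw [hπ.skew, how]
  have edge : ∀ s : GL (Fin (t + 1) → Fin k) F, s.val * kk π o o = kk π o o * s.val →
      (∀ q, s.val * kk π o q = kz (rk π o q) (blk π s.val w o)) ∧
      (∀ q, kk π q o * s.val = kz (rk π q o) (blk π s.val w o)) ∧ blk π s.val o w = -blk π s.val w o := by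
    intro h hc
    have hL : ∀ q, kk π q o * h.val = kz (rk π q o) (blk π h.val w o) := fun q => by
      rw [show kk π q o = kk π q w * kk π o o by rw [kk_mul, how, one_smul], mul_assoc, ← hc, ← mul_assoc, kk_sandwich]
    have hR : ∀ q, h.val * kk π o q = kz (rk π o q) (-blk π h.val o w) := fun q => by
      rw [show kk π o q = -(kk π o o * kk π w q) by rw [kk_mul, hwo, neg_one_smul, neg_neg], mul_neg, ← mul_assoc, hc,
        kk_sandwich, kz_neg_right]
    have e : -blk π h.val o w = blk π h.val w o := kz_cancel (rk_self_ne_zero π ho) (by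
      rw [← hR, hc, hL])
    exact ⟨fun q => by rw [hR, e], hL, by rw [← e, neg_neg]⟩
  have hc' : (s⁻¹).val * kk π o o = kk π o o * (s⁻¹).val := by
    have := congrArg (fun X => (s⁻¹).val * X * (s⁻¹).val) hc
    simpa [mul_assoc] using this.symm
  obtain ⟨hR, hL, hop⟩ := edge s hc
  obtain ⟨hR', hL', -⟩ := edge s⁻¹ hc'
  have hi : blk π (s⁻¹).val w o = adj (powS π t) (blk π s.val w o) := by
    rw [inv_eq_adj _ hU, blk_adj' hπ hk, hop, adj_neg, neg_neg]
  have haa : blk π s.val w o * blk π (s⁻¹).val w o = 1 := by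
    refine kz_cancel (rk_self_ne_zero π ho) ?_
    show _ = kk π o o
    calc kz (rk π o o) (blk π s.val w o * blk π (s⁻¹).val w o)
        = kz 1 (blk π s.val w o) * (kk π o o * (s⁻¹).val) := by rw [hL', kz_mul, one_mul]
      _ = (s.val * kk π o o) * (s⁻¹).val := by rw [hR, ← mul_assoc, kk, kz_mul, one_mul, mul_one]
      _ = kk π o o := by rw [hc, mul_assoc, Units.mul_inv, mul_one]
  let a : GL (Fin t → Fin k) F := ⟨blk π s.val w o, blk π (s⁻¹).val w o, haa, mul_eq_one_comm.mp haa⟩
  refine ⟨a, (mem_U_iff _).mpr ?_, hR, hL, hR', hL'⟩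
  show adj (powS π t) (blk π s.val w o) * blk π s.val w o = 1
  rw [← hi]
  exact mul_eq_one_comm.mp haa

/-- A centraliser of a slot root gives a radical element, or lives in the two parts. -/
theorem wit_or_factor (hπ : Alt0 π) (hk : 3 ≤ k) (hH : H ≤ U (powS π (t + 1))) (hM : HasRoots π H)
    {o : Fin k → F} (ho : o ≠ 0) {s : GL (Fin (t + 1) → Fin k) F} (hs : s ∈ H)
    (hc : s.val * kk π o o = kk π o o * s.val) :
    Wit π H ∨ ∃ (L : GL (Fin k) F) (a : GL (Fin t → Fin k) F), L ∈ U π ∧ a ∈ U (powS π t) ∧ kzU 1 a ∈ H ∧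
      s = kzU L a := by
  classical
  by_cases hwit : Wit π H
  · exact Or.inl hwit
  have hk0 : 0 < k := by omega
  obtain ⟨w, how⟩ := exists_right_eq_one π ho
  have hwo : bf π w o = -1 := by rw [hπ.skew, how]
  obtain ⟨a, haU, hR, hL, hR', hL'⟩ := line_edge' hπ hk0 how (hH hs) hc
  have hai : (a⁻¹).val = adj (powS π t) a.val := inv_eq_adj _ haU
  have hsc : ∀ {v : Fin k → F} (h : GL (Fin (t + 1) → Fin k) F) X, bf π v o = 0 → (∀ c : F, v ≠ c • o) → h ∈ H →
      (h.val - 1) * kk π v v = kz (rk π o v) X → ∃ c : F, X = c • 1 := by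
    intro v h X hv hind hh e
    by_contra hX
    push Not at hX
    exact hwit ⟨o, v, h, X, ho, hv, hind, hh, hX, e⟩
  -- the middle blocks
  have hmid : ∀ (s : GL (Fin (t + 1) → Fin k) F) (a : GL (Fin t → Fin k) F), s ∈ H →
      (∀ q, kk π q o * s.val = kz (rk π q o) a.val) →
      (∀ q, (s⁻¹).val * kk π o q = kz (rk π o q) (a⁻¹).val) →
      (∀ q, s.val * kk π o q = kz (rk π o q) a.val) →
      ∀ u v, bf π u o = 0 → bf π v o = 0 → ∃ c : F, blk π s.val u v = c • a.val := by
    intro s a hs hL hR' hR u v hu hv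
    by_cases hind : ∃ c : F, v = c • o
    · obtain ⟨c, rfl⟩ := hind
      refine ⟨c * bf π o u, kz_cancel (rk_self_ne_zero π ho) ?_⟩
      rw [← kk_sandwich (π := π) o u (c • o) o s.val, mul_assoc,
        show kk π (c • o) o = c • (kk π o o : Matrix (Fin (t + 1) → Fin k) (Fin (t + 1) → Fin k) F) by
          rw [kk, kk, rk_smul_left, kz_smul_left],
        mul_smul_comm, hR, mul_smul_comm, kk, kz_mul, rk_mul, one_mul, kz_smul_left, kz_smul_right, smul_smul]
    push Not at hind
    obtain ⟨g, hg, eg⟩ := exists_yel_one hπ hM (show bf π o u = 0 from bf_eq_zero_comm π hu)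
    obtain ⟨c, hc⟩ := hsc (s⁻¹ * g * s) ((a⁻¹).val * blk π s.val u v) hv hind
      (mul_mem (mul_mem (inv_mem hs) hg) hs) (by
        rw [Units.val_mul, Units.val_mul, eg, mul_add, mul_one, add_mul, Units.inv_mul, add_sub_cancel_left,
          yel, adj_one, mul_add, add_mul, add_mul, ← kk, ← kk, mul_assoc (s⁻¹).val (kk π u o) s.val, hL,
          mul_assoc (s⁻¹).val (kz _ _), show kz (rk π u o) a.val * kk π v v = 0 by
            rw [kk, kz_mul, rk_mul, hv, zero_smul, kz_zero_left],
          mul_zero, add_zero, mul_assoc (s⁻¹).val, mul_assoc (s⁻¹).val, kk_sandwich, kz_mul_kk, ← mul_assoc, hR',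
          kz_mul, mul_one])
    refine ⟨c, ?_⟩
    have h1 := congrArg (a.val * ·) hc
    simp only [← mul_assoc, Units.mul_inv, one_mul, mul_smul_comm, mul_one] at h1
    exact h1
  -- columns
  have hcol : ∀ (s : GL (Fin (t + 1) → Fin k) F) (a : GL (Fin t → Fin k) F) (v : Fin k → F),
      (∀ u, bf π u o = 0 → ∃ c : F, blk π s.val u v = c • a.val) →
      ∃ (m : Fin k → F) (P : Matrix (Fin t → Fin k) (Fin t → Fin k) F),
        ∀ q, s.val * kk π v q = kz (rk π m q) a.val + kz (rk π o q) P := by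
    intro s a v hblk
    have hu : ∀ j, bf π (dual π j - bf π o (dual π j) • w) o = 0 := fun j => by
      rw [bf_sub_left, bf_smul_left, hwo, hπ.skew (dual π j) o]; ring
    choose c hc using fun j => hblk _ (hu j)
    refine ⟨∑ j, c j • Pi.single j 1, blk π s.val w v, fun q => ?_⟩
    have ho' : o = ∑ j, bf π o (dual π j) • (Pi.single j 1 : Fin k → F) := by
      conv_lhs => rw [pi_eq_sum_univ' o]
      refine Finset.sum_congr rfl fun j _ => ?_
      rw [bf, cv_dual, single_dotProduct, one_mul]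
    conv_rhs => rw [show rk π o q = rk π (∑ j, bf π o (dual π j) • (Pi.single j 1 : Fin k → F)) q from
      congrArg (fun z => rk π z q) ho']
    rw [mul_kk_expand, rk_sum_left, rk_sum_left, kz_sum_left, kz_sum_left, ← Finset.sum_add_distrib]
    refine Finset.sum_congr rfl fun j _ => ?_
    conv_lhs => rw [show dual π j = (dual π j - bf π o (dual π j) • w) + bf π o (dual π j) • w from
      (sub_add_cancel _ _).symm, blk_add_left, blk_smul_left, hc]
    rw [kz_add_right, rk_smul_left, rk_smul_left, kz_smul_left, kz_smul_left, kz_smul_right, kz_smul_right]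
  -- the columns of the middle are pure
  have hpure : ∀ (s : GL (Fin (t + 1) → Fin k) F) (a : GL (Fin t → Fin k) F), s ∈ H → a ∈ U (powS π t) →
      (∀ q, kk π q o * s.val = kz (rk π q o) a.val) →
      (∀ q, (s⁻¹).val * kk π o q = kz (rk π o q) (a⁻¹).val) →
      (∀ q, s.val * kk π o q = kz (rk π o q) a.val) →
      ∀ y, bf π y o = 0 → ∃ m, ∀ q, s.val * kk π y q = kz (rk π m q) a.val := by
    intro s a hs haU hL hR' hR y hy
    by_cases hind : ∃ c : F, y = c • o
    · obtain ⟨c, rfl⟩ := hind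
      exact ⟨c • o, fun q => by rw [kk, rk_smul_left, kz_smul_left, mul_smul_comm, ← kk, hR, kz_smul_left]⟩
    push Not at hind
    obtain ⟨v', hyv, hov'⟩ := exists_dual hπ ho hind
    set v := -v'
    have hvy : bf π v y = 1 := by rw [bf_neg_left, hπ.skew, hyv, neg_neg]
    have hvo : bf π v o = 0 := by rw [bf_neg_left, bf_eq_zero_comm π hov', neg_zero]
    have hvind : ∀ c : F, v ≠ c • o := fun c e => by
      rw [e, bf_smul_left, bf_eq_zero_comm π hy, mul_zero] at hvy
      exact zero_ne_one hvy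
    obtain ⟨my, Py, hAy⟩ := hcol s a y fun u hu => hmid s a hs hL hR' hR u y hu hy
    obtain ⟨mv, Pv, hAv⟩ := hcol s a v fun u hu => hmid s a hs hL hR' hR u v hu hvo
    have ha0 : a.val ≠ 0 := fun e => by
      have := Units.mul_inv a
      rw [e, zero_mul] at this
      haveI hne : Nonempty (Fin k) := ⟨⟨0, hk0⟩⟩
      exact zero_ne_one this
    have hperp : ∀ z m P, bf π z o = 0 → (∀ q, s.val * kk π z q = kz (rk π m q) a.val + kz (rk π o q) P) →
        bf π m o = 0 := by
      intro z m P hz hA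
      have h1 : kk π o o * (s.val * kk π z o) = 0 := by
        rw [← mul_assoc, hL, kk, kz_mul, rk_mul, hz, zero_smul, kz_zero_left]
      rw [hA, mul_add, kk, kz_mul, kz_mul, rk_mul, rk_mul, hπ.self, zero_smul, kz_zero_left, add_zero, one_mul,
        kz_smul_left] at h1
      refine (smul_eq_zero.mp h1).resolve_right fun e => rk_self_ne_zero π ho (kz_cancel_left' ha0 ?_)
      rw [e, kz_zero_left]
    have hmy := hperp y my Py hy hAy
    have hmv := hperp v mv Pv hvo hAv
    have hf : bf π mv my = 1 := by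
      have h1 : adj (powS π (t + 1)) (s.val * kk π y o) * (s.val * kk π v o) =
          -(kk π o y * kk π v o) := by
        rw [adj_mul, adj_kk' hπ, ← mul_assoc, mul_assoc _ _ s.val, (mem_U_iff _).mp (hH hs), mul_one, neg_mul]
      rw [hAy, hAv, kk_mul, hvy, one_smul, adj_add, adj_kz, adj_kz, hπ.adj_rk', hπ.adj_rk', kz_neg_left,
        kz_neg_left] at h1
      simp only [add_mul, mul_add, neg_mul, kz_mul, rk_mul, hmv, bf_eq_zero_comm π hmy, hπ.self, zero_smul,
        kz_zero_left, neg_zero, add_zero, (mem_U_iff _).mp haU, kk, neg_inj, kz_smul_left] at h1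
      have h2 : (bf π mv my - 1) • kz (rk π o o) (1 : Matrix (Fin t → Fin k) (Fin t → Fin k) F) = 0 := by
        rw [sub_smul, one_smul, h1, sub_self]
      refine sub_eq_zero.mp ((smul_eq_zero.mp h2).resolve_right fun e => rk_self_ne_zero π ho ?_)
      haveI : Nonempty (Fin k) := ⟨⟨0, hk0⟩⟩
      exact kz_cancel_left' one_ne_zero (e.trans (kz_zero_left _).symm)
    set T := sRoot π (0 : Fin (t + 1)) my 1
    set Ty := sRoot π (0 : Fin (t + 1)) y (-1)
    have hTv : T.val = 1 + kk π my my := by rw [sRoot_coe hπ, one_smul, slot_zero_eq_kz, kk]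
    have hTyv : Ty.val = 1 - kk π y y := by
      rw [sRoot_coe hπ, slot_zero_eq_kz, kk, neg_one_smul, sub_eq_add_neg]
    obtain ⟨c, hc⟩ := hsc (s⁻¹ * T * s * Ty) (-((a⁻¹).val * Py)) hvo hvind
      (mul_mem (mul_mem (mul_mem (inv_mem hs) (hM _ _ _)) hs) (hM _ _ _)) (by
        have e1 : Ty.val * kk π v v = kk π v v - kk π y v := by
          rw [hTyv, sub_mul, one_mul, kk_mul, hvy, one_smul]
        have e2 : T.val * (s.val * (kk π v v - kk π y v)) = s.val * kk π v v - kz (rk π o v) Py := by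
          rw [mul_sub, hAv, hAy, hTv]
          simp only [add_mul, mul_sub, mul_add, one_mul, kk, kz_mul, rk_mul, hf, hπ.self,
            bf_eq_zero_comm π hmy, zero_smul, one_smul, kz_zero_left, add_zero, sub_zero]
          abel
        rw [sub_mul, one_mul, Units.val_mul, Units.val_mul, Units.val_mul, mul_assoc, e1, mul_assoc, mul_assoc,
          e2, mul_sub, ← mul_assoc, Units.inv_mul, one_mul, sub_sub_cancel_left, kz_mul_kk, ← mul_assoc, hR',
          kz_mul, mul_one, kz_neg_right])
    refine ⟨my + (-c) • o, fun q => ?_⟩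
    have hP : Py = (-c) • a.val := by
      have h1 := congrArg (a.val * ·) hc
      simp only [mul_neg, ← mul_assoc, Units.mul_inv, one_mul, mul_smul_comm, mul_one] at h1
      rw [neg_smul, ← h1, neg_neg]
    rw [hAy, hP, rk_add_left, rk_smul_left, kz_add_left, kz_smul_left, kz_smul_right]
  -- the column of the partner
  obtain ⟨mw, Pw, hAw⟩ := hcol s a w fun x hx => by
    obtain ⟨m', hm'⟩ := hpure s⁻¹ a⁻¹ (inv_mem hs) (inv_mem haU) hL' (by rw [inv_inv, inv_inv]; exact hR) hR' x hx
    refine ⟨-bf π m' w, ?_⟩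
    have h1 : blk π (s⁻¹).val w x = bf π m' w • (a⁻¹).val := kz_cancel (rk_self_ne_zero π ho) (by
      rw [← kk_sandwich, mul_assoc, hm', kk, kz_mul, rk_mul, one_mul, kz_smul_left, kz_smul_right])
    have h2 := blk_adj' hπ hk0 (s⁻¹).val w x
    rw [← inv_eq_adj _ (inv_mem (hH hs)), inv_inv, h1, hai, adj_smul, adj_adj] at h2
    rw [h2, neg_smul]
  choose mf hmf using hpure s a hs haU hL hR' hR
  have hdec : ∀ j, bf π ((Pi.single j 1 : Fin k → F) - bf π o (Pi.single j 1) • w) o = 0 := fun j => by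
    rw [bf_sub_left, bf_smul_left, hwo, hπ.skew (Pi.single j 1) o]; ring
  set Lm : Matrix (Fin k) (Fin k) F :=
    ∑ j, rk π (mf _ (hdec j) + bf π o (Pi.single j 1) • mw) (dual π j) with hLm
  set E := rk π o o with hE
  have hs0 : s.val = kz Lm a.val + kz E (-Pw) := by
    have ho' : ∑ j, bf π o (Pi.single j 1) • dual π j = -o := by
      conv_rhs => rw [sum_dual (π := π) o, ← Finset.sum_neg_distrib]
      exact Finset.sum_congr rfl fun j _ => by rw [hπ.skew o, neg_smul]
    calc s.val = ∑ j, s.val * kk π (Pi.single j 1) (dual π j) := by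
          rw [← Finset.mul_sum, ← one_eq_sum_kk, mul_one]
      _ = ∑ j, (kz (rk π (mf _ (hdec j) + bf π o (Pi.single j 1) • mw) (dual π j)) a.val +
            kz (rk π o (bf π o (Pi.single j 1) • dual π j)) Pw) := by
          refine Finset.sum_congr rfl fun j _ => ?_
          conv_lhs => rw [show (Pi.single j 1 : Fin k → F) =
            ((Pi.single j 1 : Fin k → F) - bf π o (Pi.single j 1) • w) + bf π o (Pi.single j 1) • w from
              (sub_add_cancel _ _).symm]
          rw [kk, rk_add_left, kz_add_left, mul_add, ← kk, hmf _ (hdec j), rk_smul_left, kz_smul_left, mul_smul_comm,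
            ← kk, hAw, rk_add_left, kz_add_left, rk_smul_left, kz_smul_left, rk_smul_right, kz_smul_left, smul_add]
          abel
      _ = _ := by
          rw [Finset.sum_add_distrib, ← kz_sum_left, ← kz_sum_left, ← rk_sum_right, ho', kz_neg_right, hE,
            ← neg_one_smul F o, rk_smul_right, kz_smul_left, neg_one_smul, hLm]
  have hEE : E * E = 0 := hπ.rk_sq o
  have ha0 : a.val ≠ 0 := fun e => by
    have := Units.mul_inv a
    rw [e, zero_mul] at this
    haveI hne : Nonempty (Fin k) := ⟨⟨0, hk0⟩⟩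
    exact zero_ne_one this
  have hLE : Lm * E = E := kz_cancel_left' ha0 (by
    have := hR o
    rwa [hs0, kk, ← hE, add_mul, kz_mul, kz_mul, hEE, kz_zero_left, mul_one, add_zero] at this)
  have hEL : E * Lm = E := kz_cancel_left' ha0 (by
    have := hL o
    rwa [hs0, kk, ← hE, mul_add, kz_mul, kz_mul, hEE, kz_zero_left, one_mul, add_zero] at this)
  have hadjE : adj π E = -E := hπ.adj_rk' o o
  have hadjLE : adj π Lm * E = E := by
    have := congrArg (adj π) hEL
    rwa [adj_mul, hadjE, mul_neg, neg_inj] at this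
  set σ := (a⁻¹).val * (-Pw) with hσ
  have haσ : a.val * σ = -Pw := by rw [hσ, Units.mul_inv_cancel_left]
  -- the isometry of the first slot
  have hLL : adj π Lm * Lm = 1 := by
    have h1 := (mem_U_iff _).mp (hH hs)
    rw [hs0, ← haσ, adj_add, adj_kz, adj_kz, hadjE, adj_mul] at h1
    simp only [add_mul, mul_add, kz_mul, neg_mul, hadjLE, hEL, hEE, neg_zero, kz_zero_left, add_zero,
      (mem_U_iff _).mp haU, mul_assoc] at h1
    rw [← mul_assoc (adj (powS π t) a.val), (mem_U_iff _).mp haU, one_mul] at h1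
    set M := adj π Lm * Lm - 1
    have h2 : kz M (1 : Matrix (Fin t → Fin k) (Fin t → Fin k) F) = kz E (adj (powS π t) σ - σ) := by
      have h3 : kz M (1 : Matrix (Fin t → Fin k) (Fin t → Fin k) F) + kz 1 1 = kz (adj π Lm * Lm) 1 := by
        rw [← kz_add_left, sub_add_cancel]
      rw [eq_sub_of_add_eq h3, kz_one, sub_eq_add_neg (adj (powS π t) σ), kz_add_right, kz_neg_right]
      simp only [kz_neg_left, mul_one] at h1
      linear_combination (norm := abel) h1
    obtain ⟨i, j, hij⟩ : ∃ i j, E i j ≠ 0 := by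
      by_contra hc; push Not at hc; exact rk_self_ne_zero π ho (Matrix.ext hc)
    have hD : adj (powS π t) σ - σ = ((E i j)⁻¹ * M i j) • 1 := by
      have h3 := congrArg (fun X => zblk X i j) h2
      simp only [zblk_kz] at h3
      rw [← smul_smul, h3, inv_smul_smul₀ hij]
    have hMd : M = ((E i j)⁻¹ * M i j) • E := by
      haveI : Nonempty (Fin k) := ⟨⟨0, hk0⟩⟩
      exact kz_cancel_left' one_ne_zero (by rw [h2, hD, kz_smul_right, kz_smul_left])
    have h4 : bf π (M *ᵥ w) w = 0 := by
      rw [sub_mulVec, one_mulVec, bf_sub_left, hπ.self, sub_zero, ← mulVec_mulVec, adj_mulVec, adj_adj, hπ.self]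
    rw [hMd, smul_mulVec, rk_mulVec, bf_smul_left, bf_smul_left, hwo, how] at h4
    rw [← sub_eq_zero, show adj π Lm * Lm - 1 = M from rfl, hMd,
      show (E i j)⁻¹ * M i j = 0 by linear_combination -h4, zero_smul]
  let L : GL (Fin k) F := ⟨Lm, adj π Lm, mul_eq_one_comm.mp hLL, hLL⟩
  have hLU : L ∈ U π := (mem_U_iff π).mpr hLL
  have hsfac : s.val = (kzU L a).val * (1 + kz E σ) := by
    rw [kzU_coe, mul_add, mul_one, kz_mul, show (L : Matrix (Fin k) (Fin k) F) = Lm from rfl, hLE, haσ]
    exact hs0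
  -- the top is scalar
  obtain ⟨c, hc⟩ : ∃ c : F, σ = c • 1 := by
    obtain ⟨c0', hc0, hc0i⟩ : ∃ c0, bf π c0 o = 0 ∧ ∀ c : F, c0 ≠ c • o := by
      let f : (Fin k → F) →ₗ[F] F :=
        { toFun := fun x => bf π x o
          map_add' := fun a b => bf_add_left π _ _ _
          map_smul' := fun c a => bf_smul_left π _ _ _ }
      by_contra hcon
      push Not at hcon
      have hle : LinearMap.ker f ≤ Submodule.span F {o} := fun x hx => by
        obtain ⟨c, rfl⟩ := hcon x hx
        exact Submodule.smul_mem _ _ (Submodule.mem_span_singleton_self o)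
      have h1 := (Submodule.finrank_mono hle).trans (le_of_eq (finrank_span_singleton ho))
      have h2 := f.finrank_range_add_finrank_ker
      have h3 : Module.finrank F (LinearMap.range f) ≤ 1 :=
        (Submodule.finrank_le _).trans (le_of_eq (Module.finrank_self F))
      rw [Module.finrank_fin_fun] at h2
      omega
    obtain ⟨c1, hc01, ho1⟩ := exists_dual hπ ho hc0i
    have hne0 : c0' ≠ 0 := fun e => hc0i 0 (by rw [e, zero_smul])
    obtain ⟨κ, hκ, hκo⟩ := exists_map hπ ho hne0
    have ho0 : bf π o c0' = 0 := bf_eq_zero_comm π hc0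
    have h1o : bf π c1 o = 0 := bf_eq_zero_comm π ho1
    have h10 : bf π c1 c0' = -1 := by rw [hπ.skew, hc01]
    set u := (kzU L a)⁻¹ * s with hu
    have huv : u.val = 1 + kz E σ := by rw [hu, Units.val_mul, hsfac, Units.inv_mul_cancel_left]
    have hui : (u⁻¹).val = 1 - kz E σ := left_inv_eq_right_inv (Units.inv_mul u) (by
      rw [huv, mul_sub, mul_one, add_mul, one_mul, kz_mul, hEE, kz_zero_left, add_zero, add_sub_cancel_right])
    have hrel : s⁻¹ * kzU (L * κ * L⁻¹) 1 * s = u⁻¹ * kzU κ 1 * u := by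
      have e : kzU (L * κ * L⁻¹) (1 : GL (Fin t → Fin k) F) = kzU L a * kzU κ 1 * (kzU L a)⁻¹ := by
        rw [eq_mul_inv_iff_mul_eq, kzU_mul, kzU_mul, inv_mul_cancel_right, one_mul, mul_one]
      rw [e, hu]
      group
    set g := u⁻¹ * kzU κ 1 * u * (kzU κ 1)⁻¹ with hg
    have hgH : g ∈ H := by
      rw [hg, ← hrel]
      exact mul_mem (mul_mem (mul_mem (inv_mem hs)
        (kzU_one_mem hπ hM (mul_mem (mul_mem hLU hκ) (inv_mem hLU)))) hs) (inv_mem (kzU_one_mem hπ hM hκ))
    have hconj : (kzU κ (1 : GL (Fin t → Fin k) F) * u * (kzU κ 1)⁻¹).val = 1 + kz (rk π c0' c0') σ := by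
      rw [Units.val_mul, Units.val_mul, huv, conj_kzU, hE, conj_rk π hκ, hκo]
      simp [conjHom_apply]
    set G := kz (rk π c0' c0') σ - kz E σ with hG
    have hgv : g.val = 1 + G := by
      rw [hg, show u⁻¹ * kzU κ 1 * u * (kzU κ 1)⁻¹ = u⁻¹ * (kzU κ 1 * u * (kzU κ 1)⁻¹) by group, Units.val_mul,
        hconj, hui, hG]
      simp only [sub_mul, mul_add, mul_one, one_mul, kz_mul, hE, rk_mul, hc0, zero_smul, kz_zero_left]
      abel
    have hgi : (g⁻¹).val = 1 - G := left_inv_eq_right_inv (Units.inv_mul g) (by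
      rw [hgv, hG]
      simp only [mul_sub, add_mul, sub_mul, mul_one, one_mul, kz_mul, hE, rk_mul, hπ.self, hc0, ho0, zero_smul,
        kz_zero_left]
      abel)
    obtain ⟨m, hmH, hm⟩ := exists_yel_one hπ hM ho1
    exact hsc (g * m * g⁻¹) σ h1o (fun c e => by
        rw [e, bf_smul_left, ho0, mul_zero] at h10
        exact zero_ne_one (neg_eq_zero.mp h10.symm).symm)
      (mul_mem (mul_mem hgH hmH) (inv_mem hgH)) (by
        rw [Units.val_mul, Units.val_mul, hm, mul_add, mul_one, add_mul, Units.mul_inv, add_sub_cancel_left, hgv,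
          hgi, hG, hE, yel, adj_one]
        simp only [add_mul, mul_add, sub_mul, mul_sub, one_mul, mul_one, kk, kz_mul, rk_mul, smul_mul_assoc,
          hc0, ho0, h1o, ho1, hc01, h10, hπ.self, zero_smul, one_smul, smul_zero, smul_smul, kz_zero_left, zero_mul,
          mul_neg, neg_mul, neg_smul, neg_neg, kz_neg_left, sub_zero, zero_sub, add_zero, zero_add, neg_zero])
  refine Or.inr ⟨L * st (bf π) o c, a, mul_mem hLU (st_mem_isom hπ.form o c), haU, ?_, ?_⟩
  · have e : kzU 1 a = (kzU (L * st (bf π) o c) (1 : GL (Fin t → Fin k) F))⁻¹ * s := by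
      refine eq_inv_mul_of_mul_eq ?_
      rw [kzU_mul, mul_one, one_mul]
      refine Units.ext ?_
      rw [hsfac, hc, kzU_coe, kzU_coe, Units.val_mul, st_coe hπ]
      simp only [mul_add, mul_one, kz_add_left, kz_mul, mul_smul_comm, kz_smul_left, kz_smul_right, hE]
    rw [e]
    exact mul_mem (inv_mem (kzU_one_mem hπ hM (mul_mem hLU (st_mem_isom hπ.form o c)))) hs
  · refine Units.ext ?_
    rw [hsfac, hc, kzU_coe, kzU_coe, Units.val_mul, st_coe hπ]
    simp only [mul_add, mul_one, kz_add_left, kz_mul, mul_smul_comm, kz_smul_left, kz_smul_right, hE]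

end Cfsg.Agent.WreathP
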