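import Cfsg.Agent.WreathP.Rad
import Cfsg.Agent.WreathP.Moves
import Cfsg.Agent.WreathS.Main

/-!
An overgroup outside the stabiliser has, after a permutation of the slots, a radical shape of the first slot
whose block is not scalar (helper56).
-/

set_option autoImplicit false
set_option linter.unusedSectionVars false

namespace Cfsg.Agent.WreathP

open Matrix Cfsg.Agent.MaxSub Cfsg.Agent.MaxSub.Asch Cfsg.Agent.FG75.SpinTensor Cfsg.Agent.WreathMax Cfsg.Agent.WreathS

variable {F : Type*} [Field F] {k t : ℕ} {π : Sgn F (Fin k)}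

/-! ### Permutations of the slots -/

theorem factorPerm_inv (σ : Equiv.Perm (Fin t)) :
    (factorPerm σ : GL (Fin t → Fin k) F)⁻¹ = factorPerm σ⁻¹ :=
  inv_eq_of_mul_eq_one_right (by rw [factorPerm_mul, mul_inv_cancel, factorPerm_one])

theorem conj_factorPerm_apply (σ : Equiv.Perm (Fin t)) (M : Matrix (Fin t → Fin k) (Fin t → Fin k) F)
    (x y : Fin t → Fin k) : conjHom (factorPerm σ) M x y = M (x ∘ σ) (y ∘ σ) := by
  rw [conjHom_apply, factorPerm_inv]
  simp only [Matrix.mul_apply, factorPerm, Matrix.of_apply, ite_mul, one_mul, zero_mul, Finset.sum_ite_eq',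
    Finset.mem_univ, if_true, mul_ite, mul_one, mul_zero]
  rw [Finset.sum_eq_single (y ∘ σ)]
  · rw [if_pos (by funext i; simp [Function.comp])]
  · intro b _ hb
    rw [if_neg fun e => hb (by rw [e]; funext i; simp [Function.comp])]
  · simp

theorem conj_factorPerm_slot (σ : Equiv.Perm (Fin t)) (i : Fin t) (A : Matrix (Fin k) (Fin k) F) :
    conjHom (factorPerm σ) (slot i A) = slot (σ i) A := by
  rw [conjHom_apply, factorPerm_mul_slot, mul_assoc, Units.mul_inv, mul_one]

theorem conj_factorPerm_sRoot (hπ : Alt0 π) (σ : Equiv.Perm (Fin t)) (i : Fin t) (x : Fin k → F) (c : F) :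
    factorPerm σ * sRoot π i x c * (factorPerm σ)⁻¹ = sRoot π (σ i) x c := by
  refine Units.ext ?_
  rw [Units.val_mul, Units.val_mul, sRoot_coe hπ, sRoot_coe hπ, conj_one_add, ← conjHom_apply, map_smul,
    conj_factorPerm_slot]

/-- The conjugate of a subgroup by a permutation of the slots. -/
def cj (σ : Equiv.Perm (Fin t)) (H : Subgroup (GL (Fin t → Fin k) F)) : Subgroup (GL (Fin t → Fin k) F) :=
  H.map (MulAut.conj (factorPerm σ)).toMonoidHom

theorem mem_cj {σ : Equiv.Perm (Fin t)} {H : Subgroup (GL (Fin t → Fin k) F)} {g : GL (Fin t → Fin k) F} :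
    g ∈ cj σ H ↔ (factorPerm σ)⁻¹ * g * factorPerm σ ∈ H := by
  refine ⟨?_, fun h => ⟨_, h, ?_⟩⟩
  · rintro ⟨h, hh, rfl⟩
    simpa [mul_assoc] using hh
  · simp [mul_assoc]

theorem conj_mem_cj {σ : Equiv.Perm (Fin t)} {H : Subgroup (GL (Fin t → Fin k) F)} {g : GL (Fin t → Fin k) F}
    (hg : g ∈ H) : factorPerm σ * g * (factorPerm σ)⁻¹ ∈ cj σ H := ⟨g, hg, rfl⟩

theorem cj_cj (σ ρ : Equiv.Perm (Fin t)) (H : Subgroup (GL (Fin t → Fin k) F)) : cj σ (cj ρ H) = cj (σ * ρ) H := by
  ext g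
  rw [mem_cj, mem_cj, mem_cj, ← factorPerm_mul, _root_.mul_inv_rev]
  simp [mul_assoc]

theorem cj_le_U {σ : Equiv.Perm (Fin t)} {H : Subgroup (GL (Fin t → Fin k) F)} (hH : H ≤ U (powS π t)) :
    cj σ H ≤ U (powS π t) := by
  rintro _ ⟨g, hg, rfl⟩
  exact mul_mem (mul_mem (factorPerm_mem_U π σ) (hH hg)) (inv_mem (factorPerm_mem_U π σ))

theorem cj_hasRoots (hπ : Alt0 π) {σ : Equiv.Perm (Fin t)} {H : Subgroup (GL (Fin t → Fin k) F)}
    (hM : HasRoots π H) : HasRoots π (cj σ H) := fun i x c => by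
  rw [show i = σ (σ⁻¹ i) by simp, ← conj_factorPerm_sRoot hπ]
  exact conj_mem_cj (hM _ _ _)

theorem kzU_one_factorPerm (τ : Equiv.Perm (Fin t)) :
    kzU (1 : GL (Fin k) F) (factorPerm τ : GL (Fin t → Fin k) F) =
      factorPerm (Equiv.Perm.decomposeFin.symm (0, τ)) := by
  refine Units.ext (Matrix.ext fun x y => ?_)
  rw [kzU_coe, kz_apply, Units.val_one]
  simp only [factorPerm, Matrix.of_apply, Matrix.one_apply]
  set τ' := Equiv.Perm.decomposeFin.symm (0, τ) with hτ'
  have h0 : τ' 0 = 0 := by rw [hτ', Equiv.Perm.decomposeFin_symm_apply_zero]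
  have hs : ∀ i, τ' i.succ = (τ i).succ := fun i => by
    rw [hτ', Equiv.Perm.decomposeFin_symm_apply_succ, Equiv.swap_self, Equiv.refl_apply]
  have hiff : y = x ∘ τ' ↔ x 0 = y 0 ∧ Fin.tail y = Fin.tail x ∘ τ := by
    constructor
    · rintro rfl
      exact ⟨by simp [h0], funext fun i => by simp [Fin.tail, hs]⟩
    · rintro ⟨h, h'⟩
      funext i
      refine Fin.cases ?_ (fun j => ?_) i
      · simp [h0, h]
      · have := congrFun h' j
        simpa [Fin.tail, hs] using this
  by_cases h : y = x ∘ τ'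
  · obtain ⟨h1, h2⟩ := hiff.mp h
    rw [if_pos h, if_pos h1, if_pos h2, mul_one]
  · rw [if_neg h]
    by_cases h1 : x 0 = y 0
    · rw [if_neg fun h2 => h (hiff.mpr ⟨h1, h2⟩), mul_zero]
    · rw [if_neg h1, zero_mul]

theorem conj_swap_kz (A B : Matrix (Fin k) (Fin k) F) (Y : Matrix (Fin t → Fin k) (Fin t → Fin k) F) :
    conjHom (factorPerm (Equiv.swap (0 : Fin (t + 1 + 1)) 1)) (kz A (kz B Y)) = kz B (kz A Y) := by
  refine Matrix.ext fun x y => ?_
  have h1 : ∀ x : Fin (t + 1 + 1) → Fin k, Fin.tail (Fin.tail (x ∘ Equiv.swap (0 : Fin (t + 1 + 1)) 1)) =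
      Fin.tail (Fin.tail x) := fun x => funext fun i => by
    simp only [Fin.tail, Function.comp]
    rw [Equiv.swap_apply_of_ne_of_ne (Fin.succ_ne_zero _) fun e => Fin.succ_ne_zero i
      (Fin.succ_injective _ (e.trans (by rfl : (1 : Fin (t + 1 + 1)) = (0 : Fin (t + 1)).succ)))]
  rw [conj_factorPerm_apply, kz_apply, kz_apply, kz_apply, kz_apply, h1, h1]
  simp only [Fin.tail, Function.comp, Fin.succ_zero_eq_one, Equiv.swap_apply_left, Equiv.swap_apply_right]
  ring

variable [Finite F]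

/-- An element carrying the roots of all slots to slot roots lies in the stabiliser. -/
theorem mem_wreath_of_roots (hπ : Alt0 π) (hk : 2 ≤ k) {g : GL (Fin (t + 1) → Fin k) F} {x y : Fin k → F}
    (hx : x ≠ 0) (hy : y ≠ 0) {r : F} (hr : conjHom g (slot 0 (rk π y y)) = r • slot 0 (rk π x x))
    (hroot : ∀ (j : Fin t) z, z ≠ 0 → ∃ i B, conjHom g (slot j.succ (rk π z z)) = slot i B) :
    g ∈ Geo.tensorWreathStandard k (t + 1) F := by
  classical
  have hk0 : 0 < k := by omega
  have hr0 : r ≠ 0 := fun e => by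
    rw [e, zero_smul, ← map_zero (conjHom g)] at hr
    exact rk_self_ne_zero π hy (slot_injective hk0 0 ((conjHom_injective g hr).trans (slot_zero' 0).symm))
  have hcomm : ∀ (j : Fin t) M, slot (0 : Fin (t + 1)) (rk π x x) * conjHom g (slot j.succ M) =
      conjHom g (slot j.succ M) * slot (0 : Fin (t + 1)) (rk π x x) := fun j M => by
    have h := congrArg (conjHom g) (slot_comm (Fin.succ_ne_zero j).symm (rk π y y) M)
    rw [map_mul, map_mul, hr, smul_mul_assoc, mul_smul_comm] at h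
    exact smul_right_injective _ hr0 h
  choose τ hτ using fun j => range_of_roots' hπ hk0 (i := (Fin.succ j : Fin (t + 1))) (hroot j)
  have hτ0 : ∀ j, τ j ≠ 0 := fun j e => by
    obtain ⟨a, ha⟩ := exists_conj_of_range hk0 (hτ j)
    obtain ⟨c, hc⟩ := Matrix.mem_range_scalar_of_commute_single (M := rk π x x) fun u v _ => by
      have h := hcomm j (((a⁻¹ : GL (Fin k) F) : Matrix (Fin k) (Fin k) F) * Matrix.single u v 1 *
        (a : Matrix (Fin k) (Fin k) F))
      rw [ha, e, ← slot_mul', ← slot_mul'] at h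
      simp only [mul_assoc, Units.mul_inv, mul_one, Units.mul_inv_cancel_left] at h
      exact (slot_injective hk0 0 h).symm
    have h2 := hπ.rk_sq x
    haveI : Nonempty (Fin k) := ⟨⟨0, hk0⟩⟩
    rw [← hc, ← map_mul, ← map_zero (Matrix.scalar (Fin k))] at h2
    have hc0 : c = 0 := mul_self_eq_zero.mp (Matrix.scalar_inj.mp h2)
    exact rk_self_ne_zero π hx (by rw [← hc, hc0, map_zero])
  choose ρ hρ using fun j => Fin.exists_succ_eq.mpr (hτ0 j)
  have hρi : Function.Injective ρ := fun i i' e => by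
    by_contra hne
    refine target_injective hk (fun e' => hne (Fin.succ_injective _ e')) (hτ i) ?_
    rw [← hρ i, e, hρ i']
    exact hτ i'
  have hρs := (Finite.injective_iff_surjective.mp hρi)
  refine mem_wreath_of_ranges hk (Nat.succ_pos t) g (Fin.cons 0 τ) fun i M => ?_
  refine Fin.cases ?_ (fun j => ?_) i
  · rw [Fin.cons_zero]
    obtain ⟨A, hA⟩ := commute_slots_succ (X := conjHom g (slot 0 M)) fun j N => by
      obtain ⟨j', rfl⟩ := hρs j
      obtain ⟨a, ha⟩ := exists_conj_of_range hk0 (hτ j')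
      have e : slot (ρ j').succ N = conjHom g (slot j'.succ
          (((a⁻¹ : GL (Fin k) F) : Matrix (Fin k) (Fin k) F) * N * (a : Matrix (Fin k) (Fin k) F))) := by
        rw [ha, hρ]
        simp [mul_assoc]
      rw [e, ← map_mul, ← map_mul, slot_comm (Fin.succ_ne_zero j').symm]
    exact ⟨A, hA.symm⟩
  · rw [Fin.cons_succ]; exact hτ j M

variable {H : Subgroup (GL (Fin (t + 1) → Fin k) F)}

/-- Fusion gives a radical element or an element of the other slots outside the stabiliser. -/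
theorem wit_or_rest (hπ : Alt0 π) (hk : 4 ≤ k) (hH : H ≤ U (powS π (t + 1))) (hM : HasRoots π H)
    {g : GL (Fin (t + 1) → Fin k) F} (hg : g ∈ H) (hgW : g ∉ Geo.tensorWreathStandard k (t + 1) F)
    {j : Fin (t + 1)} {x y : Fin k → F} {c d : F} (hx : x ≠ 0) (hy : y ≠ 0) (hd : d ≠ 0)
    (e : g * sRoot π j y d * g⁻¹ = sRoot π 0 x c) :
    Wit π H ∨ ∃ a : GL (Fin t → Fin k) F, a ∈ U (powS π t) ∧ kzU 1 a ∈ H ∧
      a ∉ Geo.tensorWreathStandard k t F := by
  classical
  by_cases hs : ∃ l z, l ≠ j ∧ z ≠ 0 ∧ g * sRoot π l z 1 * g⁻¹ ∉ Geo.tensorWreathStandard k (t + 1) F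
  · obtain ⟨l, z, hlj, -, hsW⟩ := hs
    have hsH : g * sRoot π l z 1 * g⁻¹ ∈ H := mul_mem (mul_mem hg (hM _ _ _)) (inv_mem hg)
    have hcr : Commute (sRoot π l z (1 : F)) (sRoot π j y d) := Units.ext (by
      rw [Units.val_mul, Units.val_mul, sRoot_coe hπ, sRoot_coe hπ]
      simp only [one_smul, add_mul, mul_add, one_mul, mul_one, smul_mul_assoc, mul_smul_comm,
        slot_comm hlj (rk π z z) (rk π y y)]
      module)
    have hcs : Commute (g * sRoot π l z 1 * g⁻¹) (sRoot π 0 x c) := by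
      rw [← e]
      exact (Commute.conj_iff g).mpr hcr
    have hc0 : c ≠ 0 := fun e0 => by
      rw [e0, sRoot_zero hπ] at e
      have e1 : sRoot π j y d = 1 := by
        rw [show sRoot π j y d = g⁻¹ * (g * sRoot π j y d * g⁻¹) * g by group, e, mul_one, inv_mul_cancel]
      have h0 := congrArg Units.val e1
      rw [sRoot_coe hπ, Units.val_one, add_eq_left, ← slot_smul'] at h0
      exact smul_ne_zero hd (rk_self_ne_zero π hy) (slot_injective (by omega) j (h0.trans (slot_zero' j).symm))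
    have hcom : ∀ u : GL (Fin (t + 1) → Fin k) F, Commute u (sRoot π 0 x c) →
        u.val * kk π x x = kk π x x * u.val := fun u hu => by
      have h1 := congrArg Units.val hu.eq
      rw [Units.val_mul, Units.val_mul, sRoot_coe hπ, mul_add, add_mul, mul_one, one_mul, add_right_inj,
        mul_smul_comm, smul_mul_assoc, slot_zero_eq_kz] at h1
      exact smul_right_injective _ hc0 h1
    rcases wit_or_factor hπ (by omega) hH hM hx hsH (hcom _ hcs) with h | ⟨L, a, -, haU, haH, he⟩
    · exact Or.inl h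
    · exact Or.inr ⟨a, haU, haH, fun haW => hsW (he ▸ kzU_mem L haW)⟩
  · push Not at hs
    exfalso
    let σ : Equiv.Perm (Fin (t + 1)) := Equiv.swap 0 j
    refine hgW ?_
    have hmem := mem_wreath_of_roots hπ (by omega) (g := g * factorPerm σ) hx hy (r := c / d) ?_ ?_
    · have := mul_mem hmem (inv_mem (factorPerm_mem (F := F) (m := k) σ))
      simpa using this
    · rw [conjHom_mul', conj_factorPerm_slot, Equiv.swap_apply_left]
      have h := congrArg Units.val e
      rw [Units.val_mul, Units.val_mul, sRoot_coe hπ, sRoot_coe hπ, conj_one_add, add_right_inj, ← conjHom_apply,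
        map_smul] at h
      rw [div_eq_inv_mul, ← smul_smul, ← h, inv_smul_smul₀ hd]
    · intro l z hz
      have hne : σ l.succ ≠ j := fun e' => Fin.succ_ne_zero l (σ.injective (e'.trans (Equiv.swap_apply_left 0 j).symm))
      rw [conjHom_mul', conj_factorPerm_slot]
      obtain ⟨i, w, b, -, -, e'⟩ := root_image hπ hk (Nat.succ_pos t) hz one_ne_zero
        (hs (σ l.succ) z hne hz) (hH (mul_mem (mul_mem hg (hM _ _ _)) (inv_mem hg)))
      refine ⟨i, b • rk π w w, ?_⟩
      have h := congrArg Units.val e'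
      rw [Units.val_mul, Units.val_mul, sRoot_coe hπ, sRoot_coe hπ, one_smul, conj_one_add, ← conjHom_apply,
        add_right_inj] at h
      rw [h, slot_smul']

/-- The commutator of a radical element with a middle transvection. -/
theorem exists_com (hπ : Alt0 π) (hk : 0 < k) (hH : H ≤ U (powS π (t + 1))) (hM : HasRoots π H)
    {o v : Fin k → F} (hvo : bf π v o = 0) (hv : v ≠ 0) {h : GL (Fin (t + 1) → Fin k) F} (hh : h ∈ H)
    {X : Matrix (Fin t → Fin k) (Fin t → Fin k) F} (hN : (h.val - 1) * kk π v v = kz (rk π o v) X) :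
    ∃ g ∈ H, g.val = 1 + yel π o v X + kz (rk π o o) (X * adj (powS π t) X) := by
  set N := h.val - 1 with hNd
  have e : h.val = 1 + N := (add_sub_cancel _ _).symm
  obtain ⟨z, hz⟩ := exists_left_ne π hv
  obtain ⟨z', hz'⟩ : ∃ z', bf π z' v = 1 := ⟨(bf π z v)⁻¹ • z, by rw [bf_smul_left, inv_mul_cancel₀ hz]⟩
  set V : Matrix (Fin (t + 1) → Fin k) (Fin (t + 1) → Fin k) F := kk π v v with hV
  set A := kz (rk π o v) X
  set B := kz (rk π v o) (adj (powS π t) X)
  set E := kz (rk π o o) (X * adj (powS π t) X)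
  have hi : (h⁻¹).val = 1 + adj (powS π (t + 1)) N := by rw [inv_eq_adj _ (hH hh), e, adj_add, adj_one]
  have hVN : V * adj (powS π (t + 1)) N = B := by
    have := congrArg (adj (powS π (t + 1))) hN
    rw [adj_mul, hV, adj_kk' hπ, adj_kz, hπ.adj_rk', neg_mul, ← neg_one_smul F (rk π v o), kz_smul_left,
      neg_one_smul, neg_inj] at this
    exact this
  have hNB : N * B = E := by
    have e1 : B = V * kz (rk π z' o) (adj (powS π t) X) := by
      rw [hV, kk, kz_mul, rk_mul, hz', one_smul, one_mul]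
    rw [e1, ← mul_assoc, hN, kz_mul, rk_mul, hz', one_smul]
  set t₀ := kzU (st (bf π) v 1) (1 : GL (Fin t → Fin k) F) with ht₀
  have ht₀H : t₀ ∈ H := kzU_one_mem hπ hM (st_mem_isom hπ.form _ _)
  have hVV : V * V = 0 := by rw [hV, kk_mul, hπ.self, zero_smul]
  have ht₀v : t₀.val = 1 + V := by
    rw [kzU_coe, st_coe hπ, one_smul, Units.val_one, kz_add_left, kz_one, hV, kk]
  have ht₀i : (t₀⁻¹).val = 1 - V := left_inv_eq_right_inv (Units.inv_mul _) (by
    rw [ht₀v, mul_sub, mul_one, add_mul, one_mul, hVV, add_zero, add_sub_cancel_right])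
  refine ⟨h * t₀ * h⁻¹ * t₀⁻¹, mul_mem (mul_mem (mul_mem hh ht₀H) (inv_mem hh)) (inv_mem ht₀H), ?_⟩
  have e1 : (h * t₀ * h⁻¹).val = 1 + V + A + B + E := by
    rw [Units.val_mul, Units.val_mul, ht₀v, mul_add, mul_one, add_mul, Units.mul_inv, e, hi]
    simp only [add_mul, mul_add, one_mul, mul_one, hVN, hNB, hN,
      show A * adj (powS π (t + 1)) N = E by rw [← hN, mul_assoc, hVN, hNB]]
    abel
  rw [Units.val_mul, e1, ht₀i]
  have kA : A * V = 0 := by rw [hV, kk, kz_mul, rk_mul, hπ.self, zero_smul, kz_zero_left]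
  have kB : B * V = 0 := by rw [hV, kk, kz_mul, rk_mul, hvo, zero_smul, kz_zero_left]
  have kE : E * V = 0 := by rw [hV, kk, kz_mul, rk_mul, hvo, zero_smul, kz_zero_left]
  simp only [mul_sub, add_mul, mul_one, one_mul, hVV, kA, kB, kE, yel]
  abel

theorem yel_sq (hπ : Alt0 π) {o v : Fin k → F} (hov : bf π o v = 0)
    (X X' : Matrix (Fin t → Fin k) (Fin t → Fin k) F) : yel π o v X * yel π o v X' = 0 := by
  simp only [yel, mul_add, add_mul, kz_mul, rk_mul, hπ.self, hov, bf_eq_zero_comm π hov, zero_smul, kz_zero_left,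
    add_zero]

/-- Removing the top by a commutator with a scalar middle element. -/
theorem inR_of_wit (hπ : Alt0 π) (hk : 5 ≤ k) (hH : H ≤ U (powS π (t + 1))) (hM : HasRoots π H) (hw : Wit π H) :
    ∃ o d X, o ≠ 0 ∧ bf π o d = 0 ∧ (∀ c : F, d ≠ c • o) ∧ NS X ∧ InR π H o d X := by
  obtain ⟨o, v, h, X, ho, hvo, hind, hh, hX, hN⟩ := hw
  obtain ⟨g, hg, eg⟩ := exists_com hπ (by omega) hH hM hvo (fun e => hind 0 (by rw [e, zero_smul])) hh hN
  obtain ⟨c', hvc, hoc⟩ := exists_dual hπ ho hind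
  obtain ⟨d, hdo, hdv, hdc, hdi⟩ : ∃ d, bf π o d = 0 ∧ bf π v d = 0 ∧ bf π c' d = 0 ∧ ∀ c : F, d ≠ c • o := by
    let L : (Fin k → F) →ₗ[F] F × F × F :=
      { toFun := fun x => (bf π o x, bf π v x, bf π c' x)
        map_add' := fun a b => by simp [bf_add_right]
        map_smul' := fun r a => by simp [bf_smul_right] }
    by_contra hcon
    push Not at hcon
    have hle : LinearMap.ker L ≤ Submodule.span F {o} := fun x hx => by
      simp only [LinearMap.mem_ker, L, LinearMap.coe_mk, AddHom.coe_mk, Prod.mk_eq_zero] at hx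
      obtain ⟨c, rfl⟩ := hcon x hx.1 hx.2.1 hx.2.2
      exact Submodule.smul_mem _ _ (Submodule.mem_span_singleton_self o)
    have h1 := (Submodule.finrank_mono hle).trans (le_of_eq (finrank_span_singleton ho))
    have h2 := L.finrank_range_add_finrank_ker
    have h3 : Module.finrank F (LinearMap.range L) ≤ 3 :=
      (Submodule.finrank_le _).trans (by rw [Module.finrank_prod, Module.finrank_prod, Module.finrank_self])
    rw [Module.finrank_fin_fun] at h2
    omega
  refine ⟨o, d, X, ho, hdo, hdi, hX, ?_⟩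
  obtain ⟨m, hmH, hm⟩ := exists_yel_one hπ hM hdc
  have hov : bf π o v = 0 := bf_eq_zero_comm π hvo
  have hco : bf π c' o = 0 := bf_eq_zero_comm π hoc
  have hcv : bf π c' v = -1 := by rw [hπ.skew, hvc]
  have hdo' : bf π d o = 0 := bf_eq_zero_comm π hdo
  have hdv' : bf π d v = 0 := bf_eq_zero_comm π hdv
  have hdc' : bf π d c' = 0 := bf_eq_zero_comm π hdc
  refine ⟨(g * m * g⁻¹ * m⁻¹)⁻¹, inv_mem (mul_mem (mul_mem (mul_mem hg hmH) (inv_mem hg)) (inv_mem hmH)), ?_⟩
  set Y := yel π o v X with hY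
  set E := kz (rk π o o) (X * adj (powS π t) X) with hE
  set M := yel π c' d (1 : Matrix (Fin t → Fin k) (Fin t → Fin k) F) with hMd
  set R := yel π o d X with hR
  have hYY : Y * Y = 0 := yel_sq hπ hov _ _
  have hMM : M * M = 0 := yel_sq hπ hdc _ _
  have hRR : R * R = 0 := yel_sq hπ hdo _ _
  have hk1 : E * Y = 0 ∧ Y * E = 0 ∧ E * E = 0 ∧ E * M = 0 ∧ M * E = 0 := by
    simp only [hY, hE, hMd, yel, adj_one, mul_add, add_mul, kz_mul, rk_mul, hπ.self, hov, hvo, hoc, hco, hdo, hdo',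
      zero_smul, kz_zero_left, add_zero, and_self]
  obtain ⟨hEY, hYE, hEE, hEM, hME⟩ := hk1
  have hYM : Y * M - M * Y = -R := by
    simp only [hY, hMd, hR, yel, adj_one, mul_add, add_mul, kz_mul, rk_mul, hπ.self, hvc, hcv, hoc, hco, hdo, hdo',
      hdv, hdv', hov, hvo, zero_smul, one_smul, kz_zero_left, neg_smul, kz_neg_left, add_zero, zero_add, one_mul, mul_one]
    abel
  have hRM : R * M = 0 := by
    simp only [hMd, hR, yel, adj_one, mul_add, add_mul, kz_mul, rk_mul, hπ.self, hoc, hco, hdo, hdo', hdc, hdc',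
      zero_smul, kz_zero_left, add_zero]
  have hYMY : Y * M * Y = 0 := by
    simp only [hY, hMd, yel, adj_one, mul_add, add_mul, kz_mul, rk_mul, smul_mul_assoc, hπ.self, hvc, hcv, hoc, hco,
      hdo, hdo', hdv, hdv', hov, hvo, zero_smul, one_smul, kz_zero_left, smul_zero, add_zero, zero_add, zero_mul,
      neg_smul, neg_zero, kz_neg_left, neg_mul]
  have hgi : (g⁻¹).val = 1 - Y - E := left_inv_eq_right_inv (Units.inv_mul g) (by
    rw [eg]
    simp only [mul_sub, add_mul, mul_one, one_mul, hYY, hEY, hYE, hEE]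
    abel)
  have hconj : (g * m * g⁻¹).val = 1 + M - R := by
    rw [Units.val_mul, Units.val_mul, hm, mul_add, mul_one, add_mul, Units.mul_inv, eg, hgi]
    simp only [mul_sub, add_mul, one_mul, mul_one, hEM, hYMY, hME, mul_assoc Y M E, mul_zero, zero_mul]
    rw [← neg_neg R, ← hYM]
    abel
  refine left_inv_eq_right_inv (Units.inv_mul _) ?_
  have hmi : (m⁻¹).val = 1 - M := left_inv_eq_right_inv (Units.inv_mul m) (by
    rw [hm, mul_sub, mul_one, add_mul, one_mul, hMM, add_zero, add_sub_cancel_right])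
  rw [Units.val_mul, hconj, hmi]
  simp only [mul_sub, sub_mul, mul_add, add_mul, one_mul, mul_one, hMM, hRM, hRR, zero_mul]
  abel

/-- A radical shape with a block which is not scalar. -/
def HasInR (π : Sgn F (Fin k)) (H : Subgroup (GL (Fin (t + 1) → Fin k) F)) : Prop :=
  ∃ (τ : Equiv.Perm (Fin (t + 1))) (o d : Fin k → F) (X : Matrix (Fin t → Fin k) (Fin t → Fin k) F),
    o ≠ 0 ∧ bf π o d = 0 ∧ (∀ c : F, d ≠ c • o) ∧ NS X ∧ InR π (cj τ H) o d X

/-- An overgroup outside the stabiliser has a radical shape whose block is not scalar. -/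
theorem exists_inR (hπ : Alt0 π) (hk : 6 ≤ k) :
    ∀ (t : ℕ) (H : Subgroup (GL (Fin (t + 1) → Fin k) F)), H ≤ U (powS π (t + 1)) → HasRoots π H →
      ¬ H ≤ Geo.tensorWreathStandard k (t + 1) F → HasInR π H := by
  intro t
  induction t with
  | zero => exact fun H _ _ hne => absurd (fun g _ => mem_wreath_one g) hne
  | succ t ih =>
    intro H hH hM hne
    classical
    letI := Fintype.ofFinite F
    have hmoves : ¬ Moves π H := fun h => hne (le_wreath_of_moves hπ hk (Nat.succ_pos _) hM h)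
    simp only [Moves, not_forall, not_not] at hmoves
    obtain ⟨g, hg, hgW, i, x, c, hx, hc, hmem⟩ := hmoves
    obtain ⟨j, y, d, hy, hd, e⟩ := root_image hπ (by omega) (Nat.succ_pos _) (g := g⁻¹) hx hc
      (by rwa [inv_inv]) (by rw [inv_inv]; exact hH (mul_mem (mul_mem (inv_mem hg) (hM i x c)) hg))
    rw [inv_inv] at e
    set p := Equiv.swap (0 : Fin (t + 1 + 1)) i
    have hH1 := cj_le_U (σ := p) hH
    have hM1 := cj_hasRoots hπ (σ := p) hM
    set g1 := factorPerm p * g * (factorPerm p)⁻¹ with hg1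
    have hg1W : g1 ∉ Geo.tensorWreathStandard k (t + 1 + 1) F := fun h => hgW (by
      have := mul_mem (mul_mem (inv_mem (factorPerm_mem (F := F) (m := k) p)) h) (factorPerm_mem (F := F) (m := k) p)
      simpa [g1, mul_assoc] using this)
    have e1 : g1 * sRoot π (p j) y d * g1⁻¹ = sRoot π 0 x c := by
      have h1 : sRoot π i x c = g * sRoot π j y d * g⁻¹ := by rw [← e]; group
      rw [show sRoot π 0 x c = factorPerm p * sRoot π i x c * (factorPerm p)⁻¹ by
          rw [conj_factorPerm_sRoot hπ, Equiv.swap_apply_right],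
        show sRoot π (p j) y d = factorPerm p * sRoot π j y d * (factorPerm p)⁻¹ by
          rw [conj_factorPerm_sRoot hπ], h1, hg1]
      group
    rcases wit_or_rest hπ (by omega) hH1 hM1 (conj_mem_cj hg) hg1W hx hy hd e1 with hw | ⟨a, haU, haH, haW⟩
    · obtain ⟨o, d', X, h1, h2, h3, h4, h5⟩ := inR_of_wit hπ (by omega) hH1 hM1 hw
      exact ⟨p, o, d', X, h1, h2, h3, h4, h5⟩
    · let φ : GL (Fin (t + 1) → Fin k) F →* GL (Fin (t + 1 + 1) → Fin k) F :=
        MonoidHom.mk' (fun B => kzU 1 B) fun B C => by rw [kzU_mul, one_mul]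
      let K : Subgroup (GL (Fin (t + 1) → Fin k) F) := U (powS π (t + 1)) ⊓ (cj p H).comap φ
      have hKM : HasRoots π K := fun l z r => ⟨sRoot_mem_U hπ l z r, by
        show kzU 1 (sRoot π l z r) ∈ cj p H
        rw [show kzU 1 (sRoot π l z r) = sRoot π l.succ z r from Units.ext (by
          rw [kzU_coe, sRoot, sRoot, slotU_coe, slotU_coe, Units.val_one, slot_succ_eq_kz])]
        exact hM1 _ _ _⟩
      obtain ⟨τ', o, d', X, ho, hod, hind, hX, g', hg', eg'⟩ := ih K inf_le_left hKM fun hle => haW (hle ⟨haU, haH⟩)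
      have hup : kzU 1 g' ∈ cj (Equiv.Perm.decomposeFin.symm (0, τ')) (cj p H) := by
        rw [mem_cj, ← kzU_one_factorPerm]
        have h1 : φ ((factorPerm τ')⁻¹ * g' * factorPerm τ') ∈ cj p H := (mem_cj.mp hg').2
        rwa [map_mul, map_mul, map_inv] at h1
      refine ⟨Equiv.swap (0 : Fin (t + 1 + 1)) 1 * (Equiv.Perm.decomposeFin.symm (0, τ') * p), o, d', kz 1 X, ho, hod,
        hind, fun r hr => hX r (kz_cancel (A := (1 : Matrix (Fin k) (Fin k) F)) (fun h1 => ?_) ?_), ?_⟩
      · have := congrFun (congrFun h1 ⟨0, by omega⟩) ⟨0, by omega⟩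
        simp at this
      · rw [hr, kz_smul_right, kz_one]
      · refine ⟨_, (cj_cj _ _ H ▸ cj_cj _ _ H ▸ conj_mem_cj hup), ?_⟩
        rw [Units.val_mul, Units.val_mul, kzU_coe, Units.val_one, eg', kz_add_right, kz_one, conj_one_add,
          ← conjHom_apply, yel, yel, kz_add_right, map_add, conj_swap_kz, conj_swap_kz, adj_kz, adj_one]

end Cfsg.Agent.WreathP
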